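import Mathlib

/-!
# Descent of one-dimensional semilinear actions along a factorial ring (helper640)

`R` a factorial domain with fraction field `K`, `L` a finite group acting on both, `f : L → K` with
values `≠ 0` and `f (a b) = f a * a (f b)`. Then there is `g ≠ 0` in `K` such that
`f a * a (g)` is a unit of `R` times `g`.
-/

set_option autoImplicit false

namespace Cfsg.Agent.H640

theorem descent {R K L : Type*} [CommRing R] [IsDomain R] [UniqueFactorizationMonoid R]
    [Field K] [Algebra R K] [IsFractionRing R K] [Group L] [Finite L]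
    (σ : L → R ≃+* R) (τ : L → K ≃+* K)
    (hστ : ∀ a r, τ a (algebraMap R K r) = algebraMap R K (σ a r))
    (f : L → K) (hf0 : ∀ a, f a ≠ 0) (hf : ∀ a b, f (a * b) = f a * τ a (f b)) :
    ∃ g : K, g ≠ 0 ∧ ∀ a, ∃ u : Rˣ, f a * τ a g = algebraMap R K u * g := by
  classical
  have := Fintype.ofFinite L
  let _ : NormalizedGCDMonoid R := Classical.choice inferInstance
  obtain ⟨⟨d, hd⟩, hd'⟩ := IsLocalization.exist_integer_multiples_of_finite (nonZeroDivisors R) f
  have hd0 : d ≠ 0 := nonZeroDivisors.ne_zero hd
  have hdK : algebraMap R K d ≠ 0 := by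
    simpa using (map_ne_zero_iff (algebraMap R K) (IsFractionRing.injective R K)).2 hd0
  choose n hn using hd'
  have hn' : ∀ a, algebraMap R K (n a) = algebraMap R K d * f a := by
    intro a
    have := hn a
    rw [this]
    simp [Algebra.smul_def]
  have hinj : Function.Injective (algebraMap R K) := IsFractionRing.injective R K
  have hrel : ∀ b a, n b * σ b (n a) = σ b d * n (b * a) := by
    intro b a
    apply hinj
    rw [map_mul, map_mul, ← hστ, ← hστ, hn', hn', hn', hf, map_mul]
    ring
  set G : R := Finset.univ.gcd n with hG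
  have hG0 : G ≠ 0 := by
    intro h0
    rw [hG, Finset.gcd_eq_zero_iff] at h0
    have h1 := h0 1 (Finset.mem_univ _)
    have h2 := hn' 1
    rw [h1, map_zero] at h2
    exact (mul_ne_zero hdK (hf0 1)) h2.symm
  have hσG : ∀ b, Associated (σ b G) (Finset.univ.gcd fun a => σ b (n a)) := by
    intro b
    refine associated_of_dvd_dvd ?_ ?_
    · refine Finset.dvd_gcd fun a ha => ?_
      exact map_dvd (σ b) (Finset.gcd_dvd ha)
    · have h1 : (σ b).symm (Finset.univ.gcd fun a => σ b (n a)) ∣ G := by
        refine Finset.dvd_gcd fun a ha => ?_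
        have h2 := map_dvd (σ b).symm (Finset.gcd_dvd (f := fun a => σ b (n a)) ha)
        simpa using h2
      simpa using map_dvd (σ b) h1
  have hshift : ∀ b, Associated (Finset.univ.gcd fun a => n (b * a)) G := by
    intro b
    refine associated_of_dvd_dvd ?_ ?_
    · refine Finset.dvd_gcd fun a _ => ?_
      have h2 := Finset.gcd_dvd (f := fun a => n (b * a)) (Finset.mem_univ (b⁻¹ * a))
      simpa using h2
    · refine Finset.dvd_gcd fun a _ => ?_
      exact Finset.gcd_dvd (Finset.mem_univ _)
  have hmain : ∀ b, Associated (σ b d * G) (n b * σ b G) := by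
    intro b
    have h1 : Associated (n b * σ b G) (Finset.univ.gcd fun a => n b * σ b (n a)) :=
      (Associated.mul_left (n b) (hσG b)).trans (Finset.gcd_mul_left' _ _ _).symm
    have h2 : Associated (σ b d * G) (Finset.univ.gcd fun a => σ b d * n (b * a)) :=
      (Associated.mul_left (σ b d) (hshift b).symm).trans (Finset.gcd_mul_left' _ _ _).symm
    have h3 : (fun a => n b * σ b (n a)) = fun a => σ b d * n (b * a) := funext (hrel b)
    rw [h3] at h1
    exact h2.trans h1.symm
  refine ⟨algebraMap R K G / algebraMap R K d, div_ne_zero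
    ((map_ne_zero_iff _ hinj).2 hG0) hdK, fun b => ?_⟩
  obtain ⟨u, hu⟩ := hmain b
  refine ⟨u, ?_⟩
  have hfb : f b = algebraMap R K (n b) / algebraMap R K d := by
    rw [hn', mul_div_cancel_left₀ _ hdK]
  have hσd : algebraMap R K (σ b d) ≠ 0 :=
    (map_ne_zero_iff _ hinj).2 (by simpa using hd0)
  rw [hfb, map_div₀, hστ, hστ]
  have h4 : algebraMap R K (n b) * algebraMap R K (σ b G) =
      algebraMap R K (σ b d) * algebraMap R K G * algebraMap R K (u : R) := by
    rw [← map_mul, ← hu, map_mul, map_mul]
  field_simp
  linear_combination h4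

end Cfsg.Agent.H640
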