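import Mathlib

/-!
# Identities in characteristic `p` (helper640)
-/

set_option autoImplicit false

namespace Cfsg.Agent.H640

open Polynomial

theorem sub_one_pow_p (k : Type*) {A : Type*} [Field k] [Ring A] [Algebra k A] (p : ℕ)
    [Fact p.Prime] [CharP k p] (x : A) : (x - 1) ^ p = x ^ p - 1 := by
  have h : (X - 1 : k[X]) ^ p = X ^ p - 1 := by
    rw [sub_pow_char, one_pow]
  have := congrArg (aeval x) h
  simpa using this

theorem sub_one_pow_pred (k : Type*) {A : Type*} [Field k] [Ring A] [Algebra k A] (p : ℕ)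
    [Fact p.Prime] [CharP k p] (x : A) : (x - 1) ^ (p - 1) = ∑ j ∈ Finset.range p, x ^ j := by
  have h : (X - 1 : k[X]) ^ (p - 1) = ∑ j ∈ Finset.range p, X ^ j := by
    have hX : (X - 1 : k[X]) ≠ 0 := by simpa using X_sub_C_ne_zero (1 : k)
    apply mul_left_cancel₀ hX
    rw [← pow_succ', Nat.sub_add_cancel (Fact.out : p.Prime).one_lt.le, mul_geom_sum,
      sub_pow_char, one_pow]
  have := congrArg (aeval x) h
  simpa using this

end Cfsg.Agent.H640
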