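import Mathlib

/-!
# Nilpotent operators with `X ^ p = 0`: dimensions and the space `ker X / im X ^ (p - 1)` (helper640)

* `finrank_ker_add_le` : `dim ker X + (p - 1) rank (X ^ (p - 1)) ≤ dim V`;
* `dvd_of_ker_le` : if `ker X ≤ im X ^ (p - 1)` then `p ∣ dim V`;
* `exists_span` : if all endomorphisms commuting with `X` act as scalars on `ker X / im X ^ (p - 1)`,
  this space is at most one-dimensional.
-/

set_option autoImplicit false

namespace Cfsg.Agent.H640

open Module LinearMap

section Nilp

variable {K V : Type*} [Field K] [AddCommGroup V] [Module K V]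

theorem finrank_range_pow [FiniteDimensional K V] (X : End K V) (j : ℕ) :
    finrank K (range (X ^ j)) =
      finrank K (range (X ^ (j + 1))) + finrank K ↥(ker X ⊓ range (X ^ j)) := by
  have h := LinearMap.finrank_range_add_finrank_ker (X.comp (range (X ^ j)).subtype)
  have h1 : range (X.comp (range (X ^ j)).subtype) = range (X ^ (j + 1)) := by
    rw [LinearMap.range_comp, Submodule.range_subtype, ← LinearMap.range_comp, pow_succ']
    rfl
  have h2 : finrank K (ker (X.comp (range (X ^ j)).subtype)) =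
      finrank K ↥(ker X ⊓ range (X ^ j)) := by
    rw [LinearMap.ker_comp]
    have e := Submodule.comapSubtypeEquivOfLe
      (p := ker X ⊓ range (X ^ j)) (q := range (X ^ j)) inf_le_right
    have h3 : Submodule.comap (range (X ^ j)).subtype (ker X) =
        Submodule.comap (range (X ^ j)).subtype (ker X ⊓ range (X ^ j)) := by
      ext x
      simp
    rw [h3]
    exact e.finrank_eq
  rw [h1, h2] at h
  exact h.symm

theorem finrank_eq_sum [FiniteDimensional K V] (X : End K V) (n : ℕ) :
    finrank K V = ∑ j ∈ Finset.range n, finrank K ↥(ker X ⊓ range (X ^ j)) +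
      finrank K (range (X ^ n)) := by
  induction n with
  | zero =>
    rw [Finset.range_zero, Finset.sum_empty, zero_add, pow_zero, Module.End.one_eq_id,
      LinearMap.range_id, finrank_top]
  | succ n ih =>
    rw [Finset.sum_range_succ, ih, finrank_range_pow X n]
    ring

theorem range_pow_le (X : End K V) {i j : ℕ} (h : i ≤ j) : range (X ^ j) ≤ range (X ^ i) := by
  obtain ⟨c, rfl⟩ := Nat.exists_eq_add_of_le h
  rw [pow_add]
  exact LinearMap.range_comp_le_range _ _

/-- `dim ker X + (p - 1) rank (X ^ (p - 1)) ≤ dim V`. -/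
theorem finrank_ker_add_le [FiniteDimensional K V] (X : End K V) {p : ℕ} (hp : 0 < p)
    (hX : X ^ p = 0) :
    finrank K (ker X) + (p - 1) * finrank K (range (X ^ (p - 1))) ≤ finrank K V := by
  obtain ⟨q, rfl⟩ : ∃ q, p = q + 1 := ⟨p - 1, by omega⟩
  rw [finrank_eq_sum X (q + 1), Finset.sum_range_succ', Nat.add_sub_cancel]
  have h0 : finrank K ↥(ker X ⊓ range (X ^ 0)) = finrank K (ker X) := by
    rw [pow_zero, Module.End.one_eq_id, LinearMap.range_id, inf_top_eq]
  have h1 : q * finrank K (range (X ^ q)) ≤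
      ∑ j ∈ Finset.range q, finrank K ↥(ker X ⊓ range (X ^ (j + 1))) := by
    have : q * finrank K (range (X ^ q)) =
        ∑ j ∈ Finset.range q, finrank K (range (X ^ q)) := by
      rw [Finset.sum_const, Finset.card_range, smul_eq_mul]
    rw [this]
    refine Finset.sum_le_sum fun j hj => ?_
    refine Submodule.finrank_mono (le_inf ?_ ?_)
    · rintro _ ⟨v, rfl⟩
      rw [LinearMap.mem_ker, ← Module.End.mul_apply, ← pow_succ', hX]
      rfl
    · exact range_pow_le X (by rw [Finset.mem_range] at hj; omega)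
  rw [h0]
  omega

/-- If `ker X ≤ im X ^ (p - 1)` and `X ^ p = 0`, then `p ∣ dim V`. -/
theorem dvd_of_ker_le [FiniteDimensional K V] (X : End K V) {p : ℕ} (hp : 0 < p)
    (hX : X ^ p = 0) (h : ker X ≤ range (X ^ (p - 1))) : p ∣ finrank K V := by
  refine ⟨finrank K (ker X), ?_⟩
  rw [finrank_eq_sum X p]
  have h1 : ∀ j ∈ Finset.range p, finrank K ↥(ker X ⊓ range (X ^ j)) = finrank K (ker X) := by
    intro j hj
    rw [Finset.mem_range] at hj
    rw [inf_eq_left.2 (h.trans (range_pow_le X (by omega)))]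
  rw [Finset.sum_congr rfl h1, Finset.sum_const, Finset.card_range, smul_eq_mul, hX,
    LinearMap.range_zero, finrank_bot, add_zero]

/-- If all endomorphisms commuting with `X` act as scalars on `ker X / im X ^ (p - 1)`, then this
space is at most one-dimensional. -/
theorem exists_span (X : End K V) {p : ℕ}
    (h : ∀ f : End K V, Commute f X → ∃ c : K, ∀ w ∈ ker X, f w - c • w ∈ range (X ^ (p - 1))) :
    ∃ v ∈ ker X, ∀ w ∈ ker X, ∃ a : K, w - a • v ∈ range (X ^ (p - 1)) := by
  classical
  by_cases h0 : ker X ≤ range (X ^ (p - 1))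
  · exact ⟨0, zero_mem _, fun w hw => ⟨0, by simpa using h0 hw⟩⟩
  let P : ℕ → Prop := fun j => ∃ v, v ∈ ker X ∧ v ∈ range (X ^ j) ∧ v ∉ range (X ^ (p - 1))
  have hP0 : P 0 := by
    obtain ⟨v, hv, hv'⟩ := SetLike.not_le_iff_exists.1 h0
    exact ⟨v, hv, by simp [Module.End.one_eq_id], hv'⟩
  have hPn : ¬ P (p - 1) := fun ⟨v, _, h1, h2⟩ => h2 h1
  obtain ⟨j, hj, hj'⟩ : ∃ j, P j ∧ ¬ P (j + 1) := by
    by_contra hcon
    push Not at hcon
    exact hPn (Nat.rec (motive := fun n => P n) hP0 (fun n hn => hcon n hn) (p - 1))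
  obtain ⟨v, hvk, ⟨u, hu⟩, hvp⟩ := hj
  have hvj : v ∉ range (X ^ (j + 1)) := fun hh => hj' ⟨v, hvk, hh, hvp⟩
  obtain ⟨lam, hlam, hlam'⟩ := Submodule.exists_le_ker_of_notMem hvj
  set lam1 : V →ₗ[K] K := (lam v)⁻¹ • lam with hlam1
  have hl1 : lam1 v = 1 := by
    rw [hlam1, LinearMap.smul_apply, smul_eq_mul, inv_mul_cancel₀ hlam]
  have hl2 : ∀ w, lam1 ((X ^ (j + 1)) w) = 0 := by
    intro w
    have : lam ((X ^ (j + 1)) w) = 0 := hlam' ⟨w, rfl⟩
    rw [hlam1, LinearMap.smul_apply, this, smul_zero]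
  have hXu : (X ^ (j + 1)) u = 0 := by
    rw [pow_succ', Module.End.mul_apply, hu]
    exact hvk
  let g : End K V := lam1.smulRight u
  have hg : ∀ w, g w = lam1 w • u := fun w => rfl
  let f : End K V := ∑ i ∈ Finset.range (j + 1), X ^ i * g * X ^ (j - i)
  have hf : ∀ w ∈ ker X, f w = lam1 w • v := by
    intro w hw
    have hw' : X w = 0 := hw
    simp only [f, LinearMap.sum_apply, Module.End.mul_apply]
    rw [Finset.sum_range_succ, Finset.sum_eq_zero]
    · rw [Nat.sub_self, pow_zero, Module.End.one_apply, hg, map_smul, hu, zero_add]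
    · intro i hi
      rw [Finset.mem_range] at hi
      obtain ⟨c, hc⟩ : ∃ c, j - i = c + 1 := ⟨j - i - 1, by omega⟩
      rw [hc, pow_succ, Module.End.mul_apply, hw', map_zero, map_zero, map_zero]
  have hcomm : Commute f X := by
    have e1 : f * X = ∑ i ∈ Finset.range (j + 1), X ^ i * g * X ^ (j + 1 - i) := by
      simp only [f, Finset.sum_mul]
      refine Finset.sum_congr rfl fun i hi => ?_
      rw [Finset.mem_range] at hi
      rw [mul_assoc, ← pow_succ]
      congr 2
      omega
    have e2 : X * f = ∑ i ∈ Finset.range (j + 1), X ^ (i + 1) * g * X ^ (j + 1 - (i + 1)) := by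
      simp only [f, Finset.mul_sum]
      refine Finset.sum_congr rfl fun i hi => ?_
      rw [← mul_assoc, ← mul_assoc, ← pow_succ']
      congr 2
      omega
    have e3 : g * X ^ (j + 1) = 0 := by
      ext w
      rw [Module.End.mul_apply, hg, hl2, zero_smul]
      rfl
    have e4 : X ^ (j + 1) * g = 0 := by
      ext w
      rw [Module.End.mul_apply, hg, map_smul, hXu, smul_zero]
      rfl
    have e5 : f * X = X * f := by
      rw [e1, e2, Finset.sum_range_succ', Finset.sum_range_succ]
      congr 1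
      rw [pow_zero, one_mul, Nat.sub_zero, e3, Nat.sub_self, pow_zero, mul_one, e4]
    exact e5
  obtain ⟨c, hc⟩ := h f hcomm
  have hc1 : c = 1 := by
    by_contra hne
    have h1 := hc v hvk
    rw [hf v hvk, hl1, one_smul] at h1
    have h2 : v - c • v = (1 - c) • v := by rw [sub_smul, one_smul]
    rw [h2] at h1
    exact hvp ((Submodule.smul_mem_iff _ (sub_ne_zero.2 (Ne.symm hne))).1 h1)
  refine ⟨v, hvk, fun w hw => ⟨lam1 w, ?_⟩⟩
  have h1 := hc w hw
  rw [hf w hw, hc1, one_smul] at h1
  have h2 : w - lam1 w • v = -(lam1 w • v - w) := by abel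
  rw [h2]
  exact neg_mem h1

end Nilp

end Cfsg.Agent.H640
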