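import Mathlib
import Cfsg.Agent.H640.Nilp
import Cfsg.Agent.H640.CharP

/-!
# Counting in direct summands of permutation modules (helper640)

`a i` (`i : Fin r`) commuting permutations of `Ω` with `(a i) ^ p = 1`, `fixSet j` the points fixed by
the `a l`, `l < j`, `π` a projection of `Ω → k` commuting with the permutations.
`rho i` is the rank of `w ↦ pr (τ_i ^ (p - 1) (π w))` on the functions supported on `fixSet i`.
* `main` : `rank π ≤ p * ∑ rho i + dim (pr_r π k[fixSet r])`.
-/

set_option autoImplicit false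

namespace Cfsg.Agent.H640.Count

open Module

variable {k Ω : Type*} [Field k]

/-- the permutation operator on functions -/
def perm (k : Type*) [Field k] {Ω : Type*} (a : Equiv.Perm Ω) : End k (Ω → k) :=
  LinearMap.funLeft k k a.symm

theorem perm_apply (a : Equiv.Perm Ω) (f : Ω → k) (ω : Ω) : perm k a f ω = f (a.symm ω) := rfl

theorem perm_mul (a b : Equiv.Perm Ω) : perm k (a * b) = perm k a * perm k b := rfl

theorem perm_one : perm k (1 : Equiv.Perm Ω) = 1 := rfl

theorem perm_pow (a : Equiv.Perm Ω) (n : ℕ) : perm k (a ^ n) = perm k a ^ n := by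
  induction n with
  | zero => rw [pow_zero, pow_zero, perm_one]
  | succ n ih => rw [pow_succ, pow_succ, perm_mul, ih]

theorem perm_single [DecidableEq Ω] (a : Equiv.Perm Ω) (ω : Ω) (c : k) :
    perm k a (Pi.single ω c) = Pi.single (a ω) c := by
  funext x
  rw [perm_apply, Pi.single_apply, Pi.single_apply]
  simp only [Equiv.symm_apply_eq]

/-- `a - 1` -/
def tau (k : Type*) [Field k] {Ω : Type*} (a : Equiv.Perm Ω) : End k (Ω → k) := perm k a - 1

theorem tau_apply (a : Equiv.Perm Ω) (f : Ω → k) (ω : Ω) :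
    tau k a f ω = f (a.symm ω) - f ω := rfl

theorem tau_pow_p {p : ℕ} [Fact p.Prime] [CharP k p] (a : Equiv.Perm Ω) (ha : a ^ p = 1) :
    tau k a ^ p = 0 := by
  rw [tau, sub_one_pow_p k p, ← perm_pow, ha, perm_one, sub_self]

theorem tau_pow_pred {p : ℕ} [Fact p.Prime] [CharP k p] (a : Equiv.Perm Ω) :
    tau k a ^ (p - 1) = ∑ j ∈ Finset.range p, perm k (a ^ j) := by
  rw [tau, sub_one_pow_pred k p]
  exact Finset.sum_congr rfl fun j _ => (perm_pow a j).symm

theorem perm_tau_pow {p : ℕ} [Fact p.Prime] [CharP k p] (a : Equiv.Perm Ω) (ha : a ^ p = 1)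
    (f : Ω → k) : perm k a ((tau k a ^ (p - 1)) f) = (tau k a ^ (p - 1)) f := by
  have h : tau k a * tau k a ^ (p - 1) = 0 := by
    rw [← pow_succ', Nat.sub_add_cancel (Fact.out : p.Prime).one_lt.le, tau_pow_p a ha]
  have h1 := LinearMap.congr_fun h f
  rw [Module.End.mul_apply, LinearMap.zero_apply] at h1
  have h2 : perm k a ((tau k a ^ (p - 1)) f) - (tau k a ^ (p - 1)) f = 0 := h1
  exact sub_eq_zero.1 h2

theorem perm_pow_tau_pow {p : ℕ} [Fact p.Prime] [CharP k p] (a : Equiv.Perm Ω) (ha : a ^ p = 1)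
    (f : Ω → k) (j : ℕ) : (perm k a ^ j) ((tau k a ^ (p - 1)) f) = (tau k a ^ (p - 1)) f := by
  induction j with
  | zero => rw [pow_zero]; rfl
  | succ j ih => rw [pow_succ, Module.End.mul_apply, perm_tau_pow a ha, ih]

section Orbit

variable {p : ℕ} [Fact p.Prime] [CharP k p] [DecidableEq Ω]

/-- the trace of a point -/
def vec (k : Type*) [Field k] (p : ℕ) (a : Equiv.Perm Ω) (ω : Ω) : Ω → k :=
  (tau k a ^ (p - 1)) (Pi.single ω 1)

theorem vec_apply (a : Equiv.Perm Ω) (ω x : Ω) :
    vec k p a ω x = ∑ j ∈ Finset.range p, if (a ^ j) ω = x then (1 : k) else 0 := by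
  rw [vec, tau_pow_pred, LinearMap.sum_apply, Finset.sum_apply]
  refine Finset.sum_congr rfl fun j _ => ?_
  rw [perm_single, Pi.single_apply]
  simp only [eq_comm]

theorem vec_self (a : Equiv.Perm Ω) (ha : a ^ p = 1) (ω : Ω) (hω : a ω ≠ ω) :
    vec k p a ω ω = 1 := by
  have hp : p.Prime := Fact.out
  rw [vec_apply, Finset.sum_eq_single 0]
  · simp
  · intro j hj hj0
    rw [if_neg]
    intro h
    apply hω
    rw [Finset.mem_range] at hj
    have h1 : Function.IsPeriodicPt a j ω := by
      rw [Function.IsPeriodicPt, Function.IsFixedPt, ← Equiv.Perm.coe_pow]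
      exact h
    have h2 : Function.IsPeriodicPt a p ω := by
      rw [Function.IsPeriodicPt, Function.IsFixedPt, ← Equiv.Perm.coe_pow, ha]
      rfl
    have h3 := h1.gcd h2
    have h4 : Nat.gcd j p = 1 :=
      ((Nat.Prime.coprime_iff_not_dvd hp).2
        (Nat.not_dvd_of_pos_of_lt (Nat.pos_of_ne_zero hj0) hj)).symm
    rw [h4] at h3
    exact h3
  · intro h
    exact absurd (Finset.mem_range.2 hp.pos) h

theorem vec_eq_of_ne_zero (a : Equiv.Perm Ω) (ha : a ^ p = 1) (ω x : Ω)
    (h : vec k p a ω x ≠ 0) : vec k p a x = vec k p a ω := by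
  have h1 : ∃ j, (a ^ j) ω = x := by
    by_contra hcon
    push Not at hcon
    apply h
    rw [vec_apply]
    exact Finset.sum_eq_zero fun j _ => if_neg (hcon j)
  obtain ⟨j, rfl⟩ := h1
  have h2 : Pi.single ((a ^ j) ω) (1 : k) = perm k (a ^ j) (Pi.single ω 1) := by
    rw [perm_single]
  have hc : Commute (perm k a ^ j) (tau k a ^ (p - 1)) :=
    ((Commute.refl (perm k a)).sub_right (Commute.one_right _)).pow_pow _ _
  rw [vec, h2, perm_pow, ← Module.End.mul_apply, ← hc.eq, Module.End.mul_apply,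
    perm_pow_tau_pow a ha]
  rfl

/-- Orbit counting: the moved points of `A` are at most `p` times the rank of the trace map on a
space containing the functions supported on them. -/
theorem card_le [Fintype Ω] (a : Equiv.Perm Ω) (ha : a ^ p = 1) (A : Finset Ω)
    (hA : ∀ ω ∈ A, a ω ≠ ω) (Z : Submodule k (Ω → k)) (hZ : ∀ ω ∈ A, Pi.single ω 1 ∈ Z) :
    A.card ≤ p * finrank k ↥(Z.map (tau k a ^ (p - 1))) := by
  classical
  let O : Finset (Ω → k) := A.image (vec k p a)
  have h1 : A.card ≤ p * O.card := by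
    refine Finset.card_le_mul_card_image A p fun v hv => ?_
    obtain ⟨ω, hω, rfl⟩ := Finset.mem_image.1 hv
    have : (A.filter fun x => vec k p a x = vec k p a ω) ⊆
        (Finset.range p).image fun j => (a ^ j) ω := by
      intro x hx
      rw [Finset.mem_filter] at hx
      obtain ⟨hxA, hx⟩ := hx
      have h2 : vec k p a ω x = 1 := by
        rw [← hx]
        exact vec_self a ha x (hA x hxA)
      by_contra hcon
      rw [Finset.mem_image] at hcon
      push Not at hcon
      rw [vec_apply, Finset.sum_eq_zero fun j hj => if_neg (hcon j hj)] at h2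
      exact zero_ne_one h2
    exact (Finset.card_le_card this).trans (Finset.card_image_le.trans (Finset.card_range p).le)
  refine h1.trans (Nat.mul_le_mul_left p ?_)
  have hli : LinearIndependent k (fun v : O => (v : Ω → k)) := by
    rw [Fintype.linearIndependent_iff]
    intro c hc v
    obtain ⟨ω, hω, hv⟩ := Finset.mem_image.1 v.2
    have h2 := congrFun hc ω
    rw [Finset.sum_apply, Pi.zero_apply, Finset.sum_eq_single v] at h2
    · rw [Pi.smul_apply, ← hv, vec_self a ha ω (hA ω hω), smul_eq_mul, mul_one] at h2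
      exact h2
    · intro v' _ hne
      rw [Pi.smul_apply, smul_eq_mul]
      by_cases h3 : (v' : Ω → k) ω = 0
      · rw [h3, mul_zero]
      · exfalso
        apply hne
        obtain ⟨ω', hω', hv'⟩ := Finset.mem_image.1 v'.2
        apply Subtype.ext
        rw [← hv, ← hv']
        rw [← hv'] at h3
        exact (vec_eq_of_ne_zero a ha ω' ω h3).symm
    · intro h; exact absurd (Finset.mem_univ v) h
  have hspan : Submodule.span k (Set.range fun v : O => (v : Ω → k)) ≤
      Z.map (tau k a ^ (p - 1)) := by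
    rw [Submodule.span_le]
    rintro _ ⟨v, rfl⟩
    obtain ⟨ω, hω, hv⟩ := Finset.mem_image.1 v.2
    exact ⟨Pi.single ω 1, hZ ω hω, hv⟩
  have h3 := finrank_span_eq_card hli
  rw [Fintype.card_coe] at h3
  rw [← h3]
  exact Submodule.finrank_mono hspan

end Orbit

/-! ### One operator on an invariant subspace -/

theorem step {V V' : Type*} [AddCommGroup V] [Module k V] [FiniteDimensional k V]
    [AddCommGroup V'] [Module k V'] {p : ℕ} (hp : 2 ≤ p) (T : End k V) (hT : T ^ p = 0)
    (U W : Submodule k V) (hU : ∀ v ∈ U, T v ∈ U) (hWU : W ≤ U) (hW : ∀ v ∈ W, T v = 0)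
    (g : V →ₗ[k] V') (hg : ∀ v, g (T v) = 0) :
    p * finrank k ↥(U.map (T ^ (p - 1))) + finrank k ↥(W.map g) ≤ finrank k U := by
  let X : End k U := T.restrict hU
  have hX : ∀ n (u : U), (((X ^ n) u : U) : V) = (T ^ n) u := by
    intro n
    induction n with
    | zero => intro u; rfl
    | succ n ih =>
      intro u
      rw [pow_succ', pow_succ', Module.End.mul_apply, Module.End.mul_apply, ← ih]
      rfl
  have hXp : X ^ p = 0 := by
    ext u
    rw [hX, hT]
    rfl
  have h1 := finrank_ker_add_le X (by omega) hXp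
  have h2 : finrank k (LinearMap.range (X ^ (p - 1))) = finrank k ↥(U.map (T ^ (p - 1))) := by
    have e : (LinearMap.range (X ^ (p - 1))).map U.subtype = U.map (T ^ (p - 1)) := by
      ext v
      constructor
      · rintro ⟨_, ⟨u, rfl⟩, rfl⟩
        exact ⟨u, u.2, (hX _ u).symm⟩
      · rintro ⟨u, hu, rfl⟩
        exact ⟨(X ^ (p - 1)) ⟨u, hu⟩, ⟨_, rfl⟩, hX _ _⟩
    rw [← e]
    exact (LinearEquiv.finrank_eq
      (Submodule.equivMapOfInjective U.subtype U.injective_subtype _))
  have h3 : finrank k ↥(W.map g) + finrank k (LinearMap.range (X ^ (p - 1))) ≤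
      finrank k (LinearMap.ker X) := by
    have h4 := LinearMap.finrank_range_add_finrank_ker
      ((g.comp U.subtype).comp (LinearMap.ker X).subtype)
    rw [← h4]
    refine add_le_add ?_ ?_
    · refine Submodule.finrank_mono ?_
      rintro _ ⟨w, hw, rfl⟩
      have hk : (⟨w, hWU hw⟩ : U) ∈ LinearMap.ker X := by
        rw [LinearMap.mem_ker]
        exact Subtype.ext (hW w hw)
      exact ⟨⟨⟨w, hWU hw⟩, hk⟩, rfl⟩
    · have h5 : LinearMap.range (X ^ (p - 1)) ≤
          (LinearMap.ker ((g.comp U.subtype).comp (LinearMap.ker X).subtype)).map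
            (LinearMap.ker X).subtype := by
        rintro _ ⟨u, rfl⟩
        have hk : (X ^ (p - 1)) u ∈ LinearMap.ker X := by
          rw [LinearMap.mem_ker, ← Module.End.mul_apply, ← pow_succ',
            Nat.sub_add_cancel (by omega : 1 ≤ p), hXp]
          rfl
        refine ⟨⟨_, hk⟩, ?_, rfl⟩
        show g (((X ^ (p - 1)) u : U) : V) = 0
        obtain ⟨q, hq⟩ : ∃ q, p - 1 = q + 1 := ⟨p - 2, by omega⟩
        rw [hX, hq, pow_succ', Module.End.mul_apply, hg]
      calc finrank k (LinearMap.range (X ^ (p - 1))) ≤ _ := Submodule.finrank_mono h5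
        _ = _ := (LinearEquiv.finrank_eq (Submodule.equivMapOfInjective _
            (Submodule.injective_subtype _) _)).symm
  rw [← h2]
  have h6 : p * finrank k (LinearMap.range (X ^ (p - 1))) =
      (p - 1) * finrank k (LinearMap.range (X ^ (p - 1))) +
        finrank k (LinearMap.range (X ^ (p - 1))) := by
    obtain ⟨q, rfl⟩ : ∃ q, p = q + 1 := ⟨p - 1, by omega⟩
    rw [Nat.add_sub_cancel]
    ring
  omega

/-! ### The chain of fixed points -/

section Chain

variable {r : ℕ} (a : Fin r → Equiv.Perm Ω)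

/-- common fixed points of the `a l`, `l < j` -/
def fixSet (j : ℕ) : Set Ω := {ω | ∀ l : Fin r, (l : ℕ) < j → a l ω = ω}

open Classical in
/-- restriction of the support to `fixSet a j` -/
noncomputable def pr (k : Type*) [Field k] (j : ℕ) : (Ω → k) →ₗ[k] (Ω → k) where
  toFun f := fun ω => if ω ∈ fixSet a j then f ω else 0
  map_add' f g := by
    funext ω
    by_cases h : ω ∈ fixSet a j <;> simp [h]
  map_smul' c f := by
    funext ω
    by_cases h : ω ∈ fixSet a j <;> simp [h]

theorem pr_apply_of_mem (j : ℕ) (f : Ω → k) {ω : Ω} (h : ω ∈ fixSet a j) :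
    pr a k j f ω = f ω := if_pos h

theorem pr_apply_of_notMem (j : ℕ) (f : Ω → k) {ω : Ω} (h : ω ∉ fixSet a j) :
    pr a k j f ω = 0 := if_neg h

/-- functions supported on `fixSet a j` -/
def Z (k : Type*) [Field k] (j : ℕ) : Submodule k (Ω → k) where
  carrier := {f | ∀ ω, ω ∉ fixSet a j → f ω = 0}
  add_mem' := by
    intro f g hf hg ω hω
    rw [Pi.add_apply, hf ω hω, hg ω hω, add_zero]
  zero_mem' := fun ω _ => rfl
  smul_mem' := by
    intro c f hf ω hω
    rw [Pi.smul_apply, hf ω hω, smul_zero]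

theorem mem_Z {j : ℕ} {f : Ω → k} : f ∈ Z a k j ↔ ∀ ω, ω ∉ fixSet a j → f ω = 0 := Iff.rfl

theorem pr_mem (j : ℕ) (f : Ω → k) : pr a k j f ∈ Z a k j :=
  fun _ h => pr_apply_of_notMem a j f h

theorem pr_of_mem {j : ℕ} {f : Ω → k} (h : f ∈ Z a k j) : pr a k j f = f := by
  funext ω
  by_cases hω : ω ∈ fixSet a j
  · exact pr_apply_of_mem a j f hω
  · rw [pr_apply_of_notMem a j f hω, h ω hω]

theorem fixSet_anti {i j : ℕ} (h : i ≤ j) : fixSet a j ⊆ fixSet a i :=
  fun _ hω l hl => hω l (hl.trans_le h)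

theorem Z_anti {i j : ℕ} (h : i ≤ j) : Z a k j ≤ Z a k i :=
  fun _ hf ω hω => hf ω fun h' => hω (fixSet_anti a h h')

theorem pr_pr {i j : ℕ} (h : i ≤ j) (f : Ω → k) : pr a k j (pr a k i f) = pr a k j f := by
  funext ω
  by_cases hω : ω ∈ fixSet a j
  · rw [pr_apply_of_mem a j _ hω, pr_apply_of_mem a j _ hω,
      pr_apply_of_mem a i _ (fixSet_anti a h hω)]
  · rw [pr_apply_of_notMem a j _ hω, pr_apply_of_notMem a j _ hω]

theorem single_mem_Z [DecidableEq Ω] {j : ℕ} {ω : Ω} (h : ω ∈ fixSet a j) (c : k) :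
    Pi.single ω c ∈ Z a k j := by
  intro x hx
  rw [Pi.single_apply, if_neg]
  rintro rfl
  exact hx h

theorem tau_of_mem {l : Fin r} {j : ℕ} (hl : (l : ℕ) < j) {f : Ω → k} (hf : f ∈ Z a k j) :
    tau k (a l) f = 0 := by
  funext ω
  rw [tau_apply, Pi.zero_apply]
  by_cases hω : ω ∈ fixSet a j
  · rw [(Equiv.symm_apply_eq _).2 (hω l hl).symm, sub_self]
  · by_cases hω' : (a l).symm ω ∈ fixSet a j
    · have := hω' l hl
      rw [Equiv.apply_symm_apply] at this
      rw [← this, sub_self]
    · rw [hf _ hω, hf _ hω', sub_self]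

theorem pr_tau {l : Fin r} {j : ℕ} (hl : (l : ℕ) < j) (f : Ω → k) :
    pr a k j (tau k (a l) f) = 0 := by
  funext ω
  by_cases hω : ω ∈ fixSet a j
  · rw [pr_apply_of_mem a j _ hω, tau_apply, (Equiv.symm_apply_eq _).2 (hω l hl).symm, sub_self]
    rfl
  · rw [pr_apply_of_notMem a j _ hω, Pi.zero_apply]

variable (hcomm : ∀ i j, Commute (a i) (a j))

include hcomm

theorem symm_mem_fixSet_iff (i : Fin r) (j : ℕ) (ω : Ω) :
    (a i).symm ω ∈ fixSet a j ↔ ω ∈ fixSet a j := by
  have h : ∀ l, a l ((a i).symm ω) = (a i).symm (a l ω) := by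
    intro l
    rw [Equiv.eq_symm_apply]
    have := congrArg (fun c : Equiv.Perm Ω => c ((a i).symm ω)) (hcomm i l).eq
    simpa using this
  constructor
  · intro hω l hl
    have := hω l hl
    rw [h] at this
    exact (a i).symm.injective this
  · intro hω l hl
    rw [h, hω l hl]

theorem pr_perm (i : Fin r) (j : ℕ) (f : Ω → k) :
    pr a k j (perm k (a i) f) = perm k (a i) (pr a k j f) := by
  funext ω
  rw [perm_apply]
  by_cases hω : ω ∈ fixSet a j
  · rw [pr_apply_of_mem a j _ hω, pr_apply_of_mem a j _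
      ((symm_mem_fixSet_iff a hcomm i j ω).2 hω), perm_apply]
  · rw [pr_apply_of_notMem a j _ hω, pr_apply_of_notMem a j _
      (fun h => hω ((symm_mem_fixSet_iff a hcomm i j ω).1 h))]

theorem pr_comm_tau (i : Fin r) (j : ℕ) (f : Ω → k) :
    pr a k j (tau k (a i) f) = tau k (a i) (pr a k j f) := by
  have h : tau k (a i) = perm k (a i) - 1 := rfl
  rw [h, LinearMap.sub_apply, LinearMap.sub_apply, map_sub, pr_perm a hcomm]
  rfl

theorem pr_comm_tau_pow (i : Fin r) (j n : ℕ) (f : Ω → k) :
    pr a k j ((tau k (a i) ^ n) f) = (tau k (a i) ^ n) (pr a k j f) := by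
  induction n with
  | zero => rfl
  | succ n ih =>
    rw [pow_succ', Module.End.mul_apply, Module.End.mul_apply, pr_comm_tau a hcomm, ih]

end Chain

section Main

variable {r : ℕ} (a : Fin r → Equiv.Perm Ω) {p : ℕ} [Fact p.Prime] [CharP k p] [Fintype Ω]

/-- `pr_j π k[fixSet j]` -/
noncomputable def UU (π : (Ω → k) →ₗ[k] (Ω → k)) (j : ℕ) : Submodule k (Ω → k) :=
  (Z a k j).map ((pr a k j).comp π)

/-- `pr_i τ_i ^ (p - 1) π k[fixSet i]` -/
noncomputable def QQ (p : ℕ) (π : (Ω → k) →ₗ[k] (Ω → k)) (i : Fin r) : Submodule k (Ω → k) :=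
  (Z a k i).map ((pr a k i).comp ((tau k (a i) ^ (p - 1)).comp π))

theorem step_QQ (hcomm : ∀ i j, Commute (a i) (a j)) (hp : ∀ i, a i ^ p = 1)
    (π : (Ω → k) →ₗ[k] (Ω → k)) (hπ : ∀ i f, π (perm k (a i) f) = perm k (a i) (π f))
    (i : Fin r) :
    p * finrank k (QQ a p π i) + finrank k (UU a π (i + 1)) ≤ finrank k (UU a π i) := by
  have hπτ : ∀ i f, π (tau k (a i) f) = tau k (a i) (π f) := by
    intro i f
    have h : tau k (a i) = perm k (a i) - 1 := rfl
    rw [h, LinearMap.sub_apply, LinearMap.sub_apply, map_sub, hπ]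
    rfl
  have hQ : QQ a p π i = (UU a π i).map (tau k (a i) ^ (p - 1)) := by
    rw [QQ, UU, ← Submodule.map_comp]
    congr 1
    ext1 f
    exact pr_comm_tau_pow a hcomm i i (p - 1) (π f)
  have hU : UU a π (i + 1) = ((Z a k (i + 1)).map ((pr a k i).comp π)).map (pr a k (i + 1)) := by
    rw [UU, ← Submodule.map_comp]
    congr 1
    ext1 f
    exact (pr_pr a (Nat.le_succ _) (π f)).symm
  rw [hQ, hU]
  refine step (Fact.out : p.Prime).two_le (tau k (a i)) (tau_pow_p (a i) (hp i)) _ _ ?_ ?_ ?_ _ ?_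
  · rintro _ ⟨f, hf, rfl⟩
    refine ⟨tau k (a i) f, ?_, ?_⟩
    · have : pr a k i (tau k (a i) f) = tau k (a i) f := by
        rw [pr_comm_tau a hcomm, pr_of_mem a hf]
      rw [← this]
      exact pr_mem a _ _
    · rw [LinearMap.comp_apply, hπτ, pr_comm_tau a hcomm]
      rfl
  · exact Submodule.map_mono (Z_anti a (Nat.le_succ _))
  · rintro _ ⟨f, hf, rfl⟩
    rw [LinearMap.comp_apply, ← pr_comm_tau a hcomm, ← hπτ,
      tau_of_mem a (Nat.lt_succ_self _) hf, map_zero, map_zero]
  · intro v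
    exact pr_tau a (Nat.lt_succ_self _) v

theorem card_fixSet_le (hp : ∀ i, a i ^ p = 1) (hcomm : ∀ i j, Commute (a i) (a j))
    (π π' : (Ω → k) →ₗ[k] (Ω → k)) (hππ : ∀ f, π f + π' f = f) (i : Fin r) :
    (fixSet a (i : ℕ)).ncard ≤ (fixSet a ((i : ℕ) + 1)).ncard +
      p * (finrank k (QQ a p π i) + finrank k (QQ a p π' i)) := by
  classical
  let A : Finset Ω := (fixSet a (i : ℕ) \ fixSet a ((i : ℕ) + 1)).toFinset
  have h1 : (fixSet a (i : ℕ)).ncard = (fixSet a ((i : ℕ) + 1)).ncard + A.card := by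
    have h2 := Set.ncard_sdiff_add_ncard_of_subset (fixSet_anti a (Nat.le_succ (i : ℕ)))
    rw [← h2, add_comm]
    congr 1
    rw [Set.ncard_eq_toFinset_card']
  rw [h1]
  refine Nat.add_le_add_left ?_ _
  have h3 := card_le (k := k) (a i) (hp i) A (p := p) (fun ω hω => by
    rw [Set.mem_toFinset] at hω
    intro h
    apply hω.2
    intro l hl
    rcases Nat.lt_succ_iff_lt_or_eq.1 hl with h4 | h4
    · exact hω.1 l h4
    · rw [Fin.ext h4]
      exact h) (Z a k i) (fun ω hω => by
    rw [Set.mem_toFinset] at hω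
    exact single_mem_Z a hω.1 1)
  refine h3.trans (Nat.mul_le_mul_left p ?_)
  refine (Submodule.finrank_mono ?_).trans (Submodule.finrank_add_le_finrank_add_finrank _ _)
  rintro _ ⟨f, hf, rfl⟩
  have h5 : (tau k (a i) ^ (p - 1)) f = pr a k i ((tau k (a i) ^ (p - 1)) (π f)) +
      pr a k i ((tau k (a i) ^ (p - 1)) (π' f)) := by
    rw [← map_add, ← map_add, hππ, pr_comm_tau_pow a hcomm, pr_of_mem a hf]
  rw [h5]
  exact Submodule.add_mem_sup ⟨f, hf, rfl⟩ ⟨f, hf, rfl⟩

theorem card_fixSet_le_last (π π' : (Ω → k) →ₗ[k] (Ω → k)) (hππ : ∀ f, π f + π' f = f) (j : ℕ) :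
    (fixSet a j).ncard ≤ finrank k (UU a π j) + finrank k (UU a π' j) := by
  classical
  have h1 : (fixSet a j).ncard ≤ finrank k (Z a k j) := by
    have hli : LinearIndependent k
        (fun ω : (fixSet a j) => (⟨Pi.single (ω : Ω) (1 : k), single_mem_Z a ω.2 1⟩ : Z a k j)) := by
      have h2 : LinearIndependent k (fun ω : (fixSet a j) => (Pi.single (ω : Ω) (1 : k) : Ω → k)) := by
        have h3 := (Pi.basisFun k Ω).linearIndependent
        have h4 := h3.comp (fun ω : (fixSet a j) => (ω : Ω)) Subtype.val_injective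
        convert h4 using 2 with ω
        simp [Pi.basisFun_apply]
      exact LinearIndependent.of_comp (Z a k j).subtype h2
    have h5 := hli.fintype_card_le_finrank
    rw [← Nat.card_eq_fintype_card] at h5
    exact h5
  refine h1.trans ((Submodule.finrank_mono ?_).trans
    (Submodule.finrank_add_le_finrank_add_finrank _ _))
  intro f hf
  have h5 : f = pr a k j (π f) + pr a k j (π' f) := by
    rw [← map_add, hππ, pr_of_mem a hf]
  rw [h5]
  exact Submodule.add_mem_sup ⟨f, hf, rfl⟩ ⟨f, hf, rfl⟩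

theorem sum_QQ_le (hcomm : ∀ i j, Commute (a i) (a j)) (hp : ∀ i, a i ^ p = 1)
    (π : (Ω → k) →ₗ[k] (Ω → k)) (hπ : ∀ i f, π (perm k (a i) f) = perm k (a i) (π f)) (j : ℕ)
    (hj : j ≤ r) :
    p * ∑ i ∈ Finset.univ.filter (fun i : Fin r => (i : ℕ) < j), finrank k (QQ a p π i) +
      finrank k (UU a π j) ≤ finrank k (LinearMap.range π) := by
  induction j with
  | zero =>
    have h0 : (Finset.univ.filter (fun i : Fin r => (i : ℕ) < 0)) = ∅ := by
      simp
    rw [h0, Finset.sum_empty, mul_zero, zero_add, UU]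
    have h1 : pr a k 0 = LinearMap.id := by
      ext1 f
      refine pr_of_mem a fun ω hω => absurd ?_ hω
      intro l hl
      exact absurd hl (Nat.not_lt_zero _)
    rw [h1, LinearMap.id_comp]
    exact Submodule.finrank_mono (LinearMap.map_le_range)
  | succ j ih =>
    have h1 : (Finset.univ.filter (fun i : Fin r => (i : ℕ) < j + 1)) =
        insert (⟨j, hj⟩ : Fin r) (Finset.univ.filter (fun i : Fin r => (i : ℕ) < j)) := by
      ext i
      simp only [Finset.mem_filter, Finset.mem_univ, true_and, Finset.mem_insert, Fin.ext_iff]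
      omega
    rw [h1, Finset.sum_insert (by simp)]
    have h2 := step_QQ a hcomm hp π hπ ⟨j, hj⟩
    have h3 := ih (by omega)
    rw [mul_add]
    simp only at h2
    omega

theorem ncard_le_sum (hp : ∀ i, a i ^ p = 1) (hcomm : ∀ i j, Commute (a i) (a j))
    (π π' : (Ω → k) →ₗ[k] (Ω → k)) (hππ : ∀ f, π f + π' f = f) (j : ℕ) (hj : j ≤ r) :
    Nat.card Ω ≤ (fixSet a j).ncard +
      p * (∑ i ∈ Finset.univ.filter (fun i : Fin r => (i : ℕ) < j), finrank k (QQ a p π i) +
        ∑ i ∈ Finset.univ.filter (fun i : Fin r => (i : ℕ) < j), finrank k (QQ a p π' i)) := by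
  induction j with
  | zero =>
    have : fixSet a 0 = Set.univ := by
      ext ω
      simp [fixSet]
    rw [this, Set.ncard_univ]
    exact Nat.le_add_right _ _
  | succ j ih =>
    have h1 : (Finset.univ.filter (fun i : Fin r => (i : ℕ) < j + 1)) =
        insert (⟨j, hj⟩ : Fin r) (Finset.univ.filter (fun i : Fin r => (i : ℕ) < j)) := by
      ext i
      simp only [Finset.mem_filter, Finset.mem_univ, true_and, Finset.mem_insert, Fin.ext_iff]
      omega
    rw [h1, Finset.sum_insert (by simp), Finset.sum_insert (by simp)]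
    have h2 := card_fixSet_le a hp hcomm π π' hππ ⟨j, hj⟩
    have h3 := ih (by omega)
    simp only at h2
    refine h3.trans ((Nat.add_le_add_right h2 _).trans (le_of_eq ?_))
    ring

/-- **The count**: for a projection `π` commuting with the permutations. -/
theorem main (hcomm : ∀ i j, Commute (a i) (a j)) (hp : ∀ i, a i ^ p = 1)
    (π : (Ω → k) →ₗ[k] (Ω → k)) (hπ : ∀ i f, π (perm k (a i) f) = perm k (a i) (π f))
    (hπ2 : ∀ f, π (π f) = π f) :
    finrank k (LinearMap.range π) ≤ p * ∑ i, finrank k (QQ a p π i) + finrank k (UU a π r) := by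
  let π' : (Ω → k) →ₗ[k] (Ω → k) := LinearMap.id - π
  have hππ : ∀ f, π f + π' f = f := by
    intro f
    simp [π']
  have hπ' : ∀ i f, π' (perm k (a i) f) = perm k (a i) (π' f) := by
    intro i f
    simp [π', hπ]
  have hrk : finrank k (LinearMap.range π) + finrank k (LinearMap.range π') = Nat.card Ω := by
    have h1 := LinearMap.finrank_range_add_finrank_ker π
    have h2 : LinearMap.range π' = LinearMap.ker π := by
      ext f
      constructor
      · rintro ⟨g, rfl⟩
        simp [π', hπ2]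
      · intro hf
        refine ⟨f, ?_⟩
        have : π f = 0 := hf
        simp [π', this]
    rw [h2, h1, Module.finrank_fintype_fun_eq_card, Nat.card_eq_fintype_card]
  have huniv : (Finset.univ.filter (fun i : Fin r => (i : ℕ) < r)) = Finset.univ := by
    ext i
    simp
  have h1 := sum_QQ_le a hcomm hp π' hπ' r le_rfl
  have h2 := ncard_le_sum a hp hcomm π π' hππ r le_rfl
  have h3 := card_fixSet_le_last a π π' hππ r
  rw [huniv] at h1 h2
  rw [mul_add] at h2
  omega

end Main

end Cfsg.Agent.H640.Count
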