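import Mathlib

/-!
# Linear independence of leading terms (helper640)

`T i` commuting matrices over a field `k`, `x i` elements of a `k`-algebra `R` specialising to
`X ^ (i + 1)` in `k[X]`. If `T l` kills `w a` for `l < lvl a` and the vectors
`(T (lvl a)) ^ q (w a)` are linearly independent, then so are the vectors
`(∑ x i T i) ^ q (w a)` over any field containing `R`.
-/

set_option autoImplicit false

namespace Cfsg.Agent.H640

open Matrix Polynomial

theorem add_pow_mulVec {S J : Type*} [CommRing S] [Fintype J] [DecidableEq J]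
    (A B : Matrix J J S) (h : Commute A B) (w : J → S) (hw : A.mulVec w = 0) (n : ℕ) :
    ((A + B) ^ n).mulVec w = (B ^ n).mulVec w := by
  induction n with
  | zero => rw [pow_zero, pow_zero]
  | succ n ih =>
    rw [pow_succ', ← Matrix.mulVec_mulVec, ih, Matrix.add_mulVec, Matrix.mulVec_mulVec,
      (h.pow_right n).eq, ← Matrix.mulVec_mulVec, hw, Matrix.mulVec_zero, zero_add,
      Matrix.mulVec_mulVec, ← pow_succ']

theorem exists_leftInverse_matrix {k J A : Type*} [Field k] [Fintype J] [DecidableEq J]
    [Fintype A] [DecidableEq A] (U : Matrix J A k)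
    (hu : LinearIndependent k fun a => fun j => U j a) :
    ∃ Λ : Matrix A J k, Λ * U = 1 := by
  have hinj : LinearMap.ker (Matrix.toLin' U) = ⊥ := by
    rw [LinearMap.ker_eq_bot']
    intro c hc
    have h1 := (Fintype.linearIndependent_iff.1 hu) c (by
      funext j
      have := congrFun hc j
      rw [Matrix.toLin'_apply, Matrix.mulVec, dotProduct] at this
      rw [Finset.sum_apply]
      simp only [Pi.smul_apply, smul_eq_mul, Pi.zero_apply] at this ⊢
      rw [← this]
      exact Finset.sum_congr rfl fun a _ => mul_comm _ _)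
    funext a
    exact h1 a
  obtain ⟨Ψ, hΨ⟩ := LinearMap.exists_leftInverse_of_injective _ hinj
  refine ⟨LinearMap.toMatrix' Ψ, ?_⟩
  have h2 : LinearMap.toMatrix' (Ψ.comp (Matrix.toLin' U)) = 1 := by
    rw [hΨ, LinearMap.toMatrix'_id]
  rw [LinearMap.toMatrix'_comp, LinearMap.toMatrix'_toLin'] at h2
  exact h2

theorem linInd {k R K J A : Type*} [Field k] [CommRing R] [IsDomain R] [Field K]
    [Algebra k R] [Algebra R K] (hRK : Function.Injective (algebraMap R K))
    [Fintype J] [DecidableEq J] [Fintype A] [DecidableEq A] {r : ℕ}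
    (T : Fin r → Matrix J J k) (hT : ∀ i j, Commute (T i) (T j))
    (ev : R →ₐ[k] k[X]) (x : Fin r → R) (hx : ∀ i, ev (x i) = X ^ ((i : ℕ) + 1)) (q : ℕ)
    (lvl : A → Fin r) (w : A → J → k) (hw : ∀ a l, l < lvl a → (T l).mulVec (w a) = 0)
    (hu : LinearIndependent k fun a => ((T (lvl a)) ^ q).mulVec (w a)) :
    LinearIndependent K fun a =>
      (((∑ i, x i • (T i).map (algebraMap k R)).map (algebraMap R K)) ^ q).mulVec
        (fun j => algebraMap R K (algebraMap k R (w a j))) := by
  classical
  obtain ⟨Λ, hΛ⟩ := exists_leftInverse_matrix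
    (Matrix.of fun j a => (((T (lvl a)) ^ q).mulVec (w a)) j) hu
  let Y : Matrix J J R := ∑ i, x i • (T i).map (algebraMap k R)
  let W : Matrix J A k := Matrix.of fun j a => w a j
  let G : Matrix A A R := Λ.map (algebraMap k R) * Y ^ q * W.map (algebraMap k R)
  -- the specialised matrix
  let Y' : Matrix J J k[X] := ∑ i : Fin r, (X : k[X]) ^ ((i : ℕ) + 1) • (T i).map C
  have hYev : Y.map ev = Y' := by
    ext a b
    simp only [Y, Y', Matrix.map_apply, Matrix.sum_apply, Matrix.smul_apply, smul_eq_mul,
      map_sum, map_mul, hx, AlgHom.commutes]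
    rfl
  let B' : A → Matrix J J k[X] := fun a =>
    ∑ l : Fin r, if l < lvl a then 0 else (X : k[X]) ^ ((l : ℕ) - (lvl a : ℕ)) • (T l).map C
  let H : Matrix A A k[X] := Matrix.of fun b a =>
    (Λ.map C).mulVec (((B' a) ^ q).mulVec fun j => C (w a j)) b
  have hTC : ∀ i j, Commute ((T i).map (C : k →+* k[X])) ((T j).map (C : k →+* k[X])) := by
    intro i j
    have := (hT i j).map (RingHom.mapMatrix (C : k →+* k[X]) : Matrix J J k →+* Matrix J J k[X])
    exact this
  have hcol : ∀ a, (Y' ^ q).mulVec (fun j => C (w a j)) =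
      (X : k[X]) ^ (((lvl a : ℕ) + 1) * q) • ((B' a) ^ q).mulVec (fun j => C (w a j)) := by
    intro a
    let A1 : Matrix J J k[X] := ∑ l : Fin r,
      if l < lvl a then (X : k[X]) ^ ((l : ℕ) + 1) • (T l).map C else 0
    let B1 : Matrix J J k[X] := ∑ l : Fin r,
      if l < lvl a then 0 else (X : k[X]) ^ ((l : ℕ) + 1) • (T l).map C
    have h1 : Y' = A1 + B1 := by
      simp only [Y', A1, B1, ← Finset.sum_add_distrib]
      refine Finset.sum_congr rfl fun l _ => ?_
      split_ifs <;> simp
    have h2 : B1 = (X : k[X]) ^ ((lvl a : ℕ) + 1) • B' a := by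
      simp only [B1, B', Finset.smul_sum]
      refine Finset.sum_congr rfl fun l _ => ?_
      split_ifs with hl
      · rw [smul_zero]
      · rw [smul_smul, ← pow_add]
        congr 2
        have : (lvl a : ℕ) ≤ (l : ℕ) := by
          rw [← Fin.le_def]
          exact not_lt.1 hl
        omega
    have h3 : Commute A1 B1 := by
      refine Commute.sum_left _ _ _ fun i _ => Commute.sum_right _ _ _ fun j _ => ?_
      split_ifs
      · exact Commute.zero_right _
      · exact ((hTC i j).smul_left _).smul_right _
      · exact Commute.zero_left _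
      · exact Commute.zero_left _
    have h4 : A1.mulVec (fun j => C (w a j)) = 0 := by
      simp only [A1, Matrix.sum_mulVec]
      refine Finset.sum_eq_zero fun l _ => ?_
      split_ifs with hl
      · rw [Matrix.smul_mulVec]
        have h5 : ((T l).map (C : k →+* k[X])).mulVec (fun j => C (w a j)) = 0 := by
          funext j
          have h6 := congrFun (hw a l hl) j
          rw [Matrix.mulVec, dotProduct, Pi.zero_apply] at h6
          rw [Matrix.mulVec, dotProduct, Pi.zero_apply, ← map_zero (C : k →+* k[X]), ← h6, map_sum]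
          simp
        rw [h5, smul_zero]
      · rw [Matrix.zero_mulVec]
    rw [h1, add_pow_mulVec _ _ h3 _ h4, h2, _root_.smul_pow, Matrix.smul_mulVec, pow_mul]
  have hGH : G.map ev = H * Matrix.diagonal (fun a => (X : k[X]) ^ (((lvl a : ℕ) + 1) * q)) := by
    have h1 : G.map ev = Λ.map C * Y' ^ q * W.map C := by
      have e1 : G.map ev = (ev.toRingHom.mapMatrix : Matrix A A R →+* Matrix A A k[X]) G := rfl
      have e2 : (Λ.map (algebraMap k R)).map ev.toRingHom = Λ.map C := by
        ext a b; simp
      have e3 : (W.map (algebraMap k R)).map ev.toRingHom = W.map C := by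
        ext a b; simp
      have e4 : (Y ^ q).map ev.toRingHom = Y' ^ q := by
        have : (Y ^ q).map ev.toRingHom = ((ev.toRingHom.mapMatrix :
          Matrix J J R →+* Matrix J J k[X]) (Y ^ q)) := rfl
        rw [this, map_pow]
        exact congrArg (· ^ q) hYev
      have e5 : G.map ev.toRingHom = (Λ.map (algebraMap k R)).map ev.toRingHom *
          (Y ^ q).map ev.toRingHom * (W.map (algebraMap k R)).map ev.toRingHom := by
        simp only [G, Matrix.map_mul]
      rw [e2, e3, e4] at e5
      exact e5
    rw [h1]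
    ext b a
    rw [Matrix.mul_diagonal, Matrix.mul_assoc]
    have h2 : (Λ.map (C : k →+* k[X]) * (Y' ^ q * W.map C)) b a =
        (Λ.map (C : k →+* k[X])).mulVec ((Y' ^ q).mulVec fun j => C (w a j)) b := by
      rfl
    rw [h2, hcol a, Matrix.mulVec_smul, Pi.smul_apply, smul_eq_mul, mul_comm]
    rfl
  have hH0 : H.map (Polynomial.evalRingHom 0) = 1 := by
    rw [← hΛ]
    ext b a
    have hB0 : (B' a).map (Polynomial.evalRingHom (0 : k)) = T (lvl a) := by
      ext i j
      simp only [B', Matrix.map_apply, Matrix.sum_apply, map_sum]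
      rw [Finset.sum_eq_single (lvl a)]
      · simp
      · intro l _ hl
        split_ifs with h
        · simp
        · have h5 : lvl a < l := lt_of_le_of_ne (not_lt.1 h) (Ne.symm hl)
          have h6 : (l : ℕ) - (lvl a : ℕ) ≠ 0 := by
            have := Fin.lt_def.1 h5
            omega
          simp [h6]
      · simp
    have hB1 : ((B' a) ^ q).map (Polynomial.evalRingHom (0 : k)) = (T (lvl a)) ^ q := by
      have : ((B' a) ^ q).map (Polynomial.evalRingHom (0 : k)) =
        ((Polynomial.evalRingHom (0 : k)).mapMatrix : Matrix J J k[X] →+* Matrix J J k)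
          ((B' a) ^ q) := rfl
      rw [this, map_pow]
      exact congrArg (· ^ q) hB0
    have hentry : ∀ i j, Polynomial.eval 0 (((B' a) ^ q) i j) = ((T (lvl a)) ^ q) i j := by
      intro i j
      exact congrFun (congrFun hB1 i) j
    simp only [H, Matrix.map_apply, Matrix.of_apply, Matrix.mul_apply, Matrix.mulVec, dotProduct,
      Polynomial.coe_evalRingHom, Polynomial.eval_finsetSum, Polynomial.eval_mul,
      Polynomial.eval_C, hentry]
  have hdetH : H.det ≠ 0 := by
    intro h0
    have h1 := RingHom.map_det (Polynomial.evalRingHom (0 : k)) H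
    rw [h0, map_zero] at h1
    have h2 : (Polynomial.evalRingHom (0 : k)).mapMatrix H = 1 := hH0
    rw [h2, Matrix.det_one] at h1
    exact zero_ne_one h1
  have hdetG : G.det ≠ 0 := by
    intro h0
    have h1 := RingHom.map_det (ev : R →+* k[X]) G
    rw [h0, map_zero] at h1
    have h2 : (ev : R →+* k[X]).mapMatrix G = G.map ev := rfl
    rw [h2, hGH, Matrix.det_mul, Matrix.det_diagonal] at h1
    refine (mul_ne_zero hdetH (Finset.prod_ne_zero_iff.2 fun a _ => pow_ne_zero _ X_ne_zero)) h1.symm
  rw [Fintype.linearIndependent_iff]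
  intro c hc
  have hGK : (G.map (algebraMap R K)).mulVec c = 0 := by
    have h1 : G.map (algebraMap R K) = (Λ.map (algebraMap k R)).map (algebraMap R K) *
        (((Y.map (algebraMap R K)) ^ q) * (W.map (algebraMap k R)).map (algebraMap R K)) := by
      have e1 : (Y ^ q).map (algebraMap R K) = (Y.map (algebraMap R K)) ^ q := by
        have : (Y ^ q).map (algebraMap R K) = (((algebraMap R K).mapMatrix :
          Matrix J J R →+* Matrix J J K) (Y ^ q)) := rfl
        rw [this, map_pow]
        rfl
      rw [← e1, ← Matrix.mul_assoc]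
      simp only [G, Matrix.map_mul]
    rw [h1, ← Matrix.mulVec_mulVec]
    have h2 : (((Y.map (algebraMap R K)) ^ q) *
        (W.map (algebraMap k R)).map (algebraMap R K)).mulVec c = 0 := by
      funext j
      have := congrFun hc j
      rw [Finset.sum_apply, Pi.zero_apply] at this
      rw [Pi.zero_apply, ← this, Matrix.mulVec, dotProduct]
      refine Finset.sum_congr rfl fun a _ => ?_
      rw [Pi.smul_apply, smul_eq_mul, mul_comm]
      rfl
    rw [h2, Matrix.mulVec_zero]
  have hdetGK : (G.map (algebraMap R K)).det ≠ 0 := by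
    have h1 := RingHom.map_det (algebraMap R K) G
    have h2 : (algebraMap R K).mapMatrix G = G.map (algebraMap R K) := rfl
    rw [h2] at h1
    rw [← h1]
    exact (map_ne_zero_iff _ hRK).2 hdetG
  intro a
  exact congrFun (Matrix.eq_zero_of_mulVec_eq_zero hdetGK hGK) a

end Cfsg.Agent.H640
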