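import Mathlib

/-!
# Triangular linear independence (helper640)
-/

set_option autoImplicit false

namespace Cfsg.Agent.H640

theorem tri {k V M A : Type*} [Field k] [AddCommGroup V] [Module k V] [AddCommGroup M]
    [Module k M] [Fintype A] {r : ℕ} (lvl : A → Fin r) (v : A → V) (q : Fin r → V →ₗ[k] M)
    (B : Fin r → Submodule k V) (φ : Fin r → V ≃ₗ[k] V)
    (hφ : ∀ i j, ∀ b ∈ B j, (φ i).symm b ∈ B j)
    (hv : ∀ a i, lvl a < i → φ (lvl a) (v a) ∈ B i)
    (hq : ∀ i, ∀ b ∈ B i, q i b = 0)
    (hind : ∀ i, LinearIndependent k (fun a : {a : A // lvl a = i} => q i (v a))) :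
    LinearIndependent k (fun a => φ (lvl a) (v a)) := by
  classical
  rw [Fintype.linearIndependent_iff]
  intro c hc
  by_contra hcon
  push Not at hcon
  let S : Finset A := Finset.univ.filter fun a => c a ≠ 0
  have hS : S.Nonempty := by
    obtain ⟨a, ha⟩ := hcon
    exact ⟨a, by simp [S, ha]⟩
  obtain ⟨a0, ha0, hmax⟩ := Finset.exists_max_image S lvl hS
  set i := lvl a0 with hi
  have hhigh : ∀ a, i < lvl a → c a = 0 := by
    intro a ha
    by_contra hne
    exact absurd (hmax a (by simp [S, hne])) (not_le.2 ha)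
  have hsplit : φ i (∑ a : {a : A // lvl a = i}, c a • v a) +
      ∑ a ∈ Finset.univ.filter (fun a => lvl a < i), c a • φ (lvl a) (v a) = 0 := by
    rw [← hc]
    have h1 : ∑ a, c a • φ (lvl a) (v a) =
        ∑ a ∈ Finset.univ.filter (fun a => lvl a = i), c a • φ (lvl a) (v a) +
        ∑ a ∈ Finset.univ.filter (fun a => lvl a < i), c a • φ (lvl a) (v a) := by
      rw [← Finset.sum_union]
      · refine (Finset.sum_subset (Finset.subset_univ _) fun a _ ha => ?_).symm
        rw [Finset.mem_union, Finset.mem_filter, Finset.mem_filter] at ha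
        push Not at ha
        have h2 : i < lvl a := by
          rcases lt_trichotomy (lvl a) i with h | h | h
          · exact absurd h (ha.2 (Finset.mem_univ _)).not_gt
          · exact absurd h (ha.1 (Finset.mem_univ _))
          · exact h
        rw [hhigh a h2, zero_smul]
      · rw [Finset.disjoint_filter]
        intro a _ h1 h2
        exact absurd h1 h2.ne
    rw [h1]
    congr 1
    rw [map_sum]
    rw [Finset.sum_subtype (Finset.univ.filter (fun a => lvl a = i)) (p := fun a => lvl a = i)
      (by simp)]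
    refine Finset.sum_congr rfl fun a _ => ?_
    rw [map_smul, a.2]
  have hlow : ∑ a ∈ Finset.univ.filter (fun a => lvl a < i), c a • φ (lvl a) (v a) ∈ B i := by
    refine Submodule.sum_mem _ fun a ha => Submodule.smul_mem _ _ (hv a i ?_)
    exact (Finset.mem_filter.1 ha).2
  have h3 : φ i (∑ a : {a : A // lvl a = i}, c a • v a) ∈ B i := by
    rw [eq_neg_of_add_eq_zero_left hsplit]
    exact neg_mem hlow
  have h4 : ∑ a : {a : A // lvl a = i}, c a • v a ∈ B i := by
    have := hφ i i _ h3
    rwa [LinearEquiv.symm_apply_apply] at this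
  have h5 := hq i _ h4
  rw [map_sum] at h5
  simp only [map_smul] at h5
  have h6 := Fintype.linearIndependent_iff.1 (hind i) (fun a => c a) h5 ⟨a0, rfl⟩
  exact (Finset.mem_filter.1 ha0).2 h6

end Cfsg.Agent.H640
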