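import Mathlib
import Cfsg.Agent.H640.Nilp
import Cfsg.Agent.H640.CharP
import Cfsg.Agent.H640.Rank
import Cfsg.Agent.H640.Count
import Cfsg.Agent.H640.Tri

/-!
# Modular data of the Glauberman correspondence (helper640), part 1: the rank of `ad X`

`N` a finite group, `rN` an absolutely irreducible representation over `k` (characteristic `p`), `aE g`
commuting automorphisms of `N` with `p`-th power one, implemented by `rE g`; `C` the fixed points
and `rC` an absolutely irreducible representation of `C` with the same idempotent (on `C`).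
For the generic element `X = ∑ x_g (rE g - 1)` the space `ker (ad X) / im (ad X) ^ (p - 1)` has dimension at
most `m ^ 2`.
-/

set_option autoImplicit false
set_option linter.unusedSectionVars false

namespace Cfsg.Agent.H640

open Module Matrix

/-- The data. -/
structure GData (p : ℕ) (k N E : Type*) [Field k] [Group N] [Fintype N] (C : Subgroup N)
    [Fintype C] (n m : ℕ) where
  rN : N →* Matrix (Fin n) (Fin n) k
  aE : E → MulAut N
  rE : E → Matrix (Fin n) (Fin n) k
  rC : C →* Matrix (Fin m) (Fin m) k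
  aE_comm : ∀ g g', Commute (aE g) (aE g')
  aE_pow : ∀ g, aE g ^ p = 1
  rE_comm : ∀ g g', Commute (rE g) (rE g')
  rE_pow : ∀ g, rE g ^ p = 1
  rel : ∀ g x, rE g * rN x = rN (aE g x) * rE g
  mem_C : ∀ x, x ∈ C ↔ ∀ g, aE g x = x
  orthN : ∀ s : Matrix (Fin n) (Fin n) k,
    ((n : k) / (Nat.card N : k)) • ∑ x, (s * rN x⁻¹).trace • rN x = s
  orthC : ∀ s : Matrix (Fin m) (Fin m) k,
    ((m : k) / (Nat.card C : k)) • ∑ c, (s * rC c⁻¹).trace • rC c = s
  glau : ∀ c : C, ((n : k) / (Nat.card N : k)) * (rN c).trace =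
    ((m : k) / (Nat.card C : k)) * (rC c).trace
  n0 : (n : k) ≠ 0
  m0 : (m : k) ≠ 0
  N0 : (Nat.card N : k) ≠ 0
  C0 : (Nat.card C : k) ≠ 0

section Ad

variable {n : ℕ} {S S' : Type*} [CommRing S] [CommRing S']

/-- the matrix of `s ↦ A s - s A` -/
def adM (A : Matrix (Fin n) (Fin n) S) : Matrix (Fin n × Fin n) (Fin n × Fin n) S :=
  Matrix.of fun x y => (if x.2 = y.2 then A x.1 y.1 else 0) - (if x.1 = y.1 then A y.2 x.2 else 0)

/-- a matrix as a vector -/
def vecE (S : Type*) [CommRing S] (n : ℕ) :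
    Matrix (Fin n) (Fin n) S ≃ₗ[S] (Fin n × Fin n → S) where
  toFun s := fun x => s x.1 x.2
  invFun v := Matrix.of fun i j => v (i, j)
  map_add' _ _ := rfl
  map_smul' _ _ := rfl
  left_inv _ := rfl
  right_inv _ := rfl

/-- `s ↦ A s - s A` -/
def adL (A : Matrix (Fin n) (Fin n) S) : End S (Matrix (Fin n) (Fin n) S) :=
  LinearMap.mulLeft S A - LinearMap.mulRight S A

theorem adL_apply (A s : Matrix (Fin n) (Fin n) S) : adL A s = A * s - s * A := rfl

theorem adM_mulVec (A s : Matrix (Fin n) (Fin n) S) :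
    (adM A).mulVec (vecE S n s) = vecE S n (adL A s) := by
  funext x
  rw [adL_apply]
  show ∑ y : Fin n × Fin n, ((if x.2 = y.2 then A x.1 y.1 else 0) -
    (if x.1 = y.1 then A y.2 x.2 else 0)) * s y.1 y.2 = (A * s) x.1 x.2 - (s * A) x.1 x.2
  rw [Matrix.mul_apply, Matrix.mul_apply]
  simp only [sub_mul, Finset.sum_sub_distrib, ite_mul, zero_mul]
  congr 1
  · rw [Fintype.sum_prod_type]
    refine Finset.sum_congr rfl fun i _ => ?_
    simp
  · rw [Fintype.sum_prod_type_right]
    refine Finset.sum_congr rfl fun i _ => ?_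
    simp [mul_comm]

theorem adM_pow_mulVec (A s : Matrix (Fin n) (Fin n) S) (j : ℕ) :
    ((adM A) ^ j).mulVec (vecE S n s) = vecE S n ((adL A ^ j) s) := by
  induction j generalizing s with
  | zero => rw [pow_zero, pow_zero, Matrix.one_mulVec]; rfl
  | succ j ih =>
    rw [pow_succ, pow_succ, ← Matrix.mulVec_mulVec, adM_mulVec, ih, Module.End.mul_apply]

theorem adM_sum_smul {ι : Type*} (s : Finset ι) (c : ι → S) (A : ι → Matrix (Fin n) (Fin n) S) :
    adM (∑ i ∈ s, c i • A i) = ∑ i ∈ s, c i • adM (A i) := by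
  ext x y
  simp only [adM, Matrix.of_apply, Matrix.sum_apply, Matrix.smul_apply, smul_eq_mul]
  by_cases h1 : x.2 = y.2 <;> by_cases h2 : x.1 = y.1 <;>
    simp [h1, h2, mul_sub, Finset.sum_sub_distrib]

theorem adM_map (f : S →+* S') (A : Matrix (Fin n) (Fin n) S) :
    adM (A.map f) = (adM A).map f := by
  ext x y
  simp only [adM, Matrix.of_apply, Matrix.map_apply, map_sub]
  by_cases h1 : x.2 = y.2 <;> by_cases h2 : x.1 = y.1 <;> simp [h1, h2]

theorem adM_commute {A B : Matrix (Fin n) (Fin n) S} (h : Commute A B) :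
    Commute (adM A) (adM B) := by
  have h1 : ∀ s, adL A (adL B s) = adL B (adL A s) := by
    intro s
    simp only [adL_apply]
    have := h.eq
    calc A * (B * s - s * B) - (B * s - s * B) * A
        = (A * B) * s - A * s * B - B * s * A + s * (B * A) := by noncomm_ring
      _ = (B * A) * s - A * s * B - B * s * A + s * (A * B) := by rw [this]
      _ = _ := by noncomm_ring
  have h2 : ∀ v, ((adM A) * (adM B)).mulVec v = ((adM B) * (adM A)).mulVec v := by
    intro v
    obtain ⟨s, rfl⟩ := (vecE S n).surjective v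
    rw [← Matrix.mulVec_mulVec, ← Matrix.mulVec_mulVec, adM_mulVec, adM_mulVec, adM_mulVec,
      adM_mulVec, h1]
  exact Matrix.ext_of_mulVec_single fun i => h2 _

end Ad

/-- the ring of polynomials in the variables `x_g` -/
abbrev RR (k E : Type*) [Field k] : Type _ := MvPolynomial E k

/-- its fraction field -/
abbrev KK (k E : Type*) [Field k] : Type _ := FractionRing (MvPolynomial E k)

namespace GData

variable {p : ℕ} [hp : Fact p.Prime] {k N E : Type*} [Field k] [CharP k p] [Group N] [Fintype N]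
  {C : Subgroup N} [Fintype C] {n m : ℕ} (D : GData p k N E C n m)

theorem rE_inv (g : E) : D.rE g ^ (p - 1) * D.rE g = 1 := by
  rw [← pow_succ, Nat.sub_add_cancel hp.out.one_lt.le, D.rE_pow]

theorem rE_inv' (g : E) : D.rE g * D.rE g ^ (p - 1) = 1 := by
  rw [← pow_succ', Nat.sub_add_cancel hp.out.one_lt.le, D.rE_pow]

/-- right multiplication by `rE g ^ (p - 1)` -/
def phi (g : E) : Matrix (Fin n) (Fin n) k ≃ₗ[k] Matrix (Fin n) (Fin n) k where
  toFun s := s * D.rE g ^ (p - 1)
  invFun s := s * D.rE g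
  map_add' _ _ := add_mul _ _ _
  map_smul' _ _ := smul_mul_assoc _ _ _
  left_inv s := by
    show s * D.rE g ^ (p - 1) * D.rE g = s
    rw [mul_assoc, D.rE_inv, mul_one]
  right_inv s := by
    show s * D.rE g * D.rE g ^ (p - 1) = s
    rw [mul_assoc, D.rE_inv', mul_one]

/-- `s ↦ rE g s rE g⁻¹ - s` -/
def ta (g : E) : End k (Matrix (Fin n) (Fin n) k) :=
  (LinearMap.mulLeft k (D.rE g)).comp (LinearMap.mulRight k (D.rE g ^ (p - 1))) - 1

theorem ta_apply (g : E) (s : Matrix (Fin n) (Fin n) k) :
    D.ta g s = D.rE g * (s * D.rE g ^ (p - 1)) - s := rfl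

theorem adL_eq (g : E) (s : Matrix (Fin n) (Fin n) k) : adL (D.rE g) s = D.ta g s * D.rE g := by
  rw [adL_apply, ta_apply, sub_mul, mul_assoc, mul_assoc, D.rE_inv, mul_one]

theorem ta_mul_right (g g' : E) (s : Matrix (Fin n) (Fin n) k) (j : ℕ) :
    D.ta g (s * D.rE g' ^ j) = D.ta g s * D.rE g' ^ j := by
  rw [ta_apply, ta_apply, sub_mul]
  congr 1
  rw [mul_assoc s, ← ((D.rE_comm g g').pow_pow (p - 1) j).eq]
  simp only [mul_assoc]

theorem ta_pow_mul_right (g g' : E) (s : Matrix (Fin n) (Fin n) k) (i j : ℕ) :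
    (D.ta g ^ i) (s * D.rE g' ^ j) = (D.ta g ^ i) s * D.rE g' ^ j := by
  induction i with
  | zero => rfl
  | succ i ih => rw [pow_succ', Module.End.mul_apply, Module.End.mul_apply, ih, ta_mul_right]

theorem adL_pow_eq (g : E) (s : Matrix (Fin n) (Fin n) k) (j : ℕ) :
    ((adL (D.rE g)) ^ j) s = (D.ta g ^ j) s * D.rE g ^ j := by
  induction j with
  | zero => rw [pow_zero, pow_zero, pow_zero, mul_one]
  | succ j ih =>
    rw [pow_succ', Module.End.mul_apply, ih, adL_eq, ta_mul_right, mul_assoc, ← pow_succ,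
      pow_succ' (D.ta g), Module.End.mul_apply]

/-- `f ↦ ∑ f x rN x` -/
noncomputable def rho : (N → k) →ₗ[k] Matrix (Fin n) (Fin n) k where
  toFun f := ∑ x, f x • D.rN x
  map_add' f g := by simp [add_smul, Finset.sum_add_distrib]
  map_smul' c f := by simp [mul_smul, Finset.smul_sum]

theorem rho_apply (f : N → k) : D.rho f = ∑ x, f x • D.rN x := rfl

/-- `s ↦ (x ↦ n / |N| tr (s rN x⁻¹))` -/
noncomputable def iota : Matrix (Fin n) (Fin n) k →ₗ[k] (N → k) where
  toFun s := fun x => ((n : k) / (Nat.card N : k)) * (s * D.rN x⁻¹).trace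
  map_add' s t := by
    funext x
    rw [add_mul, Matrix.trace_add, mul_add]
    rfl
  map_smul' c s := by
    funext x
    rw [smul_mul_assoc, Matrix.trace_smul, smul_eq_mul, RingHom.id_apply, Pi.smul_apply,
      smul_eq_mul]
    ring

theorem iota_apply (s : Matrix (Fin n) (Fin n) k) (x : N) :
    D.iota s x = ((n : k) / (Nat.card N : k)) * (s * D.rN x⁻¹).trace := rfl

theorem rho_iota (s : Matrix (Fin n) (Fin n) k) : D.rho (D.iota s) = s := by
  rw [rho_apply]
  conv_rhs => rw [← D.orthN s, Finset.smul_sum]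
  refine Finset.sum_congr rfl fun x _ => ?_
  rw [iota_apply, mul_smul]

theorem rN_conj (g : E) (y : N) :
    D.rE g ^ (p - 1) * D.rN y * D.rE g = D.rN ((D.aE g).symm y) := by
  have h := D.rel g ((D.aE g).symm y)
  rw [MulEquiv.apply_symm_apply] at h
  rw [mul_assoc, ← h, ← mul_assoc, D.rE_inv, one_mul]

theorem iota_ta (g : E) (s : Matrix (Fin n) (Fin n) k) :
    D.iota (D.ta g s) = Count.tau k (D.aE g).toEquiv (D.iota s) := by
  funext x
  rw [Count.tau_apply, ta_apply, map_sub, Pi.sub_apply]
  congr 1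
  rw [iota_apply, iota_apply]
  congr 1
  have h := D.rN_conj g x⁻¹
  rw [map_inv (D.aE g).symm] at h
  show _ = (s * D.rN ((D.aE g).symm x)⁻¹).trace
  rw [← h, mul_assoc, Matrix.trace_mul_comm]
  simp only [mul_assoc]

theorem iota_ta_pow (g : E) (s : Matrix (Fin n) (Fin n) k) (j : ℕ) :
    D.iota ((D.ta g ^ j) s) = (Count.tau k (D.aE g).toEquiv ^ j) (D.iota s) := by
  induction j with
  | zero => rfl
  | succ j ih => rw [pow_succ', Module.End.mul_apply, iota_ta, ih, pow_succ', Module.End.mul_apply]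

theorem rho_tau (g : E) (f : N → k) :
    D.rho (Count.tau k (D.aE g).toEquiv f) = D.ta g (D.rho f) := by
  have h : Count.tau k (D.aE g).toEquiv = Count.perm k (D.aE g).toEquiv - 1 := rfl
  rw [h, LinearMap.sub_apply, map_sub, ta_apply]
  congr 1
  rw [rho_apply, rho_apply, Finset.sum_mul, Finset.mul_sum]
  rw [← Equiv.sum_comp (D.aE g).toEquiv]
  refine Finset.sum_congr rfl fun x _ => ?_
  rw [Count.perm_apply, Equiv.symm_apply_apply, smul_mul_assoc, mul_smul_comm]
  congr 1
  have := D.rel g x
  rw [← mul_assoc, this, mul_assoc, D.rE_inv', mul_one]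
  rfl

/-- the projection `ι ρ` -/
noncomputable def pi : (N → k) →ₗ[k] (N → k) := D.iota.comp D.rho

theorem pi_apply (f : N → k) : D.pi f = D.iota (D.rho f) := rfl

theorem pi_pi (f : N → k) : D.pi (D.pi f) = D.pi f := by
  rw [pi_apply, pi_apply, rho_iota]

theorem pi_perm (g : E) (f : N → k) :
    D.pi (Count.perm k (D.aE g).toEquiv f) = Count.perm k (D.aE g).toEquiv (D.pi f) := by
  have h : Count.perm k (D.aE g).toEquiv = Count.tau k (D.aE g).toEquiv + 1 := by
    rw [Count.tau, sub_add_cancel]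
  rw [h, LinearMap.add_apply, map_add, LinearMap.add_apply, pi_apply, rho_tau, iota_ta]
  rfl

theorem finrank_pi : finrank k (LinearMap.range D.pi) = n ^ 2 := by
  have h1 : LinearMap.range D.pi = LinearMap.range D.iota := by
    rw [pi, LinearMap.range_comp]
    have : LinearMap.range D.rho = ⊤ :=
      LinearMap.range_eq_top.2 fun s => ⟨D.iota s, D.rho_iota s⟩
    rw [this, Submodule.map_top]
  have hinj : Function.Injective D.iota := fun s t h => by
    rw [← D.rho_iota s, h, D.rho_iota]
  rw [h1, LinearMap.finrank_range_of_inj hinj, Module.finrank_matrix, Module.finrank_self]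
  simp [sq]

section Enum

variable {r : ℕ} (e : Fin r ≃ E)

/-- the enumerated automorphisms, as permutations -/
def aa (i : Fin r) : Equiv.Perm N := (D.aE (e i)).toEquiv

theorem aa_comm (i j : Fin r) : Commute (D.aa e i) (D.aa e j) := by
  have h := (D.aE_comm (e i) (e j)).eq
  show (D.aE (e i) * D.aE (e j)).toEquiv = (D.aE (e j) * D.aE (e i)).toEquiv
  rw [h]

theorem aa_pow (i : Fin r) : D.aa e i ^ p = 1 := by
  have h := D.aE_pow (e i)
  have h1 : MulAut.toPerm N (D.aE (e i)) ^ p = 1 := by
    rw [← map_pow, h, map_one]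
  exact h1

theorem fixSet_eq : Count.fixSet (D.aa e) r = (C : Set N) := by
  ext x
  rw [SetLike.mem_coe, D.mem_C]
  constructor
  · intro h g
    have := h (e.symm g) (e.symm g).2
    rw [aa, Equiv.apply_symm_apply] at this
    exact this
  · intro h l _
    exact h (e l)

theorem finrank_UU_le : finrank k (Count.UU (D.aa e) D.pi r) ≤ m ^ 2 := by
  classical
  -- the map `s ↦ (x ↦ m / |C| tr (s rC x⁻¹))` extended by zero
  let j : Matrix (Fin m) (Fin m) k →ₗ[k] (N → k) :=
    { toFun := fun s => fun x => if h : x ∈ C then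
        ((m : k) / (Nat.card C : k)) * (s * D.rC ⟨x, h⟩⁻¹).trace else 0
      map_add' := by
        intro s t
        funext x
        by_cases h : x ∈ C
        · simp only [Pi.add_apply, dif_pos h, add_mul, Matrix.trace_add, mul_add]
        · simp [h]
      map_smul' := by
        intro c s
        funext x
        by_cases h : x ∈ C
        · simp only [Pi.smul_apply, dif_pos h, smul_mul_assoc, Matrix.trace_smul, smul_eq_mul,
            RingHom.id_apply]
          ring
        · simp [h] }
  have h1 : Count.UU (D.aa e) D.pi r ≤ LinearMap.range j := by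
    rintro _ ⟨f, hf, rfl⟩
    refine ⟨∑ c : C, f c • D.rC c, ?_⟩
    have hf' : ∀ x, x ∉ C → f x = 0 := by
      intro x hx
      refine hf x ?_
      rw [fixSet_eq]
      exact hx
    funext x
    rw [LinearMap.comp_apply]
    by_cases h : x ∈ C
    · rw [Count.pr_apply_of_mem _ _ _ (by rw [fixSet_eq]; exact h)]
      show (if h : x ∈ C then _ else _) = _
      rw [dif_pos h, pi_apply, iota_apply, rho_apply, Finset.sum_mul, Finset.sum_mul,
        Matrix.trace_sum, Matrix.trace_sum, Finset.mul_sum, Finset.mul_sum]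
      have h2 : ∑ y : N, ((n : k) / (Nat.card N : k)) * (f y • D.rN y * D.rN x⁻¹).trace =
          ∑ y ∈ Finset.univ.filter (fun y => y ∈ C),
            ((n : k) / (Nat.card N : k)) * (f y • D.rN y * D.rN x⁻¹).trace := by
        rw [Finset.sum_filter]
        refine Finset.sum_congr rfl fun y _ => ?_
        split_ifs with hy
        · rfl
        · rw [hf' y hy, zero_smul, zero_mul, Matrix.trace_zero, mul_zero]
      rw [h2, Finset.sum_subtype (Finset.univ.filter (fun y => y ∈ C)) (p := fun y => y ∈ C)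
        (by simp)]
      refine Finset.sum_congr rfl fun c _ => ?_
      rw [smul_mul_assoc, smul_mul_assoc, Matrix.trace_smul, Matrix.trace_smul, ← map_mul,
        ← map_mul, smul_eq_mul, smul_eq_mul]
      have h3 := D.glau (c * ⟨x, h⟩⁻¹)
      have h4 : ((c * (⟨x, h⟩ : C)⁻¹ : C) : N) = (c : N) * x⁻¹ := rfl
      rw [h4] at h3
      calc _ = f c * (((m : k) / (Nat.card C : k)) * (D.rC (c * ⟨x, h⟩⁻¹)).trace) := by ring
        _ = _ := by rw [← h3]; ring
    · rw [Count.pr_apply_of_notMem _ _ _ (by rw [fixSet_eq]; exact h)]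
      show (if h : x ∈ C then _ else _) = _
      rw [dif_neg h]
  refine (Submodule.finrank_mono h1).trans ((LinearMap.finrank_range_le j).trans ?_)
  rw [Module.finrank_matrix, Module.finrank_self]
  simp [sq]

end Enum

end GData

end Cfsg.Agent.H640
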