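import Mathlib
import Cfsg.Agent.H640.Mod1

/-!
# Modular data of the Glauberman correspondence (helper640), part 2: the rank of `(ad X) ^ (p - 1)`

`finrank_ad` : `n ^ 2 ≤ p * rank ((ad X) ^ (p - 1)) + m ^ 2` over the field of fractions of `k[x_g]`.
-/

set_option autoImplicit false
set_option linter.unusedSectionVars false

namespace Cfsg.Agent.H640

open Module Matrix

theorem li_equiv {k V W A : Type*} [Field k] [AddCommGroup V] [Module k V] [AddCommGroup W]
    [Module k W] (e : V ≃ₗ[k] W) (v : A → V) :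
    LinearIndependent k (fun a => e (v a)) ↔ LinearIndependent k v :=
  LinearMap.linearIndependent_iff_of_injOn (e : V →ₗ[k] W) (e.injective.injOn)

theorem li_card_le {k V A : Type*} [Field k] [AddCommGroup V] [Module k V]
    [FiniteDimensional k V] [Fintype A] (f : End k V) (w : A → V)
    (h : LinearIndependent k (fun a => f (w a))) :
    Fintype.card A ≤ finrank k (LinearMap.range f) := by
  have h7 : LinearIndependent k fun a : A =>
      (⟨f (w a), ⟨w a, rfl⟩⟩ : LinearMap.range f) :=
    LinearIndependent.of_comp (LinearMap.range f).subtype h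
  exact h7.fintype_card_le_finrank

namespace GData

variable {p : ℕ} [hp : Fact p.Prime] {k N E : Type*} [Field k] [CharP k p] [Group N] [Fintype N]
  {C : Subgroup N} [Fintype C] {n m : ℕ} (D : GData p k N E C n m)

/-- the generic element `∑ x_g (rE g - 1)` -/
noncomputable def XR [Fintype E] : Matrix (Fin n) (Fin n) (RR k E) :=
  ∑ g : E, (MvPolynomial.X g : RR k E) • (D.rE g - 1).map (algebraMap k (RR k E))

/-- the generic element over the field -/
noncomputable def XK (K : Type*) [Field K] [Algebra (RR k E) K] [Fintype E] :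
    Matrix (Fin n) (Fin n) K :=
  D.XR.map (algebraMap (RR k E) K)

section Enum

variable [Fintype E] {r : ℕ} (e : Fin r ≃ E)

/-- functions with prescribed images in `QQ` -/
theorem exists_ff (i : Fin r) (v : Count.QQ (D.aa e) p D.pi i) :
    ∃ f ∈ Count.Z (D.aa e) k (i : ℕ),
      Count.pr (D.aa e) k i ((Count.tau k (D.aa e i) ^ (p - 1)) (D.pi f)) = (v : N → k) := by
  obtain ⟨f, hf, h⟩ := v.2
  exact ⟨f, hf, h⟩

/-- the index set of the vectors -/
abbrev Idx : Type := Σ i : Fin r, Fin (finrank k (Count.QQ (D.aa e) p D.pi i))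

/-- the chosen functions -/
noncomputable def ff (a : D.Idx e) : N → k :=
  Classical.choose (D.exists_ff e a.1
    (Module.finBasis k (Count.QQ (D.aa e) p D.pi a.1) a.2))

theorem ff_mem (a : D.Idx e) : D.ff e a ∈ Count.Z (D.aa e) k (a.1 : ℕ) :=
  (Classical.choose_spec (D.exists_ff e a.1
    (Module.finBasis k (Count.QQ (D.aa e) p D.pi a.1) a.2))).1

theorem pr_ff (a : D.Idx e) : Count.pr (D.aa e) k a.1
    ((Count.tau k (D.aa e a.1) ^ (p - 1)) (D.pi (D.ff e a))) =
    (Module.finBasis k (Count.QQ (D.aa e) p D.pi a.1) a.2 : N → k) :=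
  (Classical.choose_spec (D.exists_ff e a.1
    (Module.finBasis k (Count.QQ (D.aa e) p D.pi a.1) a.2))).2

/-- The subspace of traces of level below `i`. -/
def BB (i : Fin r) : Submodule k (Matrix (Fin n) (Fin n) k) :=
  ⨆ l : {l : Fin r // l < i}, LinearMap.range (D.ta (e l) ^ (p - 1))

theorem phi_symm_mem (i j : Fin r) (b : Matrix (Fin n) (Fin n) k) (hb : b ∈ D.BB e j) :
    (D.phi (e i)).symm b ∈ D.BB e j := by
  have h : D.BB e j ≤ (D.BB e j).comap ((D.phi (e i)).symm : _ →ₗ[k] _) := by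
    refine iSup_le fun l => ?_
    rintro _ ⟨s, rfl⟩
    have h1 : (D.phi (e i)).symm ((D.ta (e l) ^ (p - 1)) s) =
        (D.ta (e l) ^ (p - 1)) (s * D.rE (e i) ^ 1) := by
      rw [ta_pow_mul_right, pow_one]
      rfl
    show (D.phi (e i)).symm ((D.ta (e l) ^ (p - 1)) s) ∈ D.BB e j
    rw [h1]
    exact Submodule.mem_iSup_of_mem l ⟨_, rfl⟩
  exact h hb

theorem phi_mem (i j : Fin r) (b : Matrix (Fin n) (Fin n) k) (hb : b ∈ D.BB e j) :
    D.phi (e i) b ∈ D.BB e j := by
  have h : D.BB e j ≤ (D.BB e j).comap (D.phi (e i) : _ →ₗ[k] _) := by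
    refine iSup_le fun l => ?_
    rintro _ ⟨s, rfl⟩
    have h1 : D.phi (e i) ((D.ta (e l) ^ (p - 1)) s) =
        (D.ta (e l) ^ (p - 1)) (s * D.rE (e i) ^ (p - 1)) := by
      rw [ta_pow_mul_right]
      rfl
    show D.phi (e i) ((D.ta (e l) ^ (p - 1)) s) ∈ D.BB e j
    rw [h1]
    exact Submodule.mem_iSup_of_mem l ⟨_, rfl⟩
  exact h hb

theorem pr_iota_BB (i : Fin r) (b : Matrix (Fin n) (Fin n) k) (hb : b ∈ D.BB e i) :
    Count.pr (D.aa e) k i (D.iota b) = 0 := by
  have h : D.BB e i ≤ LinearMap.ker ((Count.pr (D.aa e) k i).comp D.iota) := by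
    refine iSup_le fun l => ?_
    rintro _ ⟨s, rfl⟩
    rw [LinearMap.mem_ker, LinearMap.comp_apply, iota_ta_pow]
    obtain ⟨q, hq⟩ : ∃ q, p - 1 = q + 1 := ⟨p - 2, by have := hp.out.two_le; omega⟩
    rw [hq, pow_succ', Module.End.mul_apply]
    exact Count.pr_tau (D.aa e) (l := l.1) l.2 _
  exact h hb

theorem linInd_u : LinearIndependent k fun a : D.Idx e =>
    ((adM (D.rE (e a.1))) ^ (p - 1)).mulVec (vecE k n (D.rho (D.ff e a))) := by
  have h1 : ∀ a : D.Idx e, ((adM (D.rE (e a.1))) ^ (p - 1)).mulVec (vecE k n (D.rho (D.ff e a))) =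
      vecE k n (D.phi (e a.1) ((D.ta (e a.1) ^ (p - 1)) (D.rho (D.ff e a)))) := by
    intro a
    rw [adM_pow_mulVec, adL_pow_eq]
    rfl
  rw [funext h1, li_equiv (vecE k n)
    (fun a : D.Idx e => D.phi (e a.1) ((D.ta (e a.1) ^ (p - 1)) (D.rho (D.ff e a))))]
  have hq : ∀ a : D.Idx e, Count.pr (D.aa e) k a.1
      (D.iota ((D.ta (e a.1) ^ (p - 1)) (D.rho (D.ff e a)))) =
      (Module.finBasis k (Count.QQ (D.aa e) p D.pi a.1) a.2 : N → k) := by
    intro a
    rw [iota_ta_pow]
    exact D.pr_ff e a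
  refine tri (k := k) (fun a : D.Idx e => a.1)
    (fun a => (D.ta (e a.1) ^ (p - 1)) (D.rho (D.ff e a)))
    (fun i => (Count.pr (D.aa e) k i).comp D.iota) (D.BB e) (fun i => D.phi (e i))
    (D.phi_symm_mem e) (fun a i hai => D.phi_mem e _ _ _
      (Submodule.mem_iSup_of_mem ⟨a.1, hai⟩ ⟨_, rfl⟩))
    (fun i b hb => D.pr_iota_BB e i b hb) (by
      intro i
      have hb := (Module.finBasis k (Count.QQ (D.aa e) p D.pi i)).linearIndependent
      have hb' := hb.map' (Submodule.subtype _) (Submodule.ker_subtype _)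
      let c : {a : D.Idx e // a.1 = i} → Fin (finrank k (Count.QQ (D.aa e) p D.pi i)) :=
        fun a => Fin.cast (by rw [a.2]) a.1.2
      have hc : Function.Injective c := by
        rintro ⟨⟨i', x⟩, h⟩ ⟨⟨i'', y⟩, h'⟩ hxy
        simp only at h h'
        subst h
        subst h'
        have : x = y := by
          apply Fin.ext
          have := congrArg Fin.val hxy
          simpa [c] using this
        rw [this]
      have h3 := hb'.comp c hc
      have h4 : (fun a : {a : D.Idx e // a.1 = i} =>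
          ((Count.pr (D.aa e) k i).comp D.iota)
            ((D.ta (e a.1.1) ^ (p - 1)) (D.rho (D.ff e a.1)))) =
          ((Submodule.subtype (Count.QQ (D.aa e) p D.pi i)) ∘
            (Module.finBasis k (Count.QQ (D.aa e) p D.pi i))) ∘ c := by
        funext a
        obtain ⟨⟨i', x⟩, h⟩ := a
        simp only at h
        subst h
        exact hq ⟨i', x⟩
      rw [h4]
      exact h3)

/-- the specialisation -/
noncomputable def ev : RR k E →ₐ[k] Polynomial k :=
  MvPolynomial.aeval fun g => (Polynomial.X : Polynomial k) ^ ((e.symm g : ℕ) + 1)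

theorem adM_XR : adM (D.XR) = ∑ i : Fin r, (MvPolynomial.X (e i) : RR k E) •
    (adM (D.rE (e i))).map (algebraMap k (RR k E)) := by
  rw [XR, adM_sum_smul, ← Equiv.sum_comp e]
  refine Finset.sum_congr rfl fun i _ => ?_
  congr 1
  have h := adM_map (algebraMap k (RR k E)) (D.rE (e i) - 1)
  rw [h]
  congr 1
  ext x y
  obtain ⟨x1, x2⟩ := x
  obtain ⟨y1, y2⟩ := y
  simp only [adM, Matrix.of_apply, Matrix.sub_apply, Matrix.one_apply]
  by_cases h1 : x2 = y2 <;> by_cases h2 : x1 = y1
  · simp [h1, h2]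
  · simp [h1, h2]
  · have h1' : y2 ≠ x2 := fun h => h1 h.symm
    simp [h1, h2, h1']
  · simp [h1, h2]

theorem linInd_K (K : Type*) [Field K] [Algebra (RR k E) K] [IsFractionRing (RR k E) K] :
    LinearIndependent K fun a : D.Idx e =>
    ((adM (D.XK K)) ^ (p - 1)).mulVec (fun j => algebraMap (RR k E) K
      (algebraMap k (RR k E) (vecE k n (D.rho (D.ff e a)) j))) := by
  classical
  have hinj : Function.Injective (algebraMap (RR k E) K) :=
    IsFractionRing.injective (RR k E) K
  have h := linInd (k := k) (R := RR k E) (K := K) hinj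
    (fun i : Fin r => adM (D.rE (e i))) (fun i j => adM_commute (D.rE_comm _ _))
    (ev e) (fun i => MvPolynomial.X (e i)) (fun i => by simp [ev]) (p - 1)
    (fun a : D.Idx e => a.1) (fun a => vecE k n (D.rho (D.ff e a))) (by
      intro a l hl
      rw [adM_mulVec, adL_eq, ← rho_tau]
      have := Count.tau_of_mem (D.aa e) (l := l) hl (D.ff_mem e a)
      have h2 : Count.tau k (D.aE (e l)).toEquiv (D.ff e a) = 0 := this
      rw [h2, map_zero, zero_mul, map_zero]) (D.linInd_u e)
  rw [← adM_XR, ← adM_map] at h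
  exact h

end Enum

variable [Fintype E] (K : Type*) [Field K] [Algebra (RR k E) K] [IsFractionRing (RR k E) K]

theorem finrank_ad : n ^ 2 ≤ p * finrank K
    (LinearMap.range ((adL (D.XK K)) ^ (p - 1))) + m ^ 2 := by
  classical
  let e : Fin (Fintype.card E) ≃ E := (Fintype.equivFin E).symm
  have h1 := Count.main (p := p) (D.aa e) (D.aa_comm e) (D.aa_pow e) D.pi
    (fun i f => D.pi_perm (e i) f) D.pi_pi
  rw [finrank_pi] at h1
  have h2 := D.finrank_UU_le e
  have h3 : ∑ i, finrank k (Count.QQ (D.aa e) p D.pi i) ≤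
      finrank K (LinearMap.range ((adL (D.XK K)) ^ (p - 1))) := by
    have h4 := D.linInd_K e K
    let w : D.Idx e → Matrix (Fin n) (Fin n) K := fun a =>
      (vecE K n).symm (fun j => algebraMap (RR k E) K
        (algebraMap k (RR k E) (vecE k n (D.rho (D.ff e a)) j)))
    have h6 : ∀ a, ((adM (D.XK K)) ^ (p - 1)).mulVec (fun j => algebraMap (RR k E) K
        (algebraMap k (RR k E) (vecE k n (D.rho (D.ff e a)) j))) =
        (vecE K n) (((adL (D.XK K)) ^ (p - 1)) (w a)) := by
      intro a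
      rw [← adM_pow_mulVec, LinearEquiv.apply_symm_apply]
    rw [funext h6, li_equiv (vecE K n)
      (fun a : D.Idx e => ((adL (D.XK K)) ^ (p - 1)) (w a))] at h4
    have h8 := li_card_le _ _ h4
    rw [Fintype.card_sigma] at h8
    simpa using h8
  calc n ^ 2 ≤ _ := h1
    _ ≤ _ := Nat.add_le_add (Nat.mul_le_mul_left p h3) h2

end GData

end Cfsg.Agent.H640
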