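import Mathlib
import Cfsg.Agent.H640.Mod2

/-!
# Modular data of the Glauberman correspondence (helper640), part 3

`U = Hom_C (W, V)` over the field `K` of fractions of `k[x_g]`, with the generic element `X` acting on it:
`ker X / im X ^ (p - 1)` is one-dimensional (`exists_gen`).
-/

set_option autoImplicit false
set_option linter.unusedSectionVars false

namespace Cfsg.Agent.H640

open Module Matrix

/-- the embedding `k → K` -/
noncomputable def emb (k E K : Type*) [Field k] [Field K] [Algebra (RR k E) K] : k →+* K :=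
  (algebraMap (RR k E) K).comp (algebraMap k (RR k E))

theorem charP_K (p : ℕ) (k E K : Type*) [Field k] [CharP k p] [Field K] [Algebra (RR k E) K] :
    CharP K p :=
  charP_of_injective_ringHom (emb k E K).injective p

namespace GData

variable {p : ℕ} [hp : Fact p.Prime] {k N E : Type*} [Field k] [CharP k p] [Group N] [Fintype N]
  {C : Subgroup N} [Fintype C] {n m : ℕ} (D : GData p k N E C n m) [Fintype E]
  (K : Type*) [Field K] [Algebra (RR k E) K] [IsFractionRing (RR k E) K]

/-- `rN` over `K` -/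
noncomputable def cN (x : N) : Matrix (Fin n) (Fin n) K := (D.rN x).map (emb k E K)

/-- `rC` over `K` -/
noncomputable def cC (c : C) : Matrix (Fin m) (Fin m) K := (D.rC c).map (emb k E K)

theorem cN_mul (x y : N) : D.cN K (x * y) = D.cN K x * D.cN K y := by
  rw [cN, cN, cN, map_mul, Matrix.map_mul]

theorem cN_one : D.cN K 1 = 1 := by
  rw [cN, map_one]
  ext i j
  by_cases h : i = j <;> simp [h, Matrix.one_apply]

theorem cC_mul (x y : C) : D.cC K (x * y) = D.cC K x * D.cC K y := by
  rw [cC, cC, cC, map_mul, Matrix.map_mul]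

theorem cC_one : D.cC K 1 = 1 := by
  rw [cC, map_one]
  ext i j
  by_cases h : i = j <;> simp [h, Matrix.one_apply]

theorem XK_eq : D.XK K = ∑ g : E, (algebraMap (RR k E) K (MvPolynomial.X g)) •
    (D.rE g - 1).map (emb k E K) := by
  rw [XK, XR]
  ext i j
  simp only [Matrix.map_apply, Matrix.sum_apply, Matrix.smul_apply, smul_eq_mul, map_sum, map_mul]
  rfl

include D in
theorem n_pos : 0 < n := Nat.pos_of_ne_zero fun h => D.n0 (by rw [h, Nat.cast_zero])

include D in
theorem m_pos : 0 < m := Nat.pos_of_ne_zero fun h => D.m0 (by rw [h, Nat.cast_zero])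

theorem XK_pow : (D.XK K) ^ p = 0 := by
  have : Nonempty (Fin n) := ⟨⟨0, D.n_pos⟩⟩
  have := charP_K p k E K
  rw [XK_eq]
  have hA : ∀ g, ((D.rE g - 1).map (emb k E K)) ^ p = 0 := by
    intro g
    have h1 : ((D.rE g - 1).map (emb k E K)) ^ p =
        ((emb k E K).mapMatrix : Matrix (Fin n) (Fin n) k →+* _) ((D.rE g - 1) ^ p) := by
      rw [map_pow]
      rfl
    rw [h1, sub_one_pow_p k p, D.rE_pow, sub_self, map_zero]
  have hc : ∀ g g', Commute ((D.rE g - 1).map (emb k E K)) ((D.rE g' - 1).map (emb k E K)) := by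
    intro g g'
    have h1 : Commute (D.rE g - 1) (D.rE g' - 1) :=
      ((D.rE_comm g g').sub_left (Commute.one_left _)).sub_right (Commute.one_right _)
    exact h1.map ((emb k E K).mapMatrix : Matrix (Fin n) (Fin n) k →+* _)
  have hmain : ∀ s : Finset E, (∑ g ∈ s, (algebraMap (RR k E) K (MvPolynomial.X g)) •
      (D.rE g - 1).map (emb k E K)) ^ p = 0 := by
    classical
    intro s
    induction s using Finset.induction_on with
    | empty => rw [Finset.sum_empty, zero_pow hp.out.ne_zero]
    | insert g s hg ih =>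
      rw [Finset.sum_insert hg, add_pow_char_of_commute, ih, add_zero, smul_pow, hA, smul_zero]
      exact Commute.sum_right _ _ _ fun g' _ => ((hc g g').smul_left _).smul_right _
  exact hmain _

theorem XK_comm (c : C) : Commute (D.XK K) (D.cN K c) := by
  rw [XK_eq]
  refine Commute.sum_left _ _ _ fun g _ => Commute.smul_left ?_ _
  have h1 : Commute (D.rE g - 1) (D.rN c) := by
    refine Commute.sub_left ?_ (Commute.one_left _)
    have h2 := D.rel g c
    rw [(D.mem_C c).1 c.2 g] at h2
    exact h2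
  exact h1.map ((emb k E K).mapMatrix : Matrix (Fin n) (Fin n) k →+* _)

/-! ### Schur relations for `C` -/

theorem schur (i j a b : Fin m) : ((m : k) / (Nat.card C : k)) *
    ∑ c, D.rC c⁻¹ j i * D.rC c a b = if i = a ∧ j = b then 1 else 0 := by
  have h := congrFun (congrFun (D.orthC (Matrix.single i j 1)) a) b
  rw [Matrix.smul_apply, Matrix.sum_apply, smul_eq_mul] at h
  rw [Matrix.single_apply] at h
  rw [← h]
  congr 1
  refine Finset.sum_congr rfl fun c _ => ?_
  rw [Matrix.smul_apply, smul_eq_mul, Matrix.trace_single_mul, one_smul]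

theorem schurK (i j a b : Fin m) : ((m : K) / (Nat.card C : K)) *
    ∑ c, D.cC K c⁻¹ j i * D.cC K c a b = if i = a ∧ j = b then 1 else 0 := by
  have h := congrArg (emb k E K) (D.schur i j a b)
  rw [map_mul, map_div₀, map_natCast, map_natCast, map_sum] at h
  simp only [map_mul] at h
  rw [apply_ite (emb k E K), map_one, map_zero] at h
  exact h

include D in
theorem mK : (m : K) ≠ 0 := by
  have := (map_ne_zero (emb k E K)).2 D.m0
  rwa [map_natCast] at this

include D in
theorem CK : (Nat.card C : K) ≠ 0 := by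
  have := (map_ne_zero (emb k E K)).2 D.C0
  rwa [map_natCast] at this

/-- averages -/
theorem avgC (s : Matrix (Fin m) (Fin m) K) :
    (Nat.card C : K)⁻¹ • ∑ c, D.cC K c * s * D.cC K c⁻¹ = (s.trace / m) • 1 := by
  ext a b
  rw [Matrix.smul_apply, Matrix.sum_apply, Matrix.smul_apply, smul_eq_mul, smul_eq_mul]
  have h1 : ∀ c, (D.cC K c * s * D.cC K c⁻¹) a b =
      ∑ i, ∑ j, s i j * (D.cC K c⁻¹ j b * D.cC K c a i) := by
    intro c
    rw [Matrix.mul_apply]
    simp only [Matrix.mul_apply, Finset.sum_mul]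
    rw [Finset.sum_comm]
    refine Finset.sum_congr rfl fun i _ => Finset.sum_congr rfl fun j _ => ?_
    ring
  simp only [h1]
  rw [Finset.sum_comm]
  have h2 : ∀ i, ∑ c : C, ∑ j, s i j * (D.cC K c⁻¹ j b * D.cC K c a i) =
      ∑ j, s i j * (((Nat.card C : K) / m) * if b = a ∧ j = i then 1 else 0) := by
    intro i
    rw [Finset.sum_comm]
    refine Finset.sum_congr rfl fun j _ => ?_
    rw [← Finset.mul_sum]
    congr 1
    have h3 := D.schurK K b j a i
    rw [← h3]
    have := D.mK K
    have := D.CK K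
    field_simp
  simp only [h2]
  rw [Matrix.one_apply, Matrix.trace]
  by_cases hab : b = a
  · subst hab
    simp only [true_and, Matrix.diag_apply]
    have h4 : ∀ i, ∑ j, s i j * (((Nat.card C : K) / m) * if j = i then 1 else 0) =
        s i i * ((Nat.card C : K) / m) := by
      intro i
      rw [Finset.sum_eq_single i]
      · simp
      · intro j _ hj
        simp [hj]
      · simp
    simp only [h4]
    rw [← Finset.sum_mul]
    have := D.mK K
    have := D.CK K
    rw [if_pos trivial, mul_one]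
    field_simp
  · simp [hab, Ne.symm hab]

/-! ### The space `U` -/

/-- `Hom_C (W, V)` -/
def UK : Submodule K (Matrix (Fin n) (Fin m) K) where
  carrier := {u | ∀ c : C, D.cN K c * u = u * D.cC K c}
  add_mem' := by
    intro _ _ hu hv c
    rw [Matrix.mul_add, Matrix.add_mul, hu c, hv c]
  zero_mem' := by
    intro c
    rw [Matrix.mul_zero, Matrix.zero_mul]
  smul_mem' := by
    intro _ _ hu c
    rw [Matrix.mul_smul, Matrix.smul_mul, hu c]

theorem mem_UK {u : Matrix (Fin n) (Fin m) K} :
    u ∈ D.UK K ↔ ∀ c : C, D.cN K c * u = u * D.cC K c := Iff.rfl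

theorem X_mul_mem {u : Matrix (Fin n) (Fin m) K} (hu : u ∈ D.UK K) : D.XK K * u ∈ D.UK K := by
  intro c
  rw [← Matrix.mul_assoc, ← (D.XK_comm K c).eq, Matrix.mul_assoc, hu c, Matrix.mul_assoc]

/-- `X` on `U` -/
noncomputable def XU : End K (D.UK K) where
  toFun u := ⟨D.XK K * (u : Matrix (Fin n) (Fin m) K), D.X_mul_mem K u.2⟩
  map_add' u v := Subtype.ext (Matrix.mul_add _ _ _)
  map_smul' a u := Subtype.ext (Matrix.mul_smul _ _ _)

theorem XU_apply (u : D.UK K) : (D.XU K u : Matrix (Fin n) (Fin m) K) =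
    D.XK K * (u : Matrix (Fin n) (Fin m) K) := rfl

theorem XU_pow_apply (j : ℕ) (u : D.UK K) :
    (((D.XU K) ^ j) u : Matrix (Fin n) (Fin m) K) =
      (D.XK K) ^ j * (u : Matrix (Fin n) (Fin m) K) := by
  induction j with
  | zero => rw [pow_zero, pow_zero, Matrix.one_mul]; rfl
  | succ j ih => rw [pow_succ', Module.End.mul_apply, XU_apply, ih, pow_succ', Matrix.mul_assoc]

theorem XU_pow : (D.XU K) ^ p = 0 := by
  ext1 u
  apply Subtype.ext
  rw [XU_pow_apply, XK_pow, Matrix.zero_mul]
  rfl

/-- averaging -/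
noncomputable def av (v : Matrix (Fin n) (Fin m) K) : Matrix (Fin n) (Fin m) K :=
  (Nat.card C : K)⁻¹ • ∑ c : C, D.cN K c * v * D.cC K c⁻¹

/-- averaging as a linear map -/
noncomputable def avL : Matrix (Fin n) (Fin m) K →ₗ[K] Matrix (Fin n) (Fin m) K where
  toFun := D.av K
  map_add' u v := by
    simp only [av, Matrix.mul_add, Matrix.add_mul, Finset.sum_add_distrib, smul_add]
  map_smul' a u := by
    simp only [av, Matrix.mul_smul, Matrix.smul_mul, ← Finset.smul_sum, RingHom.id_apply]
    rw [smul_comm]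

theorem av_mem (v : Matrix (Fin n) (Fin m) K) : D.av K v ∈ D.UK K := by
  intro d
  rw [av, Matrix.mul_smul, Matrix.smul_mul, Matrix.mul_sum, Matrix.sum_mul]
  congr 1
  rw [← Equiv.sum_comp (Equiv.mulLeft d) (fun c : C => D.cN K c * v * D.cC K c⁻¹ * D.cC K d)]
  refine Finset.sum_congr rfl fun c _ => ?_
  rw [Equiv.coe_mulLeft, Subgroup.coe_mul, cN_mul, _root_.mul_inv_rev, cC_mul]
  simp only [Matrix.mul_assoc]
  rw [← cC_mul, inv_mul_cancel, cC_one, Matrix.mul_one]

theorem av_of_mem {v : Matrix (Fin n) (Fin m) K} (hv : v ∈ D.UK K) : D.av K v = v := by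
  rw [av]
  have h : ∀ c : C, D.cN K c * v * D.cC K c⁻¹ = v := by
    intro c
    rw [hv c, Matrix.mul_assoc, ← cC_mul, mul_inv_cancel, cC_one, Matrix.mul_one]
  simp only [h]
  rw [Finset.sum_const, Finset.card_univ, ← Nat.card_eq_fintype_card, ← Nat.cast_smul_eq_nsmul K,
    smul_smul, inv_mul_cancel₀ (D.CK K), one_smul]

theorem av_mul {v : Matrix (Fin n) (Fin m) K} (hv : v ∈ D.UK K)
    (s : Matrix (Fin m) (Fin m) K) : D.av K (v * s) = (s.trace / m) • v := by
  rw [av]
  have h : ∀ c : C, D.cN K c * (v * s) * D.cC K c⁻¹ = v * (D.cC K c * s * D.cC K c⁻¹) := by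
    intro c
    rw [← Matrix.mul_assoc, hv c]
    simp only [Matrix.mul_assoc]
  simp only [h]
  rw [← Matrix.mul_sum, ← Matrix.mul_smul, avgC, Matrix.mul_smul, Matrix.mul_one]

theorem X_av (v : Matrix (Fin n) (Fin m) K) : D.XK K * D.av K v = D.av K (D.XK K * v) := by
  rw [av, av, Matrix.mul_smul, Matrix.mul_sum]
  congr 1
  refine Finset.sum_congr rfl fun c _ => ?_
  rw [← Matrix.mul_assoc, ← Matrix.mul_assoc, (D.XK_comm K c).eq, ← Matrix.mul_assoc]

theorem X_pow_av (v : Matrix (Fin n) (Fin m) K) (j : ℕ) :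
    (D.XK K) ^ j * D.av K v = D.av K ((D.XK K) ^ j * v) := by
  induction j with
  | zero => rw [pow_zero, Matrix.one_mul, Matrix.one_mul]
  | succ j ih => rw [pow_succ', Matrix.mul_assoc, ih, X_av, Matrix.mul_assoc]

/-! ### The dimension of `U` -/

theorem trace_mul_mul (A : Matrix (Fin n) (Fin n) K) (B : Matrix (Fin m) (Fin m) K)
    (f : Matrix (Fin n) (Fin m) K →ₗ[K] Matrix (Fin n) (Fin m) K)
    (hf : ∀ v, f v = A * v * B) : LinearMap.trace K _ f = A.trace * B.trace := by
  rw [LinearMap.trace_eq_matrix_trace K (Matrix.stdBasis K (Fin n) (Fin m)), Matrix.trace]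
  simp only [Matrix.diag_apply, LinearMap.toMatrix_apply, hf]
  rw [Fintype.sum_prod_type, Matrix.trace, Matrix.trace, Finset.sum_mul_sum]
  refine Finset.sum_congr rfl fun i _ => Finset.sum_congr rfl fun j _ => ?_
  rw [Matrix.stdBasis_eq_single]
  have h1 : ∀ M : Matrix (Fin n) (Fin m) K, (Matrix.stdBasis K (Fin n) (Fin m)).repr M (i, j) =
      M i j := fun M => by simp [Matrix.stdBasis]
  rw [h1, Matrix.mul_apply, Finset.sum_eq_single j]
  · rw [Matrix.mul_apply, Finset.sum_eq_single i]
    · simp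
    · intro l _ hl
      simp [Ne.symm hl]
    · simp
  · intro l _ hl
    rw [Matrix.mul_apply, Finset.sum_eq_zero, zero_mul]
    intro l' _
    simp [Ne.symm hl]
  · simp

/-- `v ↦ A v B` -/
def conjL (A : Matrix (Fin n) (Fin n) K) (B : Matrix (Fin m) (Fin m) K) :
    Matrix (Fin n) (Fin m) K →ₗ[K] Matrix (Fin n) (Fin m) K where
  toFun v := A * v * B
  map_add' u v := by rw [Matrix.mul_add, Matrix.add_mul]
  map_smul' a u := by rw [Matrix.mul_smul, Matrix.smul_mul, RingHom.id_apply]

theorem avL_eq : D.avL K = (Nat.card C : K)⁻¹ • ∑ c : C, conjL K (D.cN K c) (D.cC K c⁻¹) := by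
  ext1 v
  rw [LinearMap.smul_apply, LinearMap.sum_apply]
  rfl

theorem finrank_UK : (finrank K (D.UK K) : K) =
    (Nat.card C : K)⁻¹ * ∑ c : C, (D.cN K c).trace * (D.cC K c⁻¹).trace := by
  have h1 : LinearMap.IsProj (D.UK K) (D.avL K) :=
    ⟨fun v => D.av_mem K v, fun v hv => D.av_of_mem K hv⟩
  rw [← h1.trace, avL_eq, map_smul, map_sum, smul_eq_mul]
  congr 1
  exact Finset.sum_congr rfl fun c _ => trace_mul_mul K _ _ _ fun v => rfl

theorem trace_map {S S' : Type*} [CommRing S] [CommRing S'] (f : S →+* S') {l : ℕ}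
    (A : Matrix (Fin l) (Fin l) S) : (A.map f).trace = f A.trace := by
  rw [Matrix.trace, Matrix.trace, map_sum]
  rfl

theorem glauK (c : C) : ((n : K) / (Nat.card N : K)) * (D.cN K c).trace =
    ((m : K) / (Nat.card C : K)) * (D.cC K c).trace := by
  have h := congrArg (emb k E K) (D.glau c)
  rw [map_mul, map_mul, map_div₀, map_div₀, map_natCast, map_natCast, map_natCast, map_natCast] at h
  rw [cN, cC, trace_map, trace_map]
  exact h

theorem sum_trace : ∑ c : C, (D.cC K c⁻¹).trace * (D.cC K c).trace = Nat.card C := by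
  have h1 : ∀ i a : Fin m, ∑ c, D.cC K c⁻¹ i i * D.cC K c a a =
      (Nat.card C : K) / m * if i = a then 1 else 0 := by
    intro i a
    have h := D.schurK K i i a a
    have h2 : (if i = a ∧ i = a then (1 : K) else 0) = if i = a then 1 else 0 := by
      by_cases h3 : i = a <;> simp [h3]
    rw [← h2, ← h]
    have := D.mK K
    have := D.CK K
    field_simp
  simp only [Matrix.trace, Matrix.diag_apply, Finset.sum_mul_sum]
  rw [Finset.sum_comm]
  have h3 : ∀ i : Fin m, ∑ c : C, ∑ a, D.cC K c⁻¹ i i * D.cC K c a a = (Nat.card C : K) / m := by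
    intro i
    rw [Finset.sum_comm]
    simp only [h1]
    simp
  simp only [h3]
  rw [Finset.sum_const, Finset.card_univ, Fintype.card_fin, nsmul_eq_mul,
    mul_div_cancel₀ _ (D.mK K)]

theorem not_dvd_finrank : ¬ p ∣ finrank K (D.UK K) := by
  have := charP_K p k E K
  intro h
  rw [← CharP.cast_eq_zero_iff K p, finrank_UK] at h
  have h1 : ((n : K) / (Nat.card N : K)) * ((Nat.card C : K)⁻¹ *
      ∑ c : C, (D.cN K c).trace * (D.cC K c⁻¹).trace) = (m : K) / (Nat.card C : K) := by
    rw [mul_left_comm, Finset.mul_sum]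
    have h2 : ∀ c : C, (n : K) / (Nat.card N : K) * ((D.cN K c).trace * (D.cC K c⁻¹).trace) =
        ((m : K) / (Nat.card C : K)) * ((D.cC K c⁻¹).trace * (D.cC K c).trace) := by
      intro c
      rw [← mul_assoc, glauK]
      ring
    simp only [h2]
    rw [← Finset.mul_sum, sum_trace]
    have := D.CK K
    field_simp
  rw [h, mul_zero] at h1
  exact (div_ne_zero (D.mK K) (D.CK K)) h1.symm

theorem exists_notMem_range : ∃ u ∈ LinearMap.ker (D.XU K),
    u ∉ LinearMap.range ((D.XU K) ^ (p - 1)) := by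
  by_contra h
  push Not at h
  exact D.not_dvd_finrank K (dvd_of_ker_le (D.XU K) hp.out.pos (D.XU_pow K) h)

end GData

end Cfsg.Agent.H640
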