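import Mathlib
import Cfsg.Agent.H640.Mod3

/-!
# Modular data of the Glauberman correspondence (helper640), part 4

`exists_gen` : `ker X / im X ^ (p - 1)` on `U = Hom_C (W, V)` is one-dimensional.
-/

set_option autoImplicit false
set_option linter.unusedSectionVars false

namespace Cfsg.Agent.H640

open Module Matrix

theorem adL_pow_mul {S : Type*} [CommRing S] {n l : ℕ} (X t : Matrix (Fin n) (Fin n) S)
    (u : Matrix (Fin n) (Fin l) S) (hu : X * u = 0) (j : ℕ) :
    ((adL X ^ j) t) * u = X ^ j * (t * u) := by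
  induction j with
  | zero => rw [pow_zero, pow_zero, Matrix.one_mul]; rfl
  | succ j ih =>
    rw [pow_succ', Module.End.mul_apply, adL_apply, Matrix.sub_mul, Matrix.mul_assoc, ih,
      Matrix.mul_assoc, hu, Matrix.mul_zero, sub_zero, pow_succ', Matrix.mul_assoc]

theorem adL_pow_p {S : Type*} [Field S] {p n : ℕ} [Fact p.Prime] [CharP S p] [Nonempty (Fin n)]
    (X : Matrix (Fin n) (Fin n) S) (hX : X ^ p = 0) : adL X ^ p = 0 := by
  have h1 : CharP (End S (Matrix (Fin n) (Fin n) S)) p :=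
    charP_of_injective_algebraMap (algebraMap S (End S (Matrix (Fin n) (Fin n) S))).injective p
  have hc : Commute (LinearMap.mulLeft S X) (LinearMap.mulRight S X) := by
    ext1 v
    simp only [Module.End.mul_apply, LinearMap.mulLeft_apply, LinearMap.mulRight_apply,
      Matrix.mul_assoc]
  rw [adL, sub_pow_char_of_commute p hc, LinearMap.pow_mulLeft, LinearMap.pow_mulRight, hX]
  simp

namespace GData

variable {p : ℕ} [hp : Fact p.Prime] {k N E : Type*} [Field k] [CharP k p] [Group N] [Fintype N]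
  {C : Subgroup N} [Fintype C] {n m : ℕ} (D : GData p k N E C n m) [Fintype E]
  (K : Type*) [Field K] [Algebra (RR k E) K] [IsFractionRing (RR k E) K]

theorem orthCK (s : Matrix (Fin m) (Fin m) K) :
    ((m : K) / (Nat.card C : K)) • ∑ c : C, (s * D.cC K c⁻¹).trace • D.cC K c = s := by
  ext a b
  rw [Matrix.smul_apply, Matrix.sum_apply, smul_eq_mul]
  have h1 : ∀ c : C, ((s * D.cC K c⁻¹).trace • D.cC K c) a b =
      ∑ i, ∑ j, s i j * (D.cC K c⁻¹ j i * D.cC K c a b) := by
    intro c
    rw [Matrix.smul_apply, smul_eq_mul, Matrix.trace, Finset.sum_mul]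
    refine Finset.sum_congr rfl fun i _ => ?_
    rw [Matrix.diag_apply, Matrix.mul_apply, Finset.sum_mul]
    exact Finset.sum_congr rfl fun j _ => by ring
  simp only [h1]
  rw [Finset.sum_comm, Finset.mul_sum, Finset.sum_eq_single a]
  · rw [Finset.sum_comm, Finset.mul_sum, Finset.sum_eq_single b]
    · rw [← Finset.mul_sum, mul_left_comm, schurK]
      simp
    · intro j _ hj
      rw [← Finset.mul_sum, mul_left_comm, schurK, if_neg (fun h => hj h.2), mul_zero]
    · simp
  · intro i _ hi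
    rw [Finset.sum_comm, Finset.mul_sum]
    refine Finset.sum_eq_zero fun j _ => ?_
    rw [← Finset.mul_sum, mul_left_comm, schurK, if_neg (fun h => hi h.1), mul_zero]
  · simp

/-- `s ↦ m / |C| ∑ tr (s cC c⁻¹) cN c` -/
noncomputable def jC : Matrix (Fin m) (Fin m) K →ₗ[K] Matrix (Fin n) (Fin n) K where
  toFun s := ((m : K) / (Nat.card C : K)) • ∑ c : C, (s * D.cC K c⁻¹).trace • D.cN K c
  map_add' s t := by
    simp only [Matrix.add_mul, Matrix.trace_add, add_smul, Finset.sum_add_distrib, smul_add]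
  map_smul' a s := by
    simp only [Matrix.smul_mul, Matrix.trace_smul, RingHom.id_apply, smul_eq_mul, mul_smul,
      ← Finset.smul_sum]
    rw [smul_comm]

theorem jC_apply (s : Matrix (Fin m) (Fin m) K) :
    D.jC K s = ((m : K) / (Nat.card C : K)) • ∑ c : C, (s * D.cC K c⁻¹).trace • D.cN K c := rfl

theorem jC_mul (s : Matrix (Fin m) (Fin m) K) {u : Matrix (Fin n) (Fin m) K}
    (hu : u ∈ D.UK K) : D.jC K s * u = u * s := by
  conv_rhs => rw [← D.orthCK K s]
  rw [jC_apply, Matrix.smul_mul, Matrix.mul_smul, Matrix.sum_mul, Matrix.mul_sum]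
  congr 1
  refine Finset.sum_congr rfl fun c _ => ?_
  rw [Matrix.smul_mul, Matrix.mul_smul, hu c]

theorem jC_comm (s : Matrix (Fin m) (Fin m) K) : D.XK K * D.jC K s = D.jC K s * D.XK K := by
  rw [jC_apply, Matrix.mul_smul, Matrix.smul_mul, Matrix.mul_sum, Matrix.sum_mul]
  congr 1
  refine Finset.sum_congr rfl fun c _ => ?_
  rw [Matrix.mul_smul, Matrix.smul_mul, (D.XK_comm K c).eq]

theorem eq_zero_of_mulVec (u : D.UK K) (hu' : u ∉ LinearMap.range ((D.XU K) ^ (p - 1)))
    (v : Fin m → K) (y : Fin n → K)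
    (h : (u : Matrix (Fin n) (Fin m) K).mulVec v = ((D.XK K) ^ (p - 1)).mulVec y) : v = 0 := by
  by_contra hv
  apply hu'
  have h1 : ∀ s : Matrix (Fin m) (Fin m) K, ∃ z : Fin n → K,
      (u : Matrix (Fin n) (Fin m) K).mulVec (s.mulVec v) = ((D.XK K) ^ (p - 1)).mulVec z := by
    intro s
    refine ⟨(D.jC K s).mulVec y, ?_⟩
    have hc : Commute ((D.XK K) ^ (p - 1)) (D.jC K s) :=
      Commute.pow_left (D.jC_comm K s) _
    rw [Matrix.mulVec_mulVec, ← D.jC_mul K s u.2, ← Matrix.mulVec_mulVec, h,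
      Matrix.mulVec_mulVec, Matrix.mulVec_mulVec, hc.eq]
  obtain ⟨j, hj⟩ := Function.ne_iff.1 hv
  have h2 : ∀ i : Fin m, ∃ z : Fin n → K,
      (u : Matrix (Fin n) (Fin m) K).mulVec (Pi.single i 1) = ((D.XK K) ^ (p - 1)).mulVec z := by
    intro i
    obtain ⟨z, hz⟩ := h1 (Matrix.single i j (v j)⁻¹)
    refine ⟨z, ?_⟩
    rw [← hz]
    congr 1
    rw [Matrix.single_mulVec, inv_mul_cancel₀ hj]
    rfl
  choose z hz using h2
  let Y : Matrix (Fin n) (Fin m) K := Matrix.of fun a i => z i a
  have h3 : (u : Matrix (Fin n) (Fin m) K) = (D.XK K) ^ (p - 1) * Y := by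
    ext a i
    have := congrFun (hz i) a
    rw [Matrix.mulVec_single_one] at this
    exact this
  refine ⟨⟨D.av K Y, D.av_mem K Y⟩, ?_⟩
  apply Subtype.ext
  rw [XU_pow_apply]
  show D.XK K ^ (p - 1) * D.av K Y = _
  rw [X_pow_av, ← h3, D.av_of_mem K u.2]

theorem eq_zero_of_mul {l : ℕ} (u : D.UK K)
    (hu' : u ∉ LinearMap.range ((D.XU K) ^ (p - 1)))
    (v : Matrix (Fin m) (Fin l) K) (y : Matrix (Fin n) (Fin l) K)
    (h : (u : Matrix (Fin n) (Fin m) K) * v = (D.XK K) ^ (p - 1) * y) : v = 0 := by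
  ext i j
  have h1 := D.eq_zero_of_mulVec K u hu' (fun i => v i j) (fun i => y i j) (by
    funext a
    exact congrFun (congrFun h a) j)
  exact congrFun h1 i

/-- The kernel of `ad X`. -/
theorem ker_ad : LinearMap.ker (adL (D.XK K)) ≤
    LinearMap.range (D.jC K) ⊔ LinearMap.range ((adL (D.XK K)) ^ (p - 1)) := by
  have := charP_K p k E K
  have : Nonempty (Fin n) := ⟨⟨0, D.n_pos⟩⟩
  obtain ⟨u, hu, hu'⟩ := D.exists_notMem_range K
  have hXu : D.XK K * (u : Matrix (Fin n) (Fin m) K) = 0 := congrArg Subtype.val hu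
  have hkey : ∀ s t, D.jC K s = ((adL (D.XK K)) ^ (p - 1)) t → s = 0 := by
    intro s t hst
    have h1 := D.jC_mul K s u.2
    rw [hst, adL_pow_mul _ _ _ hXu] at h1
    exact D.eq_zero_of_mul K u hu' s _ h1.symm
  have hinj : Function.Injective (D.jC K) := by
    rw [← LinearMap.ker_eq_bot, LinearMap.ker_eq_bot']
    intro s hs
    exact hkey s 0 (by rw [hs, map_zero])
  have hdisj : Disjoint (LinearMap.range (D.jC K))
      (LinearMap.range ((adL (D.XK K)) ^ (p - 1))) := by
    rw [Submodule.disjoint_def]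
    rintro _ ⟨s, rfl⟩ ⟨t, ht⟩
    rw [hkey s t ht.symm, map_zero]
  have hle : LinearMap.range (D.jC K) ⊔ LinearMap.range ((adL (D.XK K)) ^ (p - 1)) ≤
      LinearMap.ker (adL (D.XK K)) := by
    refine sup_le ?_ ?_
    · rintro _ ⟨s, rfl⟩
      rw [LinearMap.mem_ker, adL_apply, jC_comm, sub_self]
    · rintro _ ⟨t, rfl⟩
      rw [LinearMap.mem_ker, ← Module.End.mul_apply, ← pow_succ',
        Nat.sub_add_cancel hp.out.one_lt.le, adL_pow_p _ (D.XK_pow K)]
      rfl
  have hdim1 : finrank K ↥(LinearMap.range (D.jC K) ⊔ LinearMap.range ((adL (D.XK K)) ^ (p - 1))) =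
      m ^ 2 + finrank K (LinearMap.range ((adL (D.XK K)) ^ (p - 1))) := by
    have h1 := Submodule.finrank_sup_add_finrank_inf_eq (LinearMap.range (D.jC K))
      (LinearMap.range ((adL (D.XK K)) ^ (p - 1)))
    rw [hdisj.eq_bot, finrank_bot, add_zero, LinearMap.finrank_range_of_inj hinj,
      Module.finrank_matrix, Module.finrank_self, Fintype.card_fin, mul_one, ← sq] at h1
    exact h1
  have hdim2 := finrank_ker_add_le (adL (D.XK K)) hp.out.pos (adL_pow_p _ (D.XK_pow K))
  have hdim3 := D.finrank_ad K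
  rw [Module.finrank_matrix, Module.finrank_self, Fintype.card_fin] at hdim2
  have hp0 : ∀ r : ℕ, p * r = (p - 1) * r + r := by
    intro r
    obtain ⟨q, hq⟩ : ∃ q, p = q + 1 := ⟨p - 1, by have := hp.out.pos; omega⟩
    rw [hq, Nat.add_sub_cancel]
    ring
  have hp1 := hp0 (finrank K (LinearMap.range ((adL (D.XK K)) ^ (p - 1))))
  have hfin : finrank K (LinearMap.ker (adL (D.XK K))) ≤
      finrank K ↥(LinearMap.range (D.jC K) ⊔ LinearMap.range ((adL (D.XK K)) ^ (p - 1))) := by
    rw [hdim1]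
    rw [hp1] at hdim3
    have h4 : n ^ 2 = n * n * 1 := by ring
    omega
  exact (Submodule.eq_of_le_of_finrank_le hle hfin).ge

/-- the extension of an endomorphism of `U` to the space of `V` -/
noncomputable def ext1 (f : End K (D.UK K)) : Matrix (Fin n) (Fin n) K :=
  Matrix.of fun i j => (m : K) * ∑ a, (f ⟨D.av K (Matrix.single j a (1 : K)), D.av_mem K _⟩ :
    Matrix (Fin n) (Fin m) K) i a

/-- averaging into `U` -/
noncomputable def avU : Matrix (Fin n) (Fin m) K →ₗ[K] D.UK K :=
  (D.avL K).codRestrict (D.UK K) (fun v => D.av_mem K v)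

theorem avU_coe (v : Matrix (Fin n) (Fin m) K) :
    (D.avU K v : Matrix (Fin n) (Fin m) K) = D.av K v := rfl

theorem ext1_apply (f : End K (D.UK K)) (i j : Fin n) : D.ext1 K f i j =
    (m : K) * ∑ a, (f (D.avU K (Matrix.single j a (1 : K))) : Matrix (Fin n) (Fin m) K) i a := rfl

theorem ext1_mul (f : End K (D.UK K)) (u : D.UK K) :
    D.ext1 K f * (u : Matrix (Fin n) (Fin m) K) = f u := by
  ext i b
  rw [Matrix.mul_apply]
  have h1 : ∀ j, D.ext1 K f i j * (u : Matrix (Fin n) (Fin m) K) j b =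
      (m : K) * ∑ a, (f (D.avU K ((u : Matrix (Fin n) (Fin m) K) j b • Matrix.single j a (1 : K))) :
        Matrix (Fin n) (Fin m) K) i a := by
    intro j
    rw [ext1_apply, mul_assoc, Finset.sum_mul]
    congr 1
    refine Finset.sum_congr rfl fun a _ => ?_
    rw [map_smul, map_smul]
    show _ = (u : Matrix (Fin n) (Fin m) K) j b * _
    rw [mul_comm]
  simp only [h1]
  rw [← Finset.mul_sum, Finset.sum_comm]
  have h2 : ∀ a, ∑ j, (f (D.avU K ((u : Matrix (Fin n) (Fin m) K) j b • Matrix.single j a (1 : K))) :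
        Matrix (Fin n) (Fin m) K) i a =
      (f (D.avU K ((u : Matrix (Fin n) (Fin m) K) * Matrix.single b a (1 : K))) :
        Matrix (Fin n) (Fin m) K) i a := by
    intro a
    have h3 : (u : Matrix (Fin n) (Fin m) K) * Matrix.single b a (1 : K) =
        ∑ j, (u : Matrix (Fin n) (Fin m) K) j b • Matrix.single j a (1 : K) := by
      ext x y
      rw [Matrix.sum_apply, Matrix.mul_apply, Finset.sum_eq_single b, Finset.sum_eq_single x]
      · by_cases h : a = y <;> simp [h]
      · intro j _ hj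
        simp [hj]
      · simp
      · intro j _ hj
        simp [Ne.symm hj]
      · simp
    rw [h3, map_sum, map_sum, AddSubmonoidClass.coe_finsetSum, Matrix.sum_apply]
  simp only [h2]
  have h4 : ∀ a, D.avU K ((u : Matrix (Fin n) (Fin m) K) * Matrix.single b a (1 : K)) =
      ((if b = a then 1 else 0 : K) / m) • u := by
    intro a
    apply Subtype.ext
    rw [avU_coe, D.av_mul K u.2]
    congr 2
    by_cases h : b = a
    · subst h; simp
    · simp [h]
  simp only [h4, map_smul]
  rw [Finset.sum_eq_single b]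
  · rw [if_pos rfl]
    show (m : K) * (1 / m * _) = _
    rw [← mul_assoc, mul_one_div_cancel (D.mK K), one_mul]
  · intro a _ ha
    rw [if_neg (Ne.symm ha), zero_div, zero_smul]
    rfl
  · simp

theorem ext1_comm (f : End K (D.UK K)) (hf : Commute f (D.XU K)) :
    D.XK K * D.ext1 K f = D.ext1 K f * D.XK K := by
  have hf' : ∀ u, D.XK K * (f u : Matrix (Fin n) (Fin m) K) = f (D.XU K u) := by
    intro u
    have := LinearMap.congr_fun hf.eq u
    rw [Module.End.mul_apply, Module.End.mul_apply] at this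
    rw [this, XU_apply]
  ext i j
  rw [Matrix.mul_apply, Matrix.mul_apply]
  have h1 : ∑ l, D.XK K i l * D.ext1 K f l j = (m : K) *
      ∑ a, (f (D.XU K (D.avU K (Matrix.single j a (1 : K)))) : Matrix (Fin n) (Fin m) K) i a := by
    simp only [ext1_apply, ← hf', Matrix.mul_apply, Finset.mul_sum]
    rw [Finset.sum_comm]
    refine Finset.sum_congr rfl fun a _ => Finset.sum_congr rfl fun l _ => ?_
    ring
  have h2 : ∀ a, D.XU K (D.avU K (Matrix.single j a (1 : K))) =
      ∑ l, D.XK K l j • D.avU K (Matrix.single l a (1 : K)) := by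
    intro a
    have h3 : D.XK K * (Matrix.single j a (1 : K) : Matrix (Fin n) (Fin m) K) =
        ∑ l, D.XK K l j • Matrix.single l a (1 : K) := by
      ext x y
      rw [Matrix.sum_apply, Matrix.mul_apply, Finset.sum_eq_single j, Finset.sum_eq_single x]
      · by_cases h : a = y <;> simp [h]
      · intro j _ hj
        simp [hj]
      · simp
      · intro j _ hj
        simp [Ne.symm hj]
      · simp
    have h4 : D.XU K (D.avU K (Matrix.single j a (1 : K))) =
        D.avU K (D.XK K * (Matrix.single j a (1 : K) : Matrix (Fin n) (Fin m) K)) := by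
      apply Subtype.ext
      rw [XU_apply, avU_coe, avU_coe, X_av]
    rw [h4, h3, map_sum]
    exact Finset.sum_congr rfl fun l _ => map_smul _ _ _
  rw [h1]
  simp only [h2, map_sum, map_smul, ext1_apply, AddSubmonoidClass.coe_finsetSum, Matrix.sum_apply]
  rw [Finset.sum_comm, Finset.mul_sum]
  refine Finset.sum_congr rfl fun l _ => ?_
  rw [mul_assoc, Finset.sum_mul]
  congr 1
  refine Finset.sum_congr rfl fun a _ => ?_
  show D.XK K l j * _ = _
  rw [mul_comm]

/-- All endomorphisms of `U` commuting with `X` are scalars modulo traces. -/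
theorem scalar (f : End K (D.UK K)) (hf : Commute f (D.XU K)) :
    ∃ c : K, ∀ w ∈ LinearMap.ker (D.XU K), f w - c • w ∈ LinearMap.range ((D.XU K) ^ (p - 1)) := by
  obtain ⟨u, hu, hu'⟩ := D.exists_notMem_range K
  have hXu : D.XK K * (u : Matrix (Fin n) (Fin m) K) = 0 := congrArg Subtype.val hu
  have h1 : D.ext1 K f ∈ LinearMap.ker (adL (D.XK K)) := by
    rw [LinearMap.mem_ker, adL_apply, D.ext1_comm K f hf, sub_self]
  obtain ⟨_, ⟨s, rfl⟩, _, ⟨t, rfl⟩, hst⟩ := Submodule.mem_sup.1 (D.ker_ad K h1)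
  have h2 : ∀ w ∈ LinearMap.ker (D.XU K), (f w : Matrix (Fin n) (Fin m) K) =
      (w : Matrix (Fin n) (Fin m) K) * s +
        (D.XK K) ^ (p - 1) * (t * (w : Matrix (Fin n) (Fin m) K)) := by
    intro w hw
    have hXw : D.XK K * (w : Matrix (Fin n) (Fin m) K) = 0 := congrArg Subtype.val hw
    rw [← ext1_mul, ← hst, Matrix.add_mul, D.jC_mul K s w.2, adL_pow_mul _ _ _ hXw]
  have hs : ∀ c : C, D.cC K c * s = s * D.cC K c := by
    intro c
    have h3 : (u : Matrix (Fin n) (Fin m) K) * (D.cC K c * s - s * D.cC K c) =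
        (D.XK K) ^ (p - 1) * (t * (u : Matrix (Fin n) (Fin m) K) * D.cC K c -
          D.cN K c * (t * (u : Matrix (Fin n) (Fin m) K))) := by
      have h4 := (f u).2 c
      rw [h2 u hu] at h4
      have hc : Commute ((D.XK K) ^ (p - 1)) (D.cN K c) := (D.XK_comm K c).pow_left _
      have h5 := u.2 c
      calc (u : Matrix (Fin n) (Fin m) K) * (D.cC K c * s - s * D.cC K c)
          = (u : Matrix (Fin n) (Fin m) K) * D.cC K c * s -
              (u : Matrix (Fin n) (Fin m) K) * s * D.cC K c := by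
            rw [Matrix.mul_sub, Matrix.mul_assoc, Matrix.mul_assoc]
        _ = D.cN K c * ((u : Matrix (Fin n) (Fin m) K) * s +
              (D.XK K) ^ (p - 1) * (t * (u : Matrix (Fin n) (Fin m) K))) -
            ((u : Matrix (Fin n) (Fin m) K) * s +
              (D.XK K) ^ (p - 1) * (t * (u : Matrix (Fin n) (Fin m) K))) * D.cC K c
            + (D.XK K) ^ (p - 1) * (t * (u : Matrix (Fin n) (Fin m) K)) * D.cC K c -
            D.cN K c * (D.XK K) ^ (p - 1) * (t * (u : Matrix (Fin n) (Fin m) K)) := by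
            rw [← h5, Matrix.mul_add, Matrix.add_mul]
            simp only [Matrix.mul_assoc]
            abel
        _ = _ := by
            rw [h4, sub_self, zero_add, ← hc.eq, Matrix.mul_sub]
            simp only [Matrix.mul_assoc]
    exact sub_eq_zero.1 (D.eq_zero_of_mul K u hu' _ _ h3)
  have hs2 : s = (s.trace / m) • 1 := by
    rw [← D.avgC K s]
    have h3 : ∀ c : C, D.cC K c * s * D.cC K c⁻¹ = s := by
      intro c
      rw [hs c, Matrix.mul_assoc, ← cC_mul, mul_inv_cancel, cC_one, Matrix.mul_one]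
    simp only [h3]
    rw [Finset.sum_const, Finset.card_univ, ← Nat.card_eq_fintype_card,
      ← Nat.cast_smul_eq_nsmul K, smul_smul, inv_mul_cancel₀ (D.CK K), one_smul]
  refine ⟨s.trace / m, fun w hw => ⟨D.avU K (t * (w : Matrix (Fin n) (Fin m) K)), ?_⟩⟩
  apply Subtype.ext
  rw [XU_pow_apply, avU_coe, X_pow_av]
  have h4 := h2 w hw
  have h5 : (D.XK K) ^ (p - 1) * (t * (w : Matrix (Fin n) (Fin m) K)) =
      ((f w - (s.trace / m) • w : D.UK K) : Matrix (Fin n) (Fin m) K) := by
    rw [Submodule.coe_sub, Submodule.coe_smul, h4]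
    conv_rhs => rw [hs2]
    rw [Matrix.mul_smul, Matrix.mul_one]
    rw [Matrix.trace_smul, Matrix.trace_one, Fintype.card_fin, smul_eq_mul,
      div_mul_cancel₀ _ (D.mK K)]
    abel
  rw [h5, D.av_of_mem K (f w - (s.trace / m) • w).2]

/-- **`ker X / im X ^ (p - 1)` on `U` is one-dimensional.** -/
theorem exists_gen : ∃ u ∈ LinearMap.ker (D.XU K), u ∉ LinearMap.range ((D.XU K) ^ (p - 1)) ∧
    ∀ w ∈ LinearMap.ker (D.XU K), ∃ a : K, w - a • u ∈ LinearMap.range ((D.XU K) ^ (p - 1)) := by
  obtain ⟨u, hu, h⟩ := exists_span (D.XU K) (p := p) (D.scalar K)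
  refine ⟨u, hu, ?_, h⟩
  intro hu'
  obtain ⟨w, hw, hw'⟩ := D.exists_notMem_range K
  obtain ⟨a, ha⟩ := h w hw
  apply hw'
  have := add_mem ha (Submodule.smul_mem _ a hu')
  rwa [sub_add_cancel] at this

end GData

end Cfsg.Agent.H640
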