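import Mathlib
import Cfsg.Agent.H640.Mod4
import Cfsg.Agent.H640.Desc

/-!
# Modular data of the Glauberman correspondence (helper640), part 5: the character of the operator group

`exists_chi` : a finite group `L` acting on everything through `rL` (on `V`) and `q` (on `W`); there is a
linear character `χ` of `L` over `k` with `χ h = a` whenever `h` fixes all elements of `E` and
`rL h = rN c`, `a • q h = rC c` for some `c ∈ C`.
-/

set_option autoImplicit false
set_option linter.unusedSectionVars false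

namespace Cfsg.Agent.H640

open Module Matrix

/-- renaming of variables on the ring -/
noncomputable def sgR (k : Type*) {E : Type*} [Field k] (π : Equiv.Perm E) : RR k E ≃+* RR k E :=
  (MvPolynomial.renameEquiv k π).toRingEquiv

/-- renaming of variables on the field -/
noncomputable def sgK (k : Type*) {E : Type*} [Field k] (K : Type*) [Field K] [Algebra (RR k E) K]
    [IsFractionRing (RR k E) K] (π : Equiv.Perm E) : K ≃+* K :=
  IsFractionRing.ringEquivOfRingEquiv (A := RR k E) (B := RR k E) (sgR k π)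

theorem sgR_X {k E : Type*} [Field k] (π : Equiv.Perm E) (g : E) :
    sgR k π (MvPolynomial.X g) = MvPolynomial.X (π g) := MvPolynomial.rename_X _ _

theorem sgR_C {k E : Type*} [Field k] (π : Equiv.Perm E) (c : k) :
    sgR k π (algebraMap k (RR k E) c) = algebraMap k (RR k E) c := MvPolynomial.rename_C _ _

theorem sgK_algebraMap {k E : Type*} [Field k] (K : Type*) [Field K] [Algebra (RR k E) K]
    [IsFractionRing (RR k E) K] (π : Equiv.Perm E) (r : RR k E) :
    sgK k K π (algebraMap (RR k E) K r) = algebraMap (RR k E) K (sgR k π r) :=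
  IsFractionRing.ringEquivOfRingEquiv_algebraMap _ _

theorem sgK_emb {k E : Type*} [Field k] (K : Type*) [Field K] [Algebra (RR k E) K]
    [IsFractionRing (RR k E) K] (π : Equiv.Perm E) (c : k) :
    sgK k K π (emb k E K c) = emb k E K c := by
  rw [emb, RingHom.comp_apply, sgK_algebraMap, sgR_C]

theorem sgR_mul {k E : Type*} [Field k] (π π' : Equiv.Perm E) (r : RR k E) :
    sgR k (π * π') r = sgR k π (sgR k π' r) := by
  show MvPolynomial.rename (π * π') r = MvPolynomial.rename π (MvPolynomial.rename π' r)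
  rw [MvPolynomial.rename_rename]
  rfl

theorem sgR_one {k E : Type*} [Field k] (r : RR k E) : sgR k (1 : Equiv.Perm E) r = r := by
  show MvPolynomial.rename (1 : Equiv.Perm E) r = r
  exact MvPolynomial.rename_id_apply r

theorem sgK_mul {k E : Type*} [Field k] (K : Type*) [Field K] [Algebra (RR k E) K]
    [IsFractionRing (RR k E) K] (π π' : Equiv.Perm E) (r : K) :
    sgK k K (π * π') r = sgK k K π (sgK k K π' r) := by
  obtain ⟨a, b, -, rfl⟩ := IsFractionRing.div_surjective (A := RR k E) r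
  rw [map_div₀, map_div₀, map_div₀]
  simp only [sgK_algebraMap, sgR_mul]

theorem sgK_one {k E : Type*} [Field k] (K : Type*) [Field K] [Algebra (RR k E) K]
    [IsFractionRing (RR k E) K] (r : K) : sgK k K (1 : Equiv.Perm E) r = r := by
  obtain ⟨a, b, -, rfl⟩ := IsFractionRing.div_surjective (A := RR k E) r
  rw [map_div₀]
  simp only [sgK_algebraMap, sgR_one]

/-- the cocycle of a semilinear action on a line -/
theorem exists_cocycle {K V L : Type*} [Field K] [AddCommGroup V] [Module K V] [Group L]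
    (W : Submodule K V) (u : V) (hu : u ∉ W) (τ : L → K ≃+* K) (A : L → V → V)
    (hmul : ∀ h h' w, A (h * h') w = A h (A h' w)) (hone : ∀ w, A 1 w = w)
    (hadd : ∀ h w w', A h (w + w') = A h w + A h w')
    (hsmul : ∀ h (a : K) w, A h (a • w) = τ h a • A h w)
    (hW : ∀ h w, w ∈ W → A h w ∈ W) (hgen : ∀ h, ∃ a : K, A h u - a • u ∈ W) :
    ∃ f : L → K, (∀ h (a : K), A h u = a • u → f h = a) ∧ (∀ h, f h ≠ 0) ∧
      ∀ a b, f (a * b) = f a * τ a (f b) := by
  choose f hf using hgen
  have huniq : ∀ a : K, a • u ∈ W → a = 0 := by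
    intro a ha
    by_contra h0
    apply hu
    have := W.smul_mem a⁻¹ ha
    rwa [smul_smul, inv_mul_cancel₀ h0, one_smul] at this
  refine ⟨f, ?_, ?_, ?_⟩
  · intro h a ha
    have h1 := hf h
    rw [ha, ← sub_smul] at h1
    exact (sub_eq_zero.1 (huniq _ h1)).symm
  · intro h h0
    have h1 := hf h
    rw [h0, zero_smul, sub_zero] at h1
    have h2 := hW h⁻¹ _ h1
    rw [← hmul, inv_mul_cancel, hone] at h2
    exact hu h2
  · intro a b
    have h1 := hf (a * b)
    have h2 := hW a _ (hf b)
    have h3 : A a (A b u - f b • u) = A (a * b) u - τ a (f b) • A a u := by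
      rw [sub_eq_add_neg, hadd, ← hmul, ← neg_smul, hsmul, map_neg, neg_smul, sub_eq_add_neg]
    rw [h3] at h2
    have h4 := W.smul_mem (τ a (f b)) (hf a)
    have h5 := sub_mem (add_mem h2 h4) h1
    have h6 : A (a * b) u - τ a (f b) • A a u + τ a (f b) • (A a u - f a • u) -
        (A (a * b) u - f (a * b) • u) = (f (a * b) - f a * τ a (f b)) • u := by
      rw [smul_sub, smul_smul, sub_smul, mul_comm (f a)]
      abel
    rw [h6] at h5
    exact sub_eq_zero.1 (huniq _ h5)

namespace GData

variable {p : ℕ} [hp : Fact p.Prime] {k N E : Type*} [Field k] [CharP k p] [Group N] [Fintype N]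
  {C : Subgroup N} [Fintype C] {n m : ℕ} (D : GData p k N E C n m) [Fintype E]

/-- The operators. -/
structure LData (L : Type*) [Group L] where
  π : L →* Equiv.Perm E
  rL : L →* Matrix (Fin n) (Fin n) k
  q : L →* Matrix (Fin m) (Fin m) k
  rel_E : ∀ h g, rL h * D.rE g = D.rE (π h g) * rL h
  rel_C : ∀ (h : L) (c : C), ∃ c' : C, rL h * D.rN c' = D.rN c * rL h ∧ q h * D.rC c' = D.rC c * q h

namespace LData

variable {D} {L : Type*} [Group L] (F : D.LData L)
  (K : Type*) [Field K] [Algebra (RR k E) K] [IsFractionRing (RR k E) K]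

/-- `rL` over `KK` -/
noncomputable def cL (h : L) : Matrix (Fin n) (Fin n) K := (F.rL h).map (emb k E K)

/-- `q` over `KK` -/
noncomputable def cq (h : L) : Matrix (Fin m) (Fin m) K := (F.q h).map (emb k E K)

theorem cL_mul (x y : L) : F.cL K (x * y) = F.cL K x * F.cL K y := by
  rw [cL, cL, cL, map_mul, Matrix.map_mul]

theorem cL_one : F.cL K 1 = 1 := by
  rw [cL, map_one]
  ext i j
  by_cases h : i = j <;> simp [h, Matrix.one_apply]

theorem cq_mul (x y : L) : F.cq K (x * y) = F.cq K x * F.cq K y := by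
  rw [cq, cq, cq, map_mul, Matrix.map_mul]

theorem cq_one : F.cq K 1 = 1 := by
  rw [cq, map_one]
  ext i j
  by_cases h : i = j <;> simp [h, Matrix.one_apply]

theorem map_sg {a b : ℕ} (π : Equiv.Perm E) (M : Matrix (Fin a) (Fin b) k) :
    (M.map (emb k E K)).map (sgK k K π) = M.map (emb k E K) := by
  ext i j
  simp only [Matrix.map_apply, sgK_emb K]

theorem map_mul' {a b c : ℕ} (π : Equiv.Perm E) (M : Matrix (Fin a) (Fin b) K)
    (M' : Matrix (Fin b) (Fin c) K) :
    (M * M').map (sgK k K π) = M.map (sgK k K π) * M'.map (sgK k K π) :=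
  Matrix.map_mul (L := M) (M := M') (f := ((sgK k K π : K ≃+* K) : K →+* K))

/-- the generic element is semi-invariant -/
theorem XK_sg (h : L) : D.XK K * F.cL K h = F.cL K h * (D.XK K).map (sgK k K (F.π h)) := by
  have h1 : (D.XK K).map (sgK k K (F.π h)) =
      ∑ g : E, (algebraMap (RR k E) K (MvPolynomial.X (F.π h g))) •
        (D.rE g - 1).map (emb k E K) := by
    rw [XK_eq]
    ext i j
    simp only [Matrix.map_apply, Matrix.sum_apply, Matrix.smul_apply, smul_eq_mul, map_sum, map_mul,
      sgK_emb K, sgK_algebraMap K, sgR_X]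
  rw [h1, XK_eq, Matrix.sum_mul, Matrix.mul_sum,
    ← Equiv.sum_comp (F.π h) (fun g => (algebraMap (RR k E) K (MvPolynomial.X g)) •
      (D.rE g - 1).map (emb k E K) * F.cL K h)]
  refine Finset.sum_congr rfl fun g _ => ?_
  rw [Matrix.mul_smul, Matrix.smul_mul]
  congr 1
  rw [cL, ← Matrix.map_mul, ← Matrix.map_mul, Matrix.sub_mul, Matrix.mul_sub, Matrix.one_mul,
    Matrix.mul_one, F.rel_E]

/-- The semilinear action. -/
noncomputable def act (h : L) (u : Matrix (Fin n) (Fin m) K) :
    Matrix (Fin n) (Fin m) K := F.cL K h * u.map (sgK k K (F.π h)) * F.cq K h⁻¹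

theorem act_mem (h : L) {u : Matrix (Fin n) (Fin m) K} (hu : u ∈ D.UK K) :
    F.act K h u ∈ D.UK K := by
  intro c
  obtain ⟨c', h1, h2⟩ := F.rel_C h c
  have h3 : D.cN K c * F.cL K h = F.cL K h * D.cN K c' := by
    rw [cN, cN, cL, ← Matrix.map_mul, ← Matrix.map_mul, h1]
  have h4 : D.cC K c' * F.cq K h⁻¹ = F.cq K h⁻¹ * D.cC K c := by
    have h5 : F.cq K h * D.cC K c' = D.cC K c * F.cq K h := by
      rw [cC, cC, cq, ← Matrix.map_mul, ← Matrix.map_mul, h2]
    calc D.cC K c' * F.cq K h⁻¹ = F.cq K h⁻¹ * (F.cq K h * D.cC K c') * F.cq K h⁻¹ := by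
          rw [← Matrix.mul_assoc (F.cq K h⁻¹), ← cq_mul, inv_mul_cancel, cq_one, Matrix.one_mul]
      _ = _ := by
          rw [h5, Matrix.mul_assoc, Matrix.mul_assoc, ← cq_mul, mul_inv_cancel, cq_one,
            Matrix.mul_one]
  have h6 : D.cN K c' * u.map (sgK k K (F.π h)) = u.map (sgK k K (F.π h)) * D.cC K c' := by
    have h7 := congrArg (fun M : Matrix (Fin n) (Fin m) K => M.map (sgK k K (F.π h))) (hu c')
    simp only [map_mul'] at h7
    rw [cN, cC, map_sg, map_sg] at h7
    exact h7
  rw [act, ← Matrix.mul_assoc, ← Matrix.mul_assoc, h3, Matrix.mul_assoc (F.cL K h), h6,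
    ← Matrix.mul_assoc, Matrix.mul_assoc _ _ (F.cq K h⁻¹), h4, ← Matrix.mul_assoc]

theorem act_X (h : L) (u : Matrix (Fin n) (Fin m) K) :
    F.act K h (D.XK K * u) = D.XK K * F.act K h u := by
  rw [act, act, map_mul', ← Matrix.mul_assoc, ← XK_sg]
  simp only [Matrix.mul_assoc]

theorem act_add (h : L) (u v : Matrix (Fin n) (Fin m) K) :
    F.act K h (u + v) = F.act K h u + F.act K h v := by
  have h1 : (u + v).map (sgK k K (F.π h)) = u.map (sgK k K (F.π h)) + v.map (sgK k K (F.π h)) := by
    ext i j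
    simp only [Matrix.map_apply, Matrix.add_apply, map_add]
  rw [act, act, act, h1, Matrix.mul_add, Matrix.add_mul]

theorem act_smul (h : L) (a : K) (u : Matrix (Fin n) (Fin m) K) :
    F.act K h (a • u) = sgK k K (F.π h) a • F.act K h u := by
  have h1 : (a • u).map (sgK k K (F.π h)) = sgK k K (F.π h) a • u.map (sgK k K (F.π h)) := by
    ext i j
    simp only [Matrix.map_apply, Matrix.smul_apply, smul_eq_mul, map_mul]
  rw [act, act, h1, Matrix.mul_smul, Matrix.smul_mul]

theorem act_zero (h : L) : F.act K h 0 = 0 := by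
  have h1 := F.act_add K h 0 0
  rw [add_zero] at h1
  exact left_eq_add.1 h1

theorem act_one (u : Matrix (Fin n) (Fin m) K) : F.act K 1 u = u := by
  have h1 : u.map (sgK k K (1 : Equiv.Perm E)) = u := by
    ext i j
    simp only [Matrix.map_apply, sgK_one K]
  rw [act, inv_one, cL_one, cq_one, map_one, h1, Matrix.one_mul, Matrix.mul_one]

theorem act_mul (h h' : L) (u : Matrix (Fin n) (Fin m) K) :
    F.act K (h * h') u = F.act K h (F.act K h' u) := by
  have h1 : u.map (sgK k K (F.π h * F.π h')) = (u.map (sgK k K (F.π h'))).map (sgK k K (F.π h)) := by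
    ext i j
    simp only [Matrix.map_apply, sgK_mul K]
  have h2 : (F.cL K h').map (sgK k K (F.π h)) = F.cL K h' := map_sg K _ _
  have h3 : (F.cq K h'⁻¹).map (sgK k K (F.π h)) = F.cq K h'⁻¹ := map_sg K _ _
  rw [act, act, act, map_mul', map_mul', h2, h3, map_mul, h1, cL_mul, _root_.mul_inv_rev, cq_mul]
  simp only [Matrix.mul_assoc]

theorem act_X_pow (h : L) (j : ℕ) (u : Matrix (Fin n) (Fin m) K) :
    F.act K h ((D.XK K) ^ j * u) = (D.XK K) ^ j * F.act K h u := by
  induction j with
  | zero => rw [pow_zero, Matrix.one_mul, Matrix.one_mul]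
  | succ j ih => rw [pow_succ', Matrix.mul_assoc, act_X, ih, Matrix.mul_assoc]

variable [Finite L]

theorem exists_chi : ∃ χ : L →* kˣ, ∀ (h : L) (c : C) (a : k), (∀ g, F.π h g = g) →
    F.rL h = D.rN c → a • F.q h = D.rC c → (χ h : k) = a := by
  obtain ⟨K, _, _, _⟩ : ∃ (K : Type _) (_ : Field K) (_ : Algebra (RR k E) K),
      IsFractionRing (RR k E) K := ⟨FractionRing (RR k E), inferInstance, inferInstance, inferInstance⟩
  obtain ⟨u, hu, hu', hgen⟩ := D.exists_gen K
  -- membership in the image of `X ^ (p - 1)`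
  have hrange : ∀ w : D.UK K, w ∈ LinearMap.range ((D.XU K) ^ (p - 1)) ↔
      ∃ v ∈ D.UK K, (D.XK K) ^ (p - 1) * v = (w : Matrix (Fin n) (Fin m) K) := by
    intro w
    constructor
    · rintro ⟨v, rfl⟩
      exact ⟨v, v.2, (D.XU_pow_apply K _ _).symm⟩
    · rintro ⟨v, hv, h⟩
      exact ⟨⟨v, hv⟩, Subtype.ext ((D.XU_pow_apply K _ _).trans h)⟩
  let A : L → D.UK K → D.UK K := fun h w => ⟨F.act K h w, F.act_mem K h w.2⟩
  have hAker : ∀ h w, w ∈ LinearMap.ker (D.XU K) → A h w ∈ LinearMap.ker (D.XU K) := by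
    intro h w hw
    rw [LinearMap.mem_ker]
    apply Subtype.ext
    have h1 : D.XK K * (w : Matrix (Fin n) (Fin m) K) = 0 := congrArg Subtype.val hw
    show D.XK K * F.act K h w = 0
    rw [← act_X, h1, act_zero]
  have hArange : ∀ h w, w ∈ LinearMap.range ((D.XU K) ^ (p - 1)) →
      A h w ∈ LinearMap.range ((D.XU K) ^ (p - 1)) := by
    intro h w hw
    rw [hrange] at hw ⊢
    obtain ⟨v, hv, h1⟩ := hw
    refine ⟨F.act K h v, F.act_mem K h hv, ?_⟩
    show _ = F.act K h w
    rw [← act_X_pow, h1]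
  have hAmul : ∀ h h' w, A (h * h') w = A h (A h' w) := fun h h' w =>
    Subtype.ext (F.act_mul K h h' w)
  have hAone : ∀ w, A 1 w = w := fun w => Subtype.ext (F.act_one K w)
  have hAadd : ∀ h w w', A h (w + w') = A h w + A h w' := fun h w w' =>
    Subtype.ext (F.act_add K h w w')
  have hAsmul : ∀ h (a : K) w, A h (a • w) = sgK k K (F.π h) a • A h w := fun h a w =>
    Subtype.ext (F.act_smul K h a w)
  obtain ⟨f, hf, hf0, hfmul⟩ := exists_cocycle _ u hu' (fun h => sgK k K (F.π h)) A hAmul hAone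
    hAadd hAsmul hArange (fun h => hgen (A h u) (hAker h u hu))
  obtain ⟨g, hg0, hg⟩ := descent (R := RR k E) (fun h => sgR k (F.π h)) (fun h => sgK k K (F.π h))
    (fun h r => sgK_algebraMap K _ r) f hf0 hfmul
  have hg2 : ∀ h, ∃ c : kˣ, f h * sgK k K (F.π h) g = emb k E K c * g := by
    intro h
    obtain ⟨v, hv⟩ := hg h
    obtain ⟨r, hr, hr'⟩ := MvPolynomial.isUnit_iff_eq_C_of_isReduced.1 v.isUnit
    refine ⟨hr.unit, ?_⟩
    rw [hv, hr']
    rfl
  choose χ hχ using hg2
  have hinj : Function.Injective (emb k E K) := RingHom.injective _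
  have hχmul : ∀ a b, χ (a * b) = χ a * χ b := by
    intro a b
    apply Units.ext
    apply hinj
    apply mul_right_cancel₀ hg0
    rw [← hχ, hfmul, map_mul, sgK_mul K, Units.val_mul, map_mul, mul_assoc (f a), ← map_mul (sgK k K _),
      hχ b, map_mul, sgK_emb K, mul_left_comm, hχ a]
    ring
  let χ' : L →* kˣ := MonoidHom.mk' χ hχmul
  refine ⟨χ', fun h c a h1 h2 h3 => ?_⟩
  have hπ : F.π h = 1 := Equiv.ext h1
  -- `h` acts on `U` as the scalar `a`
  have hact : A h u = emb k E K a • u := by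
    apply Subtype.ext
    show F.act K h u = emb k E K a • (u : Matrix (Fin n) (Fin m) K)
    have h4 : (u : Matrix (Fin n) (Fin m) K).map (sgK k K (1 : Equiv.Perm E)) = u := by
      ext i j
      simp only [Matrix.map_apply, sgK_one K]
    have h5 : F.cL K h = D.cN K c := by rw [cL, cN, h2]
    have h6 : D.cC K c = emb k E K a • F.cq K h := by
      rw [cC, cq, ← h3]
      ext i j
      simp only [Matrix.map_apply, Matrix.smul_apply, smul_eq_mul, map_mul]
    rw [act, hπ, h4, h5, u.2 c, h6, Matrix.mul_smul, Matrix.smul_mul, Matrix.mul_assoc, ← cq_mul,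
      mul_inv_cancel, cq_one, Matrix.mul_one]
  have h8 := hf h _ hact
  have h9 := hχ h
  rw [hπ, sgK_one K, h8] at h9
  exact (hinj (mul_right_cancel₀ hg0 h9)).symm

end LData

end GData

end Cfsg.Agent.H640
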