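import Mathlib
import Cfsg.Agent.LieRecognition.FT61.Red

/-!
# Integral forms over a valuation ring and reduction (helper640)
-/

set_option autoImplicit false
set_option linter.unusedSectionVars false

namespace Cfsg.Agent.H640

open Module Matrix IsLocalRing Cfsg.Agent.LieRecognition.FT61.Red

/-! ### Integral forms -/

theorem exists_integral {D : Type*} [Group D] [Finite D] {K : Type*} [Field K] {m : ℕ}
    (B : ValuationSubring K) (σ : D →* Matrix (Fin m) (Fin m) K) :
    ∃ (σ₀ : D →* Matrix (Fin m) (Fin m) B) (P P' : Matrix (Fin m) (Fin m) K),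
      P * P' = 1 ∧ P' * P = 1 ∧ ∀ g, (σ₀ g).map (algebraMap B K) = P' * σ g * P := by
  classical
  let s : D →* GL (Fin m) K := σ.toHomUnits
  have hs : ∀ g, ((s g : GL (Fin m) K) : Matrix (Fin m) (Fin m) K) = σ g := fun g => rfl
  obtain ⟨b⟩ := exists_basis_lattice s B
  let P : Matrix (Fin m) (Fin m) K := Matrix.of fun i j => (b j : Fin m → K) i
  let toM : Module.End B (lattice s B) →* Matrix (Fin m) (Fin m) B :=
    (LinearMap.toMatrixAlgEquiv b : _ ≃ₐ[B] _).toMulEquiv.toMonoidHom
  let f : D →* Matrix (Fin m) (Fin m) B := toM.comp (latticeRep s B)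
  have hP : IsUnit P := by
    have hli : LinearIndependent B fun j => (b j : Fin m → K) :=
      b.linearIndependent.map' (lattice s B).subtype (Submodule.ker_subtype _)
    have hliK : LinearIndependent K fun j => (b j : Fin m → K) :=
      (LinearIndependent.iff_fractionRing B K).1 hli
    rw [← Matrix.linearIndependent_cols_iff_isUnit]
    exact hliK
  have hdet : IsUnit P.det := (Matrix.isUnit_iff_isUnit_det P).1 hP
  have hPP : P * P⁻¹ = 1 := Matrix.mul_nonsing_inv P hdet
  have hPP' : P⁻¹ * P = 1 := Matrix.nonsing_inv_mul P hdet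
  refine ⟨f, P, P⁻¹, hPP, hPP', fun g => ?_⟩
  have hkey : σ g * P = P * (f g).map (algebraMap B K) := by
    ext i j
    have h1 : (latticeRep s B g) (b j) = ∑ l, (f g) l j • b l := by
      have h2 := LinearMap.toMatrix_apply b b (latticeRep s B g)
      rw [← b.sum_repr ((latticeRep s B g) (b j))]
      refine Finset.sum_congr rfl fun l _ => ?_
      congr 1
      exact (h2 l j).symm
    have h3 : (((latticeRep s B g) (b j) : lattice s B) : Fin m → K) i =
        ((∑ l, (f g) l j • b l : lattice s B) : Fin m → K) i := by rw [h1]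
    rw [latticeRep_apply, hs] at h3
    rw [Matrix.mul_apply, Matrix.mul_apply]
    have h4 : (σ g).mulVec (b j : Fin m → K) i = ∑ l, σ g i l * P l j := rfl
    rw [← h4, h3, AddSubmonoidClass.coe_finsetSum, Finset.sum_apply]
    refine Finset.sum_congr rfl fun l _ => ?_
    show ((f g) l j : B) • (b l : Fin m → K) i = _
    rw [Matrix.map_apply, mul_comm]
    rfl
  rw [Matrix.mul_assoc, hkey, ← Matrix.mul_assoc, hPP', Matrix.one_mul]

/-! ### The orthogonality relation -/

section Orth

variable {N : Type*} [Group N] [Fintype N] {F F' : Type*} [CommRing F] [CommRing F'] {n : ℕ}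

/-- the orthogonality relation of matrix coefficients -/
def Orth (R : N →* Matrix (Fin n) (Fin n) F) : Prop :=
  ∀ s : Matrix (Fin n) (Fin n) F,
    (n : F) • ∑ x, (s * R x⁻¹).trace • R x = (Nat.card N : F) • s

/-- the image of a matrix representation under a ring homomorphism -/
def mapRep {G : Type*} [Monoid G] (R : G →* Matrix (Fin n) (Fin n) F) (f : F →+* F') :
    G →* Matrix (Fin n) (Fin n) F' :=
  (f.mapMatrix : Matrix (Fin n) (Fin n) F →+* Matrix (Fin n) (Fin n) F').toMonoidHom.comp R

theorem mapRep_apply {G : Type*} [Monoid G] (R : G →* Matrix (Fin n) (Fin n) F) (f : F →+* F')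
    (g : G) : mapRep R f g = (R g).map f := rfl

theorem trace_mapF (f : F →+* F') (A : Matrix (Fin n) (Fin n) F) : (A.map f).trace = f A.trace := by
  rw [Matrix.trace, Matrix.trace, map_sum]
  rfl

theorem mapOrth_eq (R : N →* Matrix (Fin n) (Fin n) F) (f : F →+* F')
    (s : Matrix (Fin n) (Fin n) F) :
    (n : F') • ∑ x, ((s.map f) * mapRep R f x⁻¹).trace • mapRep R f x =
      ((n : F) • ∑ x, (s * R x⁻¹).trace • R x).map f := by
  have h1 : ∀ x, ((s.map f) * mapRep R f x⁻¹).trace = f (s * R x⁻¹).trace := by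
    intro x
    rw [mapRep_apply, ← Matrix.map_mul, trace_mapF]
  simp only [h1]
  ext i j
  simp only [Matrix.smul_apply, Matrix.sum_apply, Matrix.map_apply, smul_eq_mul, map_mul,
    map_natCast, map_sum, mapRep_apply]

theorem Orth.map {R : N →* Matrix (Fin n) (Fin n) F} (h : Orth R) (f : F →+* F')
    (hf : Function.Surjective f) : Orth (mapRep R f) := by
  intro s
  obtain ⟨s', rfl⟩ : ∃ s' : Matrix (Fin n) (Fin n) F, s'.map f = s := by
    choose g hg using fun i j => hf (s i j)
    exact ⟨Matrix.of g, by ext i j; exact hg i j⟩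
  rw [mapOrth_eq, h s']
  ext i j
  simp

theorem Orth.of_map {R : N →* Matrix (Fin n) (Fin n) F} (f : F →+* F')
    (hf : Function.Injective f) (h : Orth (mapRep R f)) : Orth R := by
  intro s
  have h1 := h (s.map f)
  rw [mapOrth_eq] at h1
  have h2 : ((Nat.card N : F') • s.map f) = ((Nat.card N : F) • s).map f := by
    ext i j
    simp
  rw [h2] at h1
  exact Matrix.map_injective hf h1

theorem Orth.conj {R R' : N →* Matrix (Fin n) (Fin n) F} (h : Orth R)
    {P P' : Matrix (Fin n) (Fin n) F} (hP : P * P' = 1) (hP' : P' * P = 1)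
    (hR : ∀ x, R' x = P' * R x * P) : Orth R' := by
  intro s
  have h1 := h (P * s * P')
  have h2 : ∀ x, (P * s * P' * R x⁻¹).trace = (s * R' x⁻¹).trace := by
    intro x
    rw [hR]
    calc (P * s * P' * R x⁻¹).trace = (P * (s * P' * R x⁻¹)).trace := by
          simp only [Matrix.mul_assoc]
      _ = (s * P' * R x⁻¹ * P).trace := Matrix.trace_mul_comm _ _
      _ = _ := by simp only [Matrix.mul_assoc]
  simp only [h2] at h1
  have h3 := congrArg (fun M => P' * M * P) h1
  simp only [Matrix.mul_smul, Matrix.smul_mul, Matrix.mul_sum, Matrix.sum_mul] at h3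
  have h4 : P' * (P * s * P') * P = s := by
    calc P' * (P * s * P') * P = (P' * P) * s * (P' * P) := by simp only [Matrix.mul_assoc]
      _ = s := by rw [hP', Matrix.one_mul, Matrix.mul_one]
  rw [h4] at h3
  rw [← h3]
  congr 1
  refine Finset.sum_congr rfl fun x _ => ?_
  rw [← hR]

/-- coordinates of the relation -/
theorem Orth.coord {R : N →* Matrix (Fin n) (Fin n) F} (h : Orth R) (i j a b : Fin n) :
    (n : F) * ∑ x, R x⁻¹ j i * R x a b = if i = a ∧ j = b then (Nat.card N : F) else 0 := by
  have h1 := congrFun (congrFun (h (Matrix.single i j 1)) a) b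
  rw [Matrix.smul_apply, Matrix.smul_apply, Matrix.sum_apply, smul_eq_mul, smul_eq_mul,
    Matrix.single_apply] at h1
  simp only [mul_ite, mul_one, mul_zero] at h1
  rw [← h1]
  congr 1
  refine Finset.sum_congr rfl fun x _ => ?_
  rw [Matrix.smul_apply, smul_eq_mul, Matrix.trace_single_mul, one_smul]

/-- averages -/
theorem Orth.avg {R : N →* Matrix (Fin n) (Fin n) F} (h : Orth R)
    (s : Matrix (Fin n) (Fin n) F) :
    (n : F) • ∑ x, R x * s * R x⁻¹ = (Nat.card N : F) • (s.trace • (1 : Matrix _ _ F)) := by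
  ext a b
  rw [Matrix.smul_apply, Matrix.sum_apply, Matrix.smul_apply, Matrix.smul_apply, smul_eq_mul,
    smul_eq_mul, smul_eq_mul]
  have h4 : ∀ x, (R x * s * R x⁻¹) a b = ∑ i, ∑ j, s i j * (R x⁻¹ j b * R x a i) := by
    intro x
    rw [Matrix.mul_apply]
    simp only [Matrix.mul_apply, Finset.sum_mul]
    rw [Finset.sum_comm]
    exact Finset.sum_congr rfl fun i _ => Finset.sum_congr rfl fun j _ => by ring
  simp only [h4]
  rw [Finset.sum_comm, Finset.mul_sum]
  have h5 : ∀ i, (n : F) * ∑ x, ∑ j, s i j * (R x⁻¹ j b * R x a i) =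
      ∑ j, s i j * (if b = a ∧ j = i then (Nat.card N : F) else 0) := by
    intro i
    rw [Finset.sum_comm, Finset.mul_sum]
    refine Finset.sum_congr rfl fun j _ => ?_
    rw [← Finset.mul_sum, ← h.coord b j a i, mul_left_comm]
  simp only [h5]
  by_cases hab : b = a
  · subst hab
    simp only [true_and, mul_ite, mul_zero, Finset.sum_ite_eq', Finset.mem_univ, if_true,
      Matrix.one_apply_eq, mul_one]
    rw [← Finset.sum_mul, mul_comm]
    rfl
  · simp [hab, Ne.symm hab]

/-- the norm of the trace -/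
theorem Orth.sum_trace {R : N →* Matrix (Fin n) (Fin n) F} (h : Orth R) :
    (n : F) * ∑ x, (R x⁻¹).trace * (R x).trace = (n : F) * Nat.card N := by
  have h1 : ∀ x, (R x⁻¹).trace * (R x).trace = ∑ i, ∑ a, R x⁻¹ i i * R x a a := by
    intro x
    rw [Matrix.trace, Matrix.trace, Finset.sum_mul_sum]
    rfl
  simp only [h1]
  rw [Finset.sum_comm, Finset.mul_sum]
  have h2 : ∀ i : Fin n, (n : F) * ∑ x, ∑ a, R x⁻¹ i i * R x a a = Nat.card N := by
    intro i
    rw [Finset.sum_comm, Finset.mul_sum]
    have h3 : ∀ a, (n : F) * ∑ x, R x⁻¹ i i * R x a a = if i = a then (Nat.card N : F) else 0 := by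
      intro a
      rw [h.coord i i a a]
      by_cases hia : i = a <;> simp [hia]
    simp only [h3]
    simp
  simp only [h2]
  simp

/-- With the orthogonality relation, everything that commutes is a scalar. -/
theorem Orth.scalar {F : Type*} [Field F] {R : N →* Matrix (Fin n) (Fin n) F} (h : Orth R)
    (hn : (n : F) ≠ 0) (hN : (Nat.card N : F) ≠ 0) {s : Matrix (Fin n) (Fin n) F}
    (hs : ∀ x, s * R x = R x * s) : s = (s.trace / n) • 1 := by
  have h2 : ∑ x, R x * s * R x⁻¹ = (Nat.card N : F) • s := by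
    have : ∀ x, R x * s * R x⁻¹ = s := by
      intro x
      rw [← hs x, Matrix.mul_assoc, ← map_mul, mul_inv_cancel, map_one, Matrix.mul_one]
    simp only [this]
    rw [Finset.sum_const, Finset.card_univ, ← Nat.card_eq_fintype_card, Nat.cast_smul_eq_nsmul]
  have h3 := h.avg s
  rw [h2, smul_comm] at h3
  have h6 : (n : F) • s = s.trace • (1 : Matrix _ _ F) := by
    have h7 : (Nat.card N : F)⁻¹ • ((Nat.card N : F) • ((n : F) • s)) =
        (Nat.card N : F)⁻¹ • ((Nat.card N : F) • (s.trace • (1 : Matrix _ _ F))) := by rw [h3]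
    rwa [smul_smul, inv_mul_cancel₀ hN, one_smul, smul_smul, inv_mul_cancel₀ hN, one_smul] at h7
  rw [div_eq_inv_mul, ← smul_smul, ← h6, smul_smul, inv_mul_cancel₀ hn, one_smul]

theorem Orth.ne_zero {F : Type*} [Field F] {R : N →* Matrix (Fin n) (Fin n) F} (h : Orth R)
    (hn : 0 < n) (hN : (Nat.card N : F) ≠ 0) : (n : F) ≠ 0 := by
  intro h0
  have h1 := congrFun (congrFun (h 1) ⟨0, hn⟩) ⟨0, hn⟩
  rw [h0, zero_smul, Matrix.smul_apply, Matrix.one_apply_eq, Matrix.zero_apply, smul_eq_mul,
    mul_one] at h1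
  exact hN h1.symm

end Orth

end Cfsg.Agent.H640
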