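import Mathlib
import Cfsg.Agent.H640.Red1

/-!
# Valuation rings of `ℂ` over `p`: Teichmüller lifts (helper640)
-/

set_option autoImplicit false
set_option linter.unusedSectionVars false

namespace Cfsg.Agent.H640

open Module Matrix IsLocalRing Cfsg.Agent.LieRecognition.FT61.Red

/-- there is a valuation ring of `ℂ` whose residue field has characteristic `p` -/
theorem exists_valRing (p : ℕ) [Fact p.Prime] :
    ∃ B : ValuationSubring ℂ, CharP (ResidueField B) p := by
  obtain ⟨B, hB⟩ := exists_valuationSubring ℂ p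
  have hp : (p : B) ∈ maximalIdeal B := by
    rw [IsLocalRing.mem_maximalIdeal, mem_nonunits_iff]
    have := (ValuationSubring.coe_mem_nonunits_iff (A := B) (a := (p : B))).1 (by simpa using hB)
    exact this
  refine ⟨B, (CharP.charP_iff_prime_eq_zero (Fact.out : p.Prime)).2 ?_⟩
  have := (residue_eq_zero_iff (R := B) (p : B)).2 hp
  simpa using this

variable {B : ValuationSubring ℂ} {p : ℕ} [hp : Fact p.Prime] [CharP (ResidueField B) p]

theorem mem_of_isIntegral {z : ℂ} (hz : IsIntegral ℤ z) : z ∈ B := by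
  have h1 : IsIntegral B z := hz.tower_top
  obtain ⟨b, hb⟩ := IsIntegrallyClosed.isIntegral_iff.1 h1
  rw [← hb]
  exact b.2

theorem mem_of_pow_eq_one {z : ℂ} {r : ℕ} (hr : r ≠ 0) (h : z ^ r = 1) : z ∈ B := by
  apply mem_of_isIntegral
  refine ⟨Polynomial.X ^ r - 1, Polynomial.monic_X_pow_sub_C 1 hr, ?_⟩
  simp [h]

theorem eq_one_of_residue {t : B} {r : ℕ} (hr : ¬ p ∣ r) (h : t ^ r = 1)
    (h1 : residue B t = 1) : t = 1 := by
  have hgeom : (∑ i ∈ Finset.range r, t ^ i) * (t - 1) = 0 := by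
    rw [geom_sum_mul, h, sub_self]
  have h2 : residue B (∑ i ∈ Finset.range r, t ^ i) = (r : ResidueField B) := by
    rw [map_sum]
    simp [h1]
  rcases mul_eq_zero.1 hgeom with h3 | h3
  · exfalso
    rw [h3, map_zero] at h2
    exact hr ((CharP.cast_eq_zero_iff (ResidueField B) p r).1 h2.symm)
  · exact sub_eq_zero.1 h3

theorem eq_of_residue {s t : B} {r : ℕ} (hr : ¬ p ∣ r) (hs : s ^ r = 1) (ht : t ^ r = 1)
    (h1 : residue B s = residue B t) : s = t := by
  have hr0 : r ≠ 0 := fun h => hr (h ▸ dvd_zero p)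
  have ht' : t ^ (r - 1) * t = 1 := by
    rw [← pow_succ, Nat.sub_add_cancel (Nat.one_le_iff_ne_zero.2 hr0), ht]
  have h2 : s * t ^ (r - 1) = 1 := by
    refine eq_one_of_residue hr ?_ ?_
    · rw [mul_pow, hs, one_mul, ← pow_mul, mul_comm, pow_mul, ht, one_pow]
    · rw [map_mul, h1, ← map_mul, mul_comm, ht', map_one]
  calc s = s * (t ^ (r - 1) * t) := by rw [ht', mul_one]
    _ = t := by rw [← mul_assoc, h2, one_mul]

/-- Teichmüller lifts of linear characters. -/
theorem exists_teich {L : Type*} [Group L] [Finite L] (χ : L →* (ResidueField B)ˣ) :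
    ∃ χ' : L →* B, (∀ h, residue B (χ' h) = χ h) ∧ ∃ r, ¬ p ∣ r ∧ ∀ h, χ' h ^ r = 1 := by
  classical
  have hfin : Finite χ.range := Finite.of_surjective χ.rangeRestrict χ.rangeRestrict_surjective
  set r := Nat.card χ.range with hr
  have hpr : ¬ p ∣ r := by
    intro h
    obtain ⟨x, hx⟩ := exists_prime_orderOf_dvd_card' p h
    have h1 : ((x : (ResidueField B)ˣ) : ResidueField B) ^ p = 1 := by
      have h2 : x ^ p = 1 := by rw [← hx, pow_orderOf_eq_one]
      have h3 := congrArg (fun y : χ.range => ((y : (ResidueField B)ˣ) : ResidueField B)) h2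
      simpa using h3
    have h2 : (((x : (ResidueField B)ˣ) : ResidueField B) - 1) ^ p = 0 := by
      rw [sub_pow_char, h1, one_pow, sub_self]
    have h3 : ((x : (ResidueField B)ˣ) : ResidueField B) = 1 :=
      sub_eq_zero.1 (pow_eq_zero_iff (hp.out.ne_zero) |>.1 h2)
    have h4 : x = 1 := Subtype.ext (Units.ext h3)
    rw [h4, orderOf_one] at hx
    exact hp.out.one_lt.ne hx
  have hr0 : r ≠ 0 := fun h => hpr (h ▸ dvd_zero p)
  have hζ := Complex.isPrimitiveRoot_exp r hr0
  obtain ⟨ζ, hζ'⟩ : ∃ ζ : B, (ζ : ℂ) = Complex.exp (2 * Real.pi * Complex.I / r) :=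
    ⟨⟨_, mem_of_pow_eq_one hr0 hζ.pow_eq_one⟩, rfl⟩
  rw [← hζ'] at hζ
  have hζB : IsPrimitiveRoot ζ r := by
    rw [← IsPrimitiveRoot.map_iff_of_injective (f := B.subtype) B.subtype_injective]
    exact hζ
  have hζk : IsPrimitiveRoot (residue B ζ) r := by
    refine (IsPrimitiveRoot.iff (Nat.pos_of_ne_zero hr0)).2 ⟨?_, fun l hl hlr h => ?_⟩
    · rw [← map_pow, hζB.pow_eq_one, map_one]
    · rw [← map_pow] at h
      have h1 : ζ ^ l = 1 := eq_one_of_residue hpr
        (by rw [← pow_mul, mul_comm, pow_mul, hζB.pow_eq_one, one_pow]) h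
      exact hζB.pow_ne_one_of_pos_of_lt hl.ne' hlr h1
  have hpow : ∀ h : L, ((χ h : (ResidueField B)ˣ) : ResidueField B) ^ r = 1 := by
    intro h
    have h1 : (⟨χ h, h, rfl⟩ : χ.range) ^ r = 1 := pow_card_eq_one'
    have h3 := congrArg (fun y : χ.range => ((y : (ResidueField B)ˣ) : ResidueField B)) h1
    simpa using h3
  have : NeZero r := ⟨hr0⟩
  choose i hi hi' using fun h : L => hζk.eq_pow_of_pow_eq_one (hpow h)
  have hpow' : ∀ h, (ζ ^ i h) ^ r = 1 := fun h => by
    rw [← pow_mul, mul_comm, pow_mul, hζB.pow_eq_one, one_pow]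
  refine ⟨⟨⟨fun h => ζ ^ i h, ?_⟩, ?_⟩, fun h => ?_, r, hpr, hpow'⟩
  · refine eq_of_residue hpr (hpow' 1) (one_pow r) ?_
    rw [map_pow, hi', map_one, map_one, Units.val_one]
  · intro a b
    refine eq_of_residue hpr (hpow' _) ?_ ?_
    · rw [mul_pow, hpow', hpow', one_mul]
    · show residue B (ζ ^ i (a * b)) = residue B (ζ ^ i a * ζ ^ i b)
      rw [map_mul, map_pow, map_pow, map_pow, hi', hi', hi', map_mul, Units.val_mul]
  · show residue B (ζ ^ i h) = _
    rw [map_pow, hi']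

end Cfsg.Agent.H640
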