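import Mathlib
import Cfsg.Agent.H640.Mod5
import Cfsg.Agent.H640.Red2

/-!
# One step of the extension theorem (helper640), part 1: the data and implementers
-/

set_option autoImplicit false
set_option linter.unusedSectionVars false

namespace Cfsg.Agent.H640

open Module Matrix IsLocalRing

/-- The data of one step: `N` a `p'`-group on which `A` acts, `E` a normal `p`-subgroup of `A` with
elementary abelian image, `C` its fixed points; `R` an irreducible representation of `N` implemented by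
`S`, and `T` an irreducible representation of `C` with the Glauberman congruence. -/
structure SData (p : ℕ) (N A : Type*) [Group N] [Fintype N] [Group A] (C : Subgroup N)
    [Fintype C] (n m : ℕ) where
  hN : ¬ p ∣ Nat.card N
  α : A →* MulAut N
  E : Subgroup A
  hEn : E.Normal
  hE : IsPGroup p E
  R : N →* Matrix (Fin n) (Fin n) ℂ
  hR : Orth R
  S : A →* Matrix (Fin n) (Fin n) ℂ
  hS : ∀ a x, S a * R x = R (α a x) * S a
  hcS : ∀ g ∈ E, ∀ g' ∈ E, S g * S g' = S g' * S g
  hcα : ∀ g ∈ E, ∀ g' ∈ E, α g * α g' = α g' * α g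
  hpS : ∀ g ∈ E, S g ^ p = 1
  hpα : ∀ g ∈ E, α g ^ p = 1
  hC : ∀ x, x ∈ C ↔ ∀ g ∈ E, α g x = x
  T : C →* Matrix (Fin m) (Fin m) ℂ
  hT : Orth T
  hn : 0 < n
  hm : 0 < m
  e : ℕ
  he : (e : ZMod p) ^ 2 = 1
  hgl : ∀ c : C, ∃ d : ℂ, IsIntegral ℤ d ∧ (R c).trace = e * (T c).trace + p * d

namespace SData

variable {p : ℕ} [hp : Fact p.Prime] {N A : Type*} [Group N] [Fintype N] [Group A]
  {C : Subgroup N} [Fintype C] {n m : ℕ} (D : SData p N A C n m)

theorem mem_C_act (a : A) {x : N} (hx : x ∈ C) : D.α a x ∈ C := by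
  rw [D.hC] at hx ⊢
  intro g hg
  have h1 : D.α (a⁻¹ * g * a) x = x := hx _ (by
    have := D.hEn.conj_mem g hg a⁻¹
    rwa [inv_inv] at this)
  have h2 : D.α g (D.α a x) = D.α a (D.α (a⁻¹ * g * a) x) := by
    rw [← MulAut.mul_apply, ← MulAut.mul_apply, ← map_mul, ← map_mul]
    congr 2
    group
  rw [h2, h1]

/-- the action on `C` -/
def actC (a : A) : MulAut C where
  toFun c := ⟨D.α a c, D.mem_C_act a c.2⟩
  invFun c := ⟨D.α a⁻¹ c, D.mem_C_act a⁻¹ c.2⟩
  left_inv c := Subtype.ext (by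
    show D.α a⁻¹ (D.α a c) = c
    rw [← MulAut.mul_apply, ← map_mul, inv_mul_cancel, map_one, MulAut.one_apply])
  right_inv c := Subtype.ext (by
    show D.α a (D.α a⁻¹ c) = c
    rw [← MulAut.mul_apply, ← map_mul, mul_inv_cancel, map_one, MulAut.one_apply])
  map_mul' c d := Subtype.ext (by
    show D.α a (c * d) = D.α a c * D.α a d
    rw [map_mul])

theorem actC_coe (a : A) (c : C) : (D.actC a c : N) = D.α a c := rfl

/-- the action on `C` as a homomorphism -/
def αC : A →* MulAut C where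
  toFun := D.actC
  map_one' := by
    ext c
    rw [actC_coe, map_one, MulAut.one_apply, MulAut.one_apply]
  map_mul' a b := by
    ext c
    rw [actC_coe, map_mul, MulAut.mul_apply, MulAut.mul_apply, actC_coe, actC_coe]

theorem αC_coe (a : A) (c : C) : (D.αC a c : N) = D.α a c := rfl

include D in
theorem hCp : ¬ p ∣ Nat.card C := fun h => D.hN (h.trans (Subgroup.card_subgroup_dvd_card C))

theorem S_inv (a : A) : D.S a * D.S a⁻¹ = 1 := by rw [← map_mul, mul_inv_cancel, map_one]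

theorem S_inv' (a : A) : D.S a⁻¹ * D.S a = 1 := by rw [← map_mul, inv_mul_cancel, map_one]

theorem trace_R (a : A) (x : N) : (D.R (D.α a x)).trace = (D.R x).trace := by
  have h : D.R (D.α a x) = D.S a * D.R x * D.S a⁻¹ := by
    rw [D.hS, Matrix.mul_assoc, S_inv, Matrix.mul_one]
  rw [h, Matrix.trace_mul_comm, ← Matrix.mul_assoc, S_inv', Matrix.one_mul]

section Res

variable (B : ValuationSubring ℂ) [CharP (ResidueField B) p]

include hp in
theorem cast_ne {l : ℕ} (h : ¬ p ∣ l) : (l : ResidueField B) ≠ 0 := fun h0 =>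
  h ((CharP.cast_eq_zero_iff (ResidueField B) p l).1 h0)

/-- the congruence in the residue field for integral forms -/
theorem trace_res (R₀ : N →* Matrix (Fin n) (Fin n) B) (T₀ : C →* Matrix (Fin m) (Fin m) B)
    (hR₀ : ∀ x, ((R₀ x).trace : ℂ) = (D.R x).trace) (hT₀ : ∀ x, ((T₀ x).trace : ℂ) = (D.T x).trace)
    (c : C) : residue B (R₀ c).trace = D.e * residue B (T₀ c).trace := by
  obtain ⟨d, hd, h⟩ := D.hgl c
  have hdB : d ∈ B := mem_of_isIntegral hd
  have h1 : (R₀ c).trace = D.e * (T₀ c).trace + p * ⟨d, hdB⟩ := by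
    apply Subtype.ext
    push_cast
    rw [hR₀, hT₀, h]
  rw [h1, map_add, map_mul, map_mul, map_natCast, map_natCast,
    CharP.cast_eq_zero (ResidueField B) p, zero_mul, add_zero]

theorem e_sq : (D.e : ResidueField B) * D.e = 1 := by
  have h := congrArg (ZMod.castHom (dvd_refl p) (ResidueField B)) D.he
  rw [map_pow, map_natCast, map_one, sq] at h
  exact h

theorem trace_T₀ (R₀ : N →* Matrix (Fin n) (Fin n) B) (T₀ : C →* Matrix (Fin m) (Fin m) B)
    (hR₀ : ∀ x, ((R₀ x).trace : ℂ) = (D.R x).trace) (hT₀ : ∀ x, ((T₀ x).trace : ℂ) = (D.T x).trace)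
    (a : A) (c : C) : residue B (T₀ (D.αC a c)).trace = residue B (T₀ c).trace := by
  have h1 := D.trace_res B R₀ T₀ hR₀ hT₀ (D.αC a c)
  have h2 := D.trace_res B R₀ T₀ hR₀ hT₀ c
  have h3 : (R₀ (D.αC a c : C)).trace = (R₀ c).trace := by
    apply Subtype.ext
    rw [hR₀, hR₀, αC_coe, trace_R]
  rw [h3, h2] at h1
  have h4 : (D.e : ResidueField B) * (D.e * residue B (T₀ c).trace) =
      D.e * (D.e * residue B (T₀ (D.αC a c)).trace) := by rw [h1]
  rw [← mul_assoc, ← mul_assoc, D.e_sq B, one_mul, one_mul] at h4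
  exact h4.symm

/-- traces of conjugate integral forms -/
theorem trace_form {G : Type*} [Group G] {l : ℕ} {X : G →* Matrix (Fin l) (Fin l) ℂ}
    {X₀ : G →* Matrix (Fin l) (Fin l) B} {P P' : Matrix (Fin l) (Fin l) ℂ} (h : P * P' = 1)
    (hX : ∀ g, (X₀ g).map (algebraMap B ℂ) = P' * X g * P) (g : G) :
    ((X₀ g).trace : ℂ) = (X g).trace := by
  have h1 := congrArg Matrix.trace (hX g)
  rw [trace_mapF] at h1
  rw [Matrix.trace_mul_comm, ← Matrix.mul_assoc, h, Matrix.one_mul] at h1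
  exact h1

end Res

/-- Every operator is implemented on `T`. -/
theorem exists_impl (a : A) : ∃ M : Matrix (Fin m) (Fin m) ℂ, IsUnit M ∧
    ∀ c : C, M * D.T c = D.T (D.αC a c) * M := by
  classical
  obtain ⟨B, hB⟩ := exists_valRing p
  obtain ⟨R₀, P, P', hP, hP', hR₀⟩ := exists_integral B D.R
  obtain ⟨T₀, Q, Q', hQ, hQ', hT₀⟩ := exists_integral B D.T
  have hRt := fun x => trace_form B hP hR₀ x
  have hTt := fun x => trace_form B hQ hT₀ x
  have hOT : Orth T₀ := by
    refine Orth.of_map (algebraMap B ℂ) B.subtype_injective ?_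
    refine Orth.conj D.hT hQ hQ' fun x => ?_
    rw [mapRep_apply, hT₀]
  -- the pairing does not vanish
  have hne : ∑ c : C, (D.T (D.αC a c)).trace * (D.T c⁻¹).trace ≠ 0 := by
    intro h0
    have h1 : ∑ c : C, (T₀ (D.αC a c)).trace * (T₀ c⁻¹).trace = 0 := by
      apply Subtype.ext
      push_cast
      rw [← h0]
      exact Finset.sum_congr rfl fun c _ => by rw [hTt, hTt]
    have h2 := congrArg (residue B) h1
    rw [map_sum, map_zero] at h2
    simp only [map_mul, D.trace_T₀ B R₀ T₀ hRt hTt a] at h2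
    have h3 := (hOT.map (residue B) residue_surjective).sum_trace
    simp only [mapRep_apply, trace_mapF] at h3
    have h4 : ∑ x : C, residue B (T₀ x⁻¹).trace * residue B (T₀ x).trace =
        ∑ c : C, residue B (T₀ c).trace * residue B (T₀ c⁻¹).trace :=
      Finset.sum_congr rfl fun c _ => mul_comm _ _
    rw [h4, h2, mul_zero] at h3
    have h5 : (Nat.card C : ResidueField B) ≠ 0 := cast_ne B D.hCp
    have h6 : (m : ResidueField B) ≠ 0 :=
      (hOT.map (residue B) residue_surjective).ne_zero D.hm h5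
    exact mul_ne_zero h6 h5 h3.symm
  -- an intertwiner
  obtain ⟨X, hX⟩ : ∃ X : Matrix (Fin m) (Fin m) ℂ,
      ∑ c : C, D.T (D.αC a c) * X * D.T c⁻¹ ≠ 0 := by
    by_contra hcon
    push Not at hcon
    apply hne
    have h1 : ∀ c : C, (D.T (D.αC a c)).trace * (D.T c⁻¹).trace =
        ∑ i, ∑ j, (D.T (D.αC a c) * (Matrix.single i j 1 : Matrix (Fin m) (Fin m) ℂ) *
          D.T c⁻¹ : Matrix (Fin m) (Fin m) ℂ) i j := by
      intro c
      rw [Matrix.trace, Matrix.trace, Finset.sum_mul_sum]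
      refine Finset.sum_congr rfl fun i _ => Finset.sum_congr rfl fun j _ => ?_
      rw [Matrix.mul_apply, Finset.sum_eq_single j]
      · rw [Matrix.mul_apply, Finset.sum_eq_single i]
        · simp
        · intro l _ hl
          simp [Ne.symm hl]
        · simp
      · intro l _ hl
        rw [Matrix.mul_apply, Finset.sum_eq_zero, zero_mul]
        intro l' _
        simp [Ne.symm hl]
      · simp
    simp only [h1]
    rw [Finset.sum_comm]
    refine Finset.sum_eq_zero fun i _ => ?_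
    rw [Finset.sum_comm]
    refine Finset.sum_eq_zero fun j _ => ?_
    have h2 := congrFun (congrFun (hcon (Matrix.single i j 1)) i) j
    rw [Matrix.sum_apply] at h2
    exact h2
  set M₁ := ∑ c : C, D.T (D.αC a c) * X * D.T c⁻¹ with hM₁
  have hcomm : ∀ d : C, M₁ * D.T d = D.T (D.αC a d) * M₁ := by
    intro d
    rw [hM₁, Matrix.sum_mul, Matrix.mul_sum,
      ← Equiv.sum_comp (Equiv.mulLeft d) (fun c : C => D.T (D.αC a c) * X * D.T c⁻¹ * D.T d)]
    refine Finset.sum_congr rfl fun c _ => ?_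
    have h1 : (d * c)⁻¹ * d = c⁻¹ := by group
    show D.T (D.αC a (d * c)) * X * D.T (d * c)⁻¹ * D.T d = _
    rw [Matrix.mul_assoc _ _ (D.T d), ← map_mul D.T (d * c)⁻¹ d, h1, map_mul, map_mul]
    simp only [Matrix.mul_assoc]
  obtain ⟨i, j, hij⟩ : ∃ i j, M₁ i j ≠ 0 := by
    by_contra hcon
    push Not at hcon
    exact hX (by ext i j; exact hcon i j)
  let Y : Matrix (Fin m) (Fin m) ℂ := Matrix.single j i 1
  have hY : (Y * M₁).trace ≠ 0 := by
    rw [Matrix.trace_single_mul, one_smul]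
    exact hij
  have h1 : (m : ℂ) • ((∑ c : C, D.T c * Y * D.T (D.αC a c)⁻¹) * M₁) =
      (Nat.card C : ℂ) • ((Y * M₁).trace • (1 : Matrix _ _ ℂ)) := by
    rw [← D.hT.avg, Matrix.sum_mul]
    congr 1
    refine Finset.sum_congr rfl fun c _ => ?_
    have h2 : D.T (D.αC a c)⁻¹ * M₁ = M₁ * D.T c⁻¹ := by rw [hcomm, map_inv (D.αC a) c]
    rw [Matrix.mul_assoc, h2]
    simp only [Matrix.mul_assoc]
  have hC0 : (Nat.card C : ℂ) ≠ 0 := Nat.cast_ne_zero.2 Nat.card_pos.ne'
  refine ⟨M₁, ?_, hcomm⟩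
  have h2 : (((Nat.card C : ℂ) * (Y * M₁).trace)⁻¹ * m) •
      (∑ c : C, D.T c * Y * D.T (D.αC a c)⁻¹) * M₁ = 1 := by
    rw [Matrix.smul_mul, ← smul_smul, h1, smul_smul, smul_smul,
      mul_assoc, inv_mul_cancel₀ (mul_ne_zero hC0 hY), one_smul]
  exact IsUnit.of_mul_eq_one_right _ h2

/-- implementers of determinant one -/
theorem exists_impl_det (a : A) : ∃ M : GL (Fin m) ℂ, (M : Matrix (Fin m) (Fin m) ℂ).det = 1 ∧
    ∀ c : C, (M : Matrix (Fin m) (Fin m) ℂ) * D.T c =
      D.T (D.αC a c) * (M : Matrix (Fin m) (Fin m) ℂ) := by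
  obtain ⟨M, hM, h⟩ := D.exists_impl a
  have hdet : M.det ≠ 0 := by
    rw [Matrix.isUnit_iff_isUnit_det] at hM
    exact hM.ne_zero
  obtain ⟨z, hz⟩ := IsAlgClosed.exists_pow_nat_eq (M.det)⁻¹ D.hm
  have h1 : (z • M).det = 1 := by
    rw [Matrix.det_smul, Fintype.card_fin, hz, inv_mul_cancel₀ hdet]
  refine ⟨Matrix.GeneralLinearGroup.mkOfDetNeZero (z • M) (by rw [h1]; exact one_ne_zero), h1,
    fun c => ?_⟩
  show (z • M) * D.T c = D.T (D.αC a c) * (z • M)
  rw [Matrix.smul_mul, h, Matrix.mul_smul]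

end SData

end Cfsg.Agent.H640
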