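import Mathlib
import Cfsg.Agent.H640.Step1

/-!
# One step of the extension theorem (helper640), part 2: the finite covering group
-/

set_option autoImplicit false
set_option linter.unusedSectionVars false

namespace Cfsg.Agent.H640

open Module Matrix IsLocalRing

/-- the representation of a semidirect product -/
def sdRep {N A F : Type*} [Group N] [Group A] [CommRing F] {n : ℕ} (α : A →* MulAut N)
    (R : N →* Matrix (Fin n) (Fin n) F) (S : A →* Matrix (Fin n) (Fin n) F)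
    (hS : ∀ a x, S a * R x = R (α a x) * S a) : N ⋊[α] A →* Matrix (Fin n) (Fin n) F where
  toFun z := R z.left * S z.right
  map_one' := by
    rw [SemidirectProduct.one_left, SemidirectProduct.one_right, map_one, map_one, Matrix.one_mul]
  map_mul' z w := by
    rw [SemidirectProduct.mul_left, SemidirectProduct.mul_right, map_mul, map_mul,
      Matrix.mul_assoc (R z.left), ← Matrix.mul_assoc (R _) (S z.right), ← hS]
    simp only [Matrix.mul_assoc]

theorem sdRep_inl {N A F : Type*} [Group N] [Group A] [CommRing F] {n : ℕ} (α : A →* MulAut N)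
    (R : N →* Matrix (Fin n) (Fin n) F) (S : A →* Matrix (Fin n) (Fin n) F)
    (hS : ∀ a x, S a * R x = R (α a x) * S a) (x : N) :
    sdRep α R S hS (SemidirectProduct.inl x) = R x := by
  show R _ * S _ = _
  rw [SemidirectProduct.left_inl, SemidirectProduct.right_inl, map_one, Matrix.mul_one]

theorem sdRep_inr {N A F : Type*} [Group N] [Group A] [CommRing F] {n : ℕ} (α : A →* MulAut N)
    (R : N →* Matrix (Fin n) (Fin n) F) (S : A →* Matrix (Fin n) (Fin n) F)
    (hS : ∀ a x, S a * R x = R (α a x) * S a) (a : A) :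
    sdRep α R S hS (SemidirectProduct.inr a) = S a := by
  show R _ * S _ = _
  rw [SemidirectProduct.left_inr, SemidirectProduct.right_inr, map_one, Matrix.one_mul]

theorem finite_sd {N A : Type*} [Group N] [Group A] [Finite N] [Finite A] (α : A →* MulAut N) :
    Finite (N ⋊[α] A) := Finite.of_equiv _ SemidirectProduct.equivProd.symm

/-- A simultaneous integral form, reduced modulo the maximal ideal. -/
theorem exists_form {N A : Type*} [Group N] [Fintype N] [Group A] [Finite A] {n : ℕ}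
    (B : ValuationSubring ℂ) (α : A →* MulAut N)
    (R : N →* Matrix (Fin n) (Fin n) ℂ) (S : A →* Matrix (Fin n) (Fin n) ℂ)
    (hS : ∀ a x, S a * R x = R (α a x) * S a) :
    ∃ (R₀ : N →* Matrix (Fin n) (Fin n) B) (S₀ : A →* Matrix (Fin n) (Fin n) B)
      (P P' : Matrix (Fin n) (Fin n) ℂ), P * P' = 1 ∧ P' * P = 1 ∧
      (∀ x, (R₀ x).map (algebraMap B ℂ) = P' * R x * P) ∧
      (∀ a, (S₀ a).map (algebraMap B ℂ) = P' * S a * P) ∧
      ∀ a x, S₀ a * R₀ x = R₀ (α a x) * S₀ a := by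
  have := finite_sd α
  obtain ⟨σ, P, P', hP, hP', hσ⟩ := exists_integral B (sdRep α R S hS)
  refine ⟨σ.comp SemidirectProduct.inl, σ.comp SemidirectProduct.inr, P, P', hP, hP', fun x => ?_,
    fun a => ?_, fun a x => ?_⟩
  · rw [MonoidHom.comp_apply, hσ, sdRep_inl]
  · rw [MonoidHom.comp_apply, hσ, sdRep_inr]
  · rw [MonoidHom.comp_apply, MonoidHom.comp_apply, MonoidHom.comp_apply, ← map_mul, ← map_mul]
    congr 1
    ext <;> simp

namespace SData

variable {p : ℕ} [hp : Fact p.Prime] {N A : Type*} [Group N] [Fintype N] [Group A]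
  {C : Subgroup N} [Fintype C] {n m : ℕ} (D : SData p N A C n m)

/-- The covering group. -/
def Lh : Subgroup (A × GL (Fin m) ℂ) where
  carrier := {x | (∀ c : C, (x.2 : Matrix (Fin m) (Fin m) ℂ) * D.T c =
    D.T (D.αC x.1 c) * (x.2 : Matrix (Fin m) (Fin m) ℂ)) ∧
    (x.2 : Matrix (Fin m) (Fin m) ℂ).det ^ Nat.card C = 1}
  one_mem' := by
    refine ⟨fun c => ?_, ?_⟩
    · show (1 : Matrix (Fin m) (Fin m) ℂ) * D.T c = D.T (D.αC 1 c) * (1 : Matrix _ _ ℂ)
      rw [Matrix.one_mul, Matrix.mul_one, map_one, MulAut.one_apply]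
    · show (1 : Matrix (Fin m) (Fin m) ℂ).det ^ _ = 1
      rw [Matrix.det_one, one_pow]
  mul_mem' := by
    rintro ⟨a, M⟩ ⟨b, M'⟩ ⟨h1, h2⟩ ⟨h3, h4⟩
    refine ⟨fun c => ?_, ?_⟩
    · show ((M : Matrix (Fin m) (Fin m) ℂ) * (M' : Matrix (Fin m) (Fin m) ℂ)) * D.T c =
        D.T (D.αC (a * b) c) * ((M : Matrix (Fin m) (Fin m) ℂ) * (M' : Matrix (Fin m) (Fin m) ℂ))
      rw [Matrix.mul_assoc, h3 c, ← Matrix.mul_assoc]
      simp only at h1 ⊢
      rw [h1, map_mul, MulAut.mul_apply, Matrix.mul_assoc]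
    · show ((M : Matrix (Fin m) (Fin m) ℂ) * (M' : Matrix (Fin m) (Fin m) ℂ)).det ^ _ = 1
      rw [Matrix.det_mul, mul_pow, h2, h4, one_mul]
  inv_mem' := by
    rintro ⟨a, M⟩ ⟨h1, h2⟩
    have hM : (M : Matrix (Fin m) (Fin m) ℂ) * ((M⁻¹ : GL (Fin m) ℂ) : Matrix (Fin m) (Fin m) ℂ) =
        1 := by rw [← Units.val_mul, mul_inv_cancel, Units.val_one]
    have hM' : ((M⁻¹ : GL (Fin m) ℂ) : Matrix (Fin m) (Fin m) ℂ) * (M : Matrix (Fin m) (Fin m) ℂ) =
        1 := by rw [← Units.val_mul, inv_mul_cancel, Units.val_one]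
    refine ⟨fun c => ?_, ?_⟩
    · show ((M⁻¹ : GL (Fin m) ℂ) : Matrix (Fin m) (Fin m) ℂ) * D.T c =
        D.T (D.αC a⁻¹ c) * ((M⁻¹ : GL (Fin m) ℂ) : Matrix (Fin m) (Fin m) ℂ)
      have h3 := h1 (D.αC a⁻¹ c)
      simp only at h3
      have h4 : D.αC a (D.αC a⁻¹ c) = c := by
        rw [← MulAut.mul_apply, ← map_mul, mul_inv_cancel, map_one, MulAut.one_apply]
      rw [h4] at h3
      calc ((M⁻¹ : GL (Fin m) ℂ) : Matrix (Fin m) (Fin m) ℂ) * D.T c
          = ((M⁻¹ : GL (Fin m) ℂ) : Matrix (Fin m) (Fin m) ℂ) * (D.T c *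
              (M : Matrix (Fin m) (Fin m) ℂ)) *
              ((M⁻¹ : GL (Fin m) ℂ) : Matrix (Fin m) (Fin m) ℂ) := by
            rw [Matrix.mul_assoc, Matrix.mul_assoc, hM, Matrix.mul_one]
        _ = _ := by
            rw [← h3, ← Matrix.mul_assoc, hM', Matrix.one_mul]
    · show ((M⁻¹ : GL (Fin m) ℂ) : Matrix (Fin m) (Fin m) ℂ).det ^ _ = 1
      have h3 : (M : Matrix (Fin m) (Fin m) ℂ).det *
          ((M⁻¹ : GL (Fin m) ℂ) : Matrix (Fin m) (Fin m) ℂ).det = 1 := by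
        rw [← Matrix.det_mul, hM, Matrix.det_one]
      have h4 := congrArg (· ^ Nat.card C) h3
      simp only [mul_pow, one_pow] at h4
      simp only at h2
      rw [h2, one_mul] at h4
      exact h4

/-- the matrix of an element of the covering group -/
def mat : D.Lh →* Matrix (Fin m) (Fin m) ℂ where
  toFun h := ((h : A × GL (Fin m) ℂ).2 : Matrix (Fin m) (Fin m) ℂ)
  map_one' := rfl
  map_mul' _ _ := rfl

/-- the projection -/
def pr : D.Lh →* A where
  toFun h := (h : A × GL (Fin m) ℂ).1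
  map_one' := rfl
  map_mul' _ _ := rfl

theorem mat_comm (h : D.Lh) (c : C) : D.mat h * D.T c = D.T (D.αC (D.pr h) c) * D.mat h := h.2.1 c

theorem mat_det (h : D.Lh) : (D.mat h).det ^ Nat.card C = 1 := h.2.2

theorem card_C_ne : (Nat.card C : ℂ) ≠ 0 := Nat.cast_ne_zero.2 Nat.card_pos.ne'

include D in
theorem m_ne : (m : ℂ) ≠ 0 := Nat.cast_ne_zero.2 D.hm.ne'

theorem exists_scalar {M : Matrix (Fin m) (Fin m) ℂ} (hM : ∀ c, M * D.T c = D.T c * M) :
    ∃ z : ℂ, M = z • (1 : Matrix (Fin m) (Fin m) ℂ) :=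
  ⟨_, D.hT.scalar D.m_ne card_C_ne hM⟩

theorem finite_Lh [Finite A] : Finite D.Lh := by
  classical
  choose M₀ hM₀ hM₀' using D.exists_impl_det
  let Z : Set ℂ := {z | z ^ (m * Nat.card C) = 1}
  have hpos : 0 < m * Nat.card C := Nat.mul_pos D.hm Nat.card_pos
  have hZ : Z.Finite := by
    refine (Polynomial.nthRoots (m * Nat.card C) (1 : ℂ)).toFinset.finite_toSet.subset ?_
    intro z hz
    rw [Finset.mem_coe, Multiset.mem_toFinset, Polynomial.mem_nthRoots hpos]
    exact hz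
  have := hZ.to_subtype
  have hinvr : ∀ a, (M₀ a : Matrix (Fin m) (Fin m) ℂ) *
      (((M₀ a)⁻¹ : GL (Fin m) ℂ) : Matrix (Fin m) (Fin m) ℂ) = 1 := fun a => by
    rw [← Units.val_mul, mul_inv_cancel, Units.val_one]
  have hinvl : ∀ a, (((M₀ a)⁻¹ : GL (Fin m) ℂ) : Matrix (Fin m) (Fin m) ℂ) *
      (M₀ a : Matrix (Fin m) (Fin m) ℂ) = 1 := fun a => by
    rw [← Units.val_mul, inv_mul_cancel, Units.val_one]
  have hex : ∀ h : D.Lh, ∃ z : ℂ, D.mat h = z • (M₀ (D.pr h) : Matrix (Fin m) (Fin m) ℂ) := by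
    intro h
    obtain ⟨z, hz⟩ := D.exists_scalar (M := (((M₀ (D.pr h))⁻¹ : GL (Fin m) ℂ) :
      Matrix (Fin m) (Fin m) ℂ) * D.mat h) (fun c => by
        rw [Matrix.mul_assoc, mat_comm, ← Matrix.mul_assoc, ← Matrix.mul_assoc]
        congr 1
        calc (((M₀ (D.pr h))⁻¹ : GL (Fin m) ℂ) : Matrix (Fin m) (Fin m) ℂ) *
              D.T (D.αC (D.pr h) c)
            = (((M₀ (D.pr h))⁻¹ : GL (Fin m) ℂ) : Matrix (Fin m) (Fin m) ℂ) *
              (D.T (D.αC (D.pr h) c) * (M₀ (D.pr h) : Matrix (Fin m) (Fin m) ℂ)) *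
              (((M₀ (D.pr h))⁻¹ : GL (Fin m) ℂ) : Matrix (Fin m) (Fin m) ℂ) := by
              rw [Matrix.mul_assoc, Matrix.mul_assoc, hinvr, Matrix.mul_one]
          _ = _ := by
              rw [← hM₀', ← Matrix.mul_assoc, hinvl, Matrix.one_mul])
    refine ⟨z, ?_⟩
    have h1 := congrArg (fun M => (M₀ (D.pr h) : Matrix (Fin m) (Fin m) ℂ) * M) hz
    simp only [Matrix.mul_smul, Matrix.mul_one] at h1
    rw [← Matrix.mul_assoc, hinvr, Matrix.one_mul] at h1
    exact h1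
  choose z hz using hex
  have hz' : ∀ h, z h ∈ Z := by
    intro h
    have h1 := D.mat_det h
    rw [hz, Matrix.det_smul, Fintype.card_fin, hM₀, mul_one, ← pow_mul] at h1
    exact h1
  refine Finite.of_injective (fun h : D.Lh => ((D.pr h, ⟨z h, hz' h⟩) : A × Z)) ?_
  intro h h' hh
  have hh' : (D.pr h, (⟨z h, hz' h⟩ : Z)) = (D.pr h', ⟨z h', hz' h'⟩) := hh
  have h1 : D.pr h = D.pr h' := (Prod.mk.inj hh').1
  have h2 : z h = z h' := congrArg Subtype.val (Prod.mk.inj hh').2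
  have h3 : D.mat h = D.mat h' := by rw [hz, hz, h1, h2]
  exact Subtype.ext (Prod.ext h1 (Units.ext h3))

theorem pr_surjective : Function.Surjective D.pr := by
  intro a
  obtain ⟨M, h1, h2⟩ := D.exists_impl_det a
  exact ⟨⟨(a, M), h2, by
    show (M : Matrix (Fin m) (Fin m) ℂ).det ^ _ = 1
    rw [h1, one_pow]⟩, rfl⟩

end SData

end Cfsg.Agent.H640
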