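import Mathlib
import Cfsg.Agent.H640.Step2

/-!
# One step of the extension theorem (helper640), part 3

`SData.main` : the representation `T` of the fixed points `C` extends to `A` (it is implemented by
a representation `Q` of `A`, trivial on `E`, compatible with the implementation `S` of `R`).
-/

set_option autoImplicit false
set_option linter.unusedSectionVars false

namespace Cfsg.Agent.H640

open Module Matrix IsLocalRing

theorem orth_div {N F : Type*} [Group N] [Fintype N] [Field F] {n : ℕ}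
    {R : N →* Matrix (Fin n) (Fin n) F} (h : Orth R) (hN : (Nat.card N : F) ≠ 0)
    (s : Matrix (Fin n) (Fin n) F) :
    ((n : F) / (Nat.card N : F)) • ∑ x, (s * R x⁻¹).trace • R x = s := by
  rw [div_eq_inv_mul, ← smul_smul, h s, smul_smul, inv_mul_cancel₀ hN, one_smul]

namespace SData

variable {p : ℕ} [hp : Fact p.Prime] {N A : Type*} [Group N] [Fintype N] [Group A]
  {C : Subgroup N} [Fintype C] {n m : ℕ} (D : SData p N A C n m)

include D in
theorem card_eq (k : Type*) [Field k] [CharP k p] : (Nat.card N : k) = (Nat.card C : k) := by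
  let _ : MulAction D.E N := MulAction.compHom N (D.α.comp D.E.subtype)
  have h1 := D.hE.card_modEq_card_fixedPoints N
  have h2 : Nat.card (MulAction.fixedPoints D.E N) = Nat.card C := by
    refine Nat.card_congr (Equiv.subtypeEquivRight fun x => ?_)
    rw [MulAction.mem_fixedPoints, D.hC]
    constructor
    · intro h g hg
      exact h ⟨g, hg⟩
    · intro h g
      exact h g g.2
  rw [h2] at h1
  have h3 := (ZMod.natCast_eq_natCast_iff _ _ _).2 h1
  have h4 := congrArg (ZMod.castHom (dvd_refl p) k) h3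
  rwa [map_natCast, map_natCast] at h4

variable (B : ValuationSubring ℂ) [CharP (ResidueField B) p]

section Build

variable (R₀ : N →* Matrix (Fin n) (Fin n) B) (S₀ : A →* Matrix (Fin n) (Fin n) B)
  (T₀ : C →* Matrix (Fin m) (Fin m) B)
  {P P' : Matrix (Fin n) (Fin n) ℂ} (hP : P * P' = 1) (hP' : P' * P = 1)
  (hR₀ : ∀ x, (R₀ x).map (algebraMap B ℂ) = P' * D.R x * P)
  (hS₀ : ∀ a, (S₀ a).map (algebraMap B ℂ) = P' * D.S a * P)
  (hRS : ∀ a x, S₀ a * R₀ x = R₀ (D.α a x) * S₀ a)
  {Q Q' : Matrix (Fin m) (Fin m) ℂ} (hQ : Q * Q' = 1) (hQ' : Q' * Q = 1)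
  (hT₀ : ∀ x, (T₀ x).map (algebraMap B ℂ) = Q' * D.T x * Q)

include hP hP' hS₀ in
theorem S₀_eq (f : Matrix (Fin n) (Fin n) ℂ) (g : Matrix (Fin n) (Fin n) B) (x : A)
    (h : D.S x = f) (hg : g.map (algebraMap B ℂ) = P' * f * P) : S₀ x = g := by
  apply Matrix.map_injective (f := algebraMap B ℂ) B.subtype_injective
  show (S₀ x).map (algebraMap B ℂ) = g.map (algebraMap B ℂ)
  rw [hS₀, hg, h]

include hP hP' hS₀ in
theorem S₀_comm {g g' : A} (hg : g ∈ D.E) (hg' : g' ∈ D.E) : S₀ g * S₀ g' = S₀ g' * S₀ g := by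
  apply Matrix.map_injective (f := algebraMap B ℂ) B.subtype_injective
  show (S₀ g * S₀ g').map (algebraMap B ℂ) = (S₀ g' * S₀ g).map (algebraMap B ℂ)
  rw [Matrix.map_mul, Matrix.map_mul, hS₀, hS₀]
  have h1 : ∀ X Y : Matrix (Fin n) (Fin n) ℂ, P' * X * P * (P' * Y * P) = P' * (X * Y) * P := by
    intro X Y
    calc P' * X * P * (P' * Y * P) = P' * X * (P * P') * Y * P := by simp only [Matrix.mul_assoc]
      _ = _ := by rw [hP, Matrix.mul_one]; simp only [Matrix.mul_assoc]
  rw [h1, h1, D.hcS g hg g' hg']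

include hP hP' hS₀ in
theorem S₀_pow {g : A} (hg : g ∈ D.E) : S₀ g ^ p = 1 := by
  rw [← map_pow]
  refine D.S₀_eq B S₀ hP hP' hS₀ 1 1 _ ?_ ?_
  · rw [map_pow, D.hpS g hg]
  · rw [Matrix.mul_one, hP']
    ext i j
    by_cases h : i = j <;> simp [h, Matrix.one_apply]

include hP hP' hR₀ in
theorem orthR₀ : Orth R₀ := by
  refine Orth.of_map (algebraMap B ℂ) B.subtype_injective ?_
  refine Orth.conj D.hR hP hP' fun x => ?_
  rw [mapRep_apply, hR₀]

include hQ hQ' hT₀ in
theorem orthT₀ : Orth T₀ := by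
  refine Orth.of_map (algebraMap B ℂ) B.subtype_injective ?_
  refine Orth.conj D.hT hQ hQ' fun x => ?_
  rw [mapRep_apply, hT₀]

/-- The modular data. -/
noncomputable def toG : GData p (ResidueField B) N D.E C n m where
  rN := mapRep R₀ (residue B)
  aE g := D.α g
  rE g := mapRep S₀ (residue B) g
  rC := mapRep T₀ (residue B)
  aE_comm g g' := D.hcα g g.2 g' g'.2
  aE_pow g := D.hpα g g.2
  rE_comm g g' := by
    show mapRep S₀ (residue B) g * mapRep S₀ (residue B) g' = _ * _
    rw [mapRep_apply, mapRep_apply, ← Matrix.map_mul, ← Matrix.map_mul,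
      D.S₀_comm B S₀ hP hP' hS₀ g.2 g'.2]
  rE_pow g := by
    rw [← map_pow]
    show (S₀ ((g : A) ^ p)).map (residue B) = 1
    rw [map_pow, D.S₀_pow B S₀ hP hP' hS₀ g.2]
    ext i j
    by_cases h : i = j <;> simp [h, Matrix.one_apply]
  rel g x := by
    rw [mapRep_apply, mapRep_apply, mapRep_apply, ← Matrix.map_mul, ← Matrix.map_mul, hRS]
  mem_C x := by
    rw [D.hC]
    constructor
    · intro h g
      exact h g g.2
    · intro h g hg
      exact h ⟨g, hg⟩
  orthN := orth_div ((D.orthR₀ B R₀ hP hP' hR₀).map (residue B) residue_surjective)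
    (cast_ne B D.hN)
  orthC := orth_div ((D.orthT₀ B T₀ hQ hQ' hT₀).map (residue B) residue_surjective)
    (cast_ne B D.hCp)
  glau c := by
    have h1 := D.trace_res B R₀ T₀ (fun x => trace_form B hP hR₀ x)
      (fun x => trace_form B hQ hT₀ x) c
    have h2 := D.trace_res B R₀ T₀ (fun x => trace_form B hP hR₀ x)
      (fun x => trace_form B hQ hT₀ x) 1
    rw [OneMemClass.coe_one, map_one, map_one, Matrix.trace_one, Matrix.trace_one, Fintype.card_fin,
      Fintype.card_fin, map_natCast, map_natCast] at h2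
    rw [mapRep_apply, mapRep_apply, trace_mapF, trace_mapF, h1, h2, D.card_eq (ResidueField B)]
    have h3 := D.e_sq B
    calc (D.e : ResidueField B) * m / (Nat.card C : ResidueField B) * (D.e * residue B (T₀ c).trace)
        = ((D.e : ResidueField B) * D.e) * ((m : ResidueField B) /
          (Nat.card C : ResidueField B) * residue B (T₀ c).trace) := by ring
      _ = _ := by rw [h3, one_mul]
  n0 := ((D.orthR₀ B R₀ hP hP' hR₀).map (residue B) residue_surjective).ne_zero D.hn
    (cast_ne B D.hN)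
  m0 := ((D.orthT₀ B T₀ hQ hQ' hT₀).map (residue B) residue_surjective).ne_zero D.hm
    (cast_ne B D.hCp)
  N0 := cast_ne B D.hN
  C0 := cast_ne B D.hCp

end Build

end SData

end Cfsg.Agent.H640
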