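import Mathlib
import Cfsg.Agent.H640.Step3

/-!
# One step of the extension theorem (helper640), part 4: the theorem
-/

set_option autoImplicit false
set_option linter.unusedSectionVars false

namespace Cfsg.Agent.H640

open Module Matrix IsLocalRing

namespace SData

variable {p : ℕ} [hp : Fact p.Prime] {N A : Type*} [Group N] [Fintype N] [Group A]
  {C : Subgroup N} [Fintype C] {n m : ℕ} (D : SData p N A C n m)

/-- **One step.** -/
theorem main [Finite A] : ∃ Q : A →* Matrix (Fin m) (Fin m) ℂ,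
    (∀ a (c : C), Q a * D.T c = D.T (D.αC a c) * Q a) ∧ (∀ g ∈ D.E, Q g = 1) ∧
    ∀ a (c : C), (∀ g ∈ D.E, a * g = g * a) → (∀ x, D.α a x = c * x * (c : N)⁻¹) →
      D.S a = D.R c → Q a = D.T c := by
  classical
  have hfin := D.finite_Lh
  have hEn := D.hEn
  have hEfin : Fintype D.E := Fintype.ofFinite D.E
  obtain ⟨B, hB⟩ := exists_valRing p
  obtain ⟨R₀, S₀, P, P', hP, hP', hR₀, hS₀, hRS⟩ := exists_form B D.α D.R D.S D.hS
  obtain ⟨T₀, q₀, Q, Q', hQ, hQ', hT₀, hq₀, hTq⟩ := exists_form B (D.αC.comp D.pr) D.T D.mat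
    (fun h c => D.mat_comm h c)
  let G := D.toG B R₀ S₀ T₀ hP hP' hR₀ hS₀ hRS hQ hQ' hT₀
  let F : G.LData D.Lh :=
    { π := (MulAut.toPerm D.E).comp ((MulAut.conjNormal (H := D.E)).comp D.pr)
      rL := (mapRep S₀ (residue B)).comp D.pr
      q := mapRep q₀ (residue B)
      rel_E := by
        intro h g
        show mapRep S₀ (residue B) (D.pr h) * mapRep S₀ (residue B) (g : A) =
          mapRep S₀ (residue B) ((MulAut.conjNormal (D.pr h) g : D.E) : A) *
            mapRep S₀ (residue B) (D.pr h)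
        rw [MulAut.conjNormal_apply, ← map_mul, ← map_mul]
        congr 1
        group
      rel_C := by
        intro h c
        refine ⟨D.αC (D.pr h)⁻¹ c, ?_, ?_⟩
        · show mapRep S₀ (residue B) (D.pr h) * mapRep R₀ (residue B) (D.αC (D.pr h)⁻¹ c : C) =
            mapRep R₀ (residue B) c * mapRep S₀ (residue B) (D.pr h)
          rw [mapRep_apply, mapRep_apply, mapRep_apply, ← Matrix.map_mul, ← Matrix.map_mul, hRS,
            αC_coe, ← MulAut.mul_apply, ← map_mul, mul_inv_cancel, map_one, MulAut.one_apply]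
        · show mapRep q₀ (residue B) h * mapRep T₀ (residue B) (D.αC (D.pr h)⁻¹ c) =
            mapRep T₀ (residue B) c * mapRep q₀ (residue B) h
          rw [mapRep_apply, mapRep_apply, mapRep_apply, ← Matrix.map_mul, ← Matrix.map_mul, hTq,
            MonoidHom.comp_apply, ← MulAut.mul_apply, ← map_mul, mul_inv_cancel, map_one,
            MulAut.one_apply] }
  obtain ⟨χ, hχ⟩ := F.exists_chi
  obtain ⟨χ', hχ', r, hpr, hr⟩ := exists_teich χ
  -- elements of the kernel
  have hC0 : ¬ p ∣ Nat.card C := D.hCp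
  have hm0 : ¬ p ∣ m := fun h => G.m0 ((CharP.cast_eq_zero_iff (ResidueField B) p m).2 h)
  have hsp : ∀ (h : D.Lh) (c : C) (z : ℂ), (∀ g ∈ D.E, D.pr h * g = g * D.pr h) →
      D.S (D.pr h) = D.R c → D.mat h = z • D.T c → (χ' h : ℂ) * z = 1 := by
    intro h c z h1 h2 h3
    have hz1 : z ^ (m * Nat.card C) = 1 := by
      have h4 := D.mat_det h
      rw [h3, Matrix.det_smul, Fintype.card_fin, mul_pow, ← pow_mul] at h4
      have h5 : (D.T c).det ^ Nat.card C = 1 := by
        rw [← Matrix.det_pow, ← map_pow, pow_card_eq_one', map_one, Matrix.det_one]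
      rwa [h5, mul_one] at h4
    have hpos : m * Nat.card C ≠ 0 := Nat.mul_ne_zero D.hm.ne' Nat.card_pos.ne'
    have hz0 : z ≠ 0 := by
      rintro rfl
      rw [zero_pow hpos] at hz1
      exact zero_ne_one hz1
    have hzi : z⁻¹ ^ (m * Nat.card C) = 1 := by rw [inv_pow, hz1, inv_one]
    have hzB : z ∈ B := mem_of_pow_eq_one hpos hz1
    have hziB : z⁻¹ ∈ B := mem_of_pow_eq_one hpos hzi
    have hzz : (⟨z⁻¹, hziB⟩ : B) * ⟨z, hzB⟩ = 1 := Subtype.ext (inv_mul_cancel₀ hz0)
    have h4 : ((χ h : (ResidueField B)ˣ) : ResidueField B) = residue B ⟨z⁻¹, hziB⟩ := by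
      refine hχ h c _ ?_ ?_ ?_
      · intro g
        show (MulAut.conjNormal (D.pr h)) g = g
        apply Subtype.ext
        rw [MulAut.conjNormal_apply, h1 g g.2, mul_inv_cancel_right]
      · show mapRep S₀ (residue B) (D.pr h) = mapRep R₀ (residue B) c
        rw [mapRep_apply, mapRep_apply]
        congr 1
        apply Matrix.map_injective (f := algebraMap B ℂ) B.subtype_injective
        show (S₀ (D.pr h)).map (algebraMap B ℂ) = (R₀ c).map (algebraMap B ℂ)
        rw [hS₀, hR₀, h2]
      · show residue B ⟨z⁻¹, hziB⟩ • mapRep q₀ (residue B) h = mapRep T₀ (residue B) c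
        have h5 : q₀ h = (⟨z, hzB⟩ : B) • T₀ c := by
          apply Matrix.map_injective (f := algebraMap B ℂ) B.subtype_injective
          show (q₀ h).map (algebraMap B ℂ) = ((⟨z, hzB⟩ : B) • T₀ c).map (algebraMap B ℂ)
          have h6 : ((⟨z, hzB⟩ : B) • T₀ c).map (algebraMap B ℂ) =
              z • (T₀ c).map (algebraMap B ℂ) := by
            ext i j
            simp only [Matrix.map_apply, Matrix.smul_apply, smul_eq_mul, map_mul]
            rfl
          rw [h6, hq₀, hT₀, h3, Matrix.mul_smul, Matrix.smul_mul]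
        have h6 : ((⟨z, hzB⟩ : B) • T₀ c).map (residue B) =
            residue B ⟨z, hzB⟩ • (T₀ c).map (residue B) := by
          ext i j
          simp only [Matrix.map_apply, Matrix.smul_apply, smul_eq_mul, map_mul]
        rw [mapRep_apply, mapRep_apply, h5, h6, smul_smul, ← map_mul, hzz, map_one, one_smul]
    have h5 : χ' h = ⟨z⁻¹, hziB⟩ := by
      have hr' : ¬ p ∣ r * (m * Nat.card C) := fun hd => by
        rcases hp.out.dvd_mul.1 hd with hd | hd
        · exact hpr hd
        · rcases hp.out.dvd_mul.1 hd with hd | hd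
          · exact hm0 hd
          · exact hC0 hd
      refine eq_of_residue hr' ?_ ?_ ?_
      · rw [pow_mul, hr, one_pow]
      · apply Subtype.ext
        show z⁻¹ ^ (r * (m * Nat.card C)) = 1
        rw [mul_comm, pow_mul, hzi, one_pow]
      · rw [hχ', h4]
    rw [h5]
    exact inv_mul_cancel₀ hz0
  -- the representation of the covering group
  let Qh : D.Lh →* Matrix (Fin m) (Fin m) ℂ :=
    { toFun := fun h => (χ' h : ℂ) • D.mat h
      map_one' := by rw [map_one, map_one]; exact one_smul ℂ _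
      map_mul' := fun h h' => by
        rw [map_mul, map_mul, Matrix.smul_mul, Matrix.mul_smul, smul_smul]
        rfl }
  have hQh : ∀ h, Qh h = (χ' h : ℂ) • D.mat h := fun _ => rfl
  have hker : ∀ h, D.pr h = 1 → Qh h = 1 := by
    intro h h1
    obtain ⟨z, hz⟩ := D.exists_scalar (M := D.mat h) (fun c => by
      rw [mat_comm, h1, map_one, MulAut.one_apply])
    rw [hQh, hz, smul_smul, hsp h 1 z (fun g _ => by rw [h1, one_mul, mul_one])
      (by rw [h1, map_one, OneMemClass.coe_one, map_one]) (by rw [hz, map_one]), one_smul]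
  choose s hs using D.pr_surjective
  have hwd : ∀ h h', D.pr h = D.pr h' → Qh h = Qh h' := by
    intro h h' hh
    have h1 : Qh (h * h'⁻¹) = 1 := hker _ (by rw [map_mul, map_inv, hh, mul_inv_cancel])
    have h2 : h = h * h'⁻¹ * h' := by group
    rw [h2, map_mul, h1, Matrix.one_mul]
  let Qf : A →* Matrix (Fin m) (Fin m) ℂ :=
    { toFun := fun a => Qh (s a)
      map_one' := hker _ (hs 1)
      map_mul' := fun a b => by
        rw [← map_mul]
        exact hwd _ _ (by rw [hs, map_mul, hs, hs]) }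
  have hQf : ∀ h, Qf (D.pr h) = Qh h := fun h => hwd _ _ (hs _)
  refine ⟨Qf, fun a c => ?_, fun g hg => ?_, fun a c h1 h2 h3 => ?_⟩
  · obtain ⟨h, rfl⟩ := D.pr_surjective a
    rw [hQf, hQh, Matrix.smul_mul, mat_comm, Matrix.mul_smul]
  · -- the element `(g, 1)`
    have hgC : ∀ c : C, D.αC g c = c := fun c => Subtype.ext ((D.hC c).1 c.2 g hg)
    let h : D.Lh := ⟨(g, 1), fun c => by
      show (1 : Matrix (Fin m) (Fin m) ℂ) * D.T c = D.T (D.αC g c) * (1 : Matrix _ _ ℂ)
      rw [hgC, Matrix.one_mul, Matrix.mul_one], by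
      show (1 : Matrix (Fin m) (Fin m) ℂ).det ^ _ = 1
      rw [Matrix.det_one, one_pow]⟩
    have hpr' : D.pr h = g := rfl
    have hmat : D.mat h = 1 := rfl
    obtain ⟨j, hj⟩ := D.hE ⟨g, hg⟩
    have hj' : g ^ p ^ j = 1 := congrArg Subtype.val hj
    have h1 : h ^ p ^ j = 1 := by
      apply Subtype.ext
      show ((g, (1 : GL (Fin m) ℂ)) : A × GL (Fin m) ℂ) ^ p ^ j = 1
      rw [Prod.pow_mk, hj', one_pow]
      rfl
    have h2 : χ' h ^ p ^ j = 1 := by rw [← map_pow, h1, map_one]
    have h3 : χ' h = 1 := by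
      have h4 : Nat.gcd (p ^ j) r = 1 :=
        Nat.Coprime.pow_left j ((Nat.Prime.coprime_iff_not_dvd hp.out).2 hpr)
      have h5 := pow_gcd_eq_one.2 ⟨h2, hr h⟩
      rwa [h4, pow_one] at h5
    have h4 := hQf h
    rw [hpr', hQh, h3, hmat] at h4
    rw [h4]
    exact one_smul ℂ _
  · let h : D.Lh := ⟨(a, (D.T.toHomUnits c : (Matrix (Fin m) (Fin m) ℂ)ˣ)), fun d => by
      show D.T c * D.T d = D.T (D.αC a d) * D.T c
      rw [← map_mul, ← map_mul]
      congr 1
      apply Subtype.ext
      show (c : N) * d = D.α a d * c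
      rw [h2, mul_assoc, inv_mul_cancel, mul_one], by
      show (D.T c).det ^ Nat.card C = 1
      rw [← Matrix.det_pow, ← map_pow, pow_card_eq_one', map_one, Matrix.det_one]⟩
    have hpr' : D.pr h = a := rfl
    have hmat : D.mat h = D.T c := rfl
    have h4 := hsp h c 1 (fun g hg => by rw [hpr']; exact h1 g hg) (by rw [hpr', h3])
      (by rw [hmat, one_smul])
    rw [mul_one] at h4
    have h5 := hQf h
    rw [hpr', hQh, h4, hmat, one_smul] at h5
    exact h5

end SData

end Cfsg.Agent.H640
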