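import Mathlib
import Cfsg.Agent.H640.Step4
import Cfsg.Agent.H593.GlaubermanP2
import Cfsg.Agent.Blocks.ExistsModular
import Cfsg.Agent.CharDeep.SameChar
import Cfsg.Agent.Characters.AverageRoots

/-!
# Matrix representations and characters; the Glauberman correspondent in matrix form (helper640)
-/

set_option autoImplicit false
set_option linter.unusedSectionVars false

namespace Cfsg.Agent.H640

open Module Matrix Cfsg
open Cfsg.Agent.Characters.Core

variable {N : Type*} [Group N] [Fintype N] {n : ℕ}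

/-- the representation of a matrix representation -/
noncomputable def toRep {G : Type*} [Monoid G] (R : G →* Matrix (Fin n) (Fin n) ℂ) :
    Representation ℂ G (Fin n → ℂ) :=
  (Matrix.toLinAlgEquiv' : Matrix (Fin n) (Fin n) ℂ ≃ₐ[ℂ] _).toMulEquiv.toMonoidHom.comp R

theorem toRep_apply {G : Type*} [Monoid G] (R : G →* Matrix (Fin n) (Fin n) ℂ) (g : G) :
    toRep R g = Matrix.toLin' (R g) := rfl

theorem toRep_character {G : Type*} [Monoid G] (R : G →* Matrix (Fin n) (Fin n) ℂ) (g : G) :
    (toRep R).character g = (R g).trace := by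
  show LinearMap.trace ℂ _ (toRep R g) = _
  rw [toRep_apply, Matrix.trace_toLin'_eq]

theorem isCharacter_trace {G : Type*} [Group G] (R : G →* Matrix (Fin n) (Fin n) ℂ) :
    IsCharacter G (fun x => (R x).trace) := ⟨n, toRep R, funext fun g => toRep_character R g⟩

theorem isIrr_of_orth {R : N →* Matrix (Fin n) (Fin n) ℂ} (h : Orth R) (hn : 0 < n) :
    IsIrrCharacter N (fun x => (R x).trace) := by
  have hc := isCharacter_trace R
  refine isIrr_of_classInner_self hc ?_
  have h1 := h.sum_trace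
  have hn0 : (n : ℂ) ≠ 0 := Nat.cast_ne_zero.2 hn.ne'
  have hN0 : (Nat.card N : ℂ) ≠ 0 := Nat.cast_ne_zero.2 Nat.card_pos.ne'
  have h2 := mul_left_cancel₀ hn0 h1
  rw [classInner]
  have h3 : ∀ g : N, (R g).trace * (starRingEnd ℂ) (R g).trace = (R g⁻¹).trace * (R g).trace := by
    intro g
    have h4 : (R g⁻¹).trace = (starRingEnd ℂ) (R g).trace := isCharacter_apply_inv hc g
    rw [h4, mul_comm]
  simp only [h3]
  rw [h2, inv_mul_cancel₀ hN0]

/-- A matrix representation whose commutant consists of scalars satisfies the orthogonality relation. -/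
theorem orth_of_scalar {R : N →* Matrix (Fin n) (Fin n) ℂ} (hn0 : 0 < n)
    (hsc : ∀ M : Matrix (Fin n) (Fin n) ℂ, (∀ d, M * R d = R d * M) →
      ∃ z : ℂ, M = z • (1 : Matrix (Fin n) (Fin n) ℂ)) : Orth R := by
  classical
  have hn : (n : ℂ) ≠ 0 := Nat.cast_ne_zero.2 hn0.ne'
  have hN0 : (Nat.card N : ℂ) ≠ 0 := Nat.cast_ne_zero.2 Nat.card_pos.ne'
  -- Schur
  have havg : ∀ s : Matrix (Fin n) (Fin n) ℂ,
      (n : ℂ) • ∑ x, R x * s * R x⁻¹ = (Nat.card N : ℂ) • (s.trace • (1 : Matrix _ _ ℂ)) := by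
    intro s
    set M := ∑ x, R x * s * R x⁻¹ with hM
    have hcomm : ∀ d, M * R d = R d * M := by
      intro d
      rw [hM, Matrix.sum_mul, Matrix.mul_sum,
        ← Equiv.sum_comp (Equiv.mulLeft d) (fun x => R x * s * R x⁻¹ * R d)]
      refine Finset.sum_congr rfl fun x _ => ?_
      have h1 : (d * x)⁻¹ * d = x⁻¹ := by group
      show R (d * x) * s * R (d * x)⁻¹ * R d = _
      rw [Matrix.mul_assoc _ _ (R d), ← map_mul R (d * x)⁻¹ d, h1, map_mul]
      simp only [Matrix.mul_assoc]
    obtain ⟨z, hz'⟩ := hsc M hcomm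
    have htr : M.trace = (Nat.card N : ℂ) * s.trace := by
      rw [hM, Matrix.trace_sum]
      have h1 : ∀ x, (R x * s * R x⁻¹).trace = s.trace := by
        intro x
        rw [Matrix.trace_mul_comm, ← Matrix.mul_assoc, ← map_mul, inv_mul_cancel, map_one,
          Matrix.one_mul]
      simp only [h1]
      rw [Finset.sum_const, Finset.card_univ, ← Nat.card_eq_fintype_card, nsmul_eq_mul]
    rw [hz', Matrix.trace_smul, Matrix.trace_one, Fintype.card_fin, smul_eq_mul] at htr
    rw [hz', smul_smul, smul_smul, mul_comm (n : ℂ), htr]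
  intro s
  have hcoord : ∀ i j a b : Fin n, (n : ℂ) * ∑ x, R x a b * R x⁻¹ j i =
      if b = j ∧ a = i then (Nat.card N : ℂ) else 0 := by
    intro i j a b
    have h1 := congrFun (congrFun (havg (Matrix.single b j 1)) a) i
    rw [Matrix.smul_apply, Matrix.smul_apply, Matrix.smul_apply, Matrix.sum_apply, smul_eq_mul,
      smul_eq_mul, smul_eq_mul] at h1
    have h2 : ∀ x, (R x * (Matrix.single b j 1 : Matrix (Fin n) (Fin n) ℂ) * R x⁻¹ :
        Matrix (Fin n) (Fin n) ℂ) a i = R x a b * R x⁻¹ j i := by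
      intro x
      rw [Matrix.mul_apply, Finset.sum_eq_single j]
      · rw [Matrix.mul_apply, Finset.sum_eq_single b]
        · simp
        · intro l _ hl
          simp [Ne.symm hl]
        · simp
      · intro l _ hl
        rw [Matrix.mul_apply, Finset.sum_eq_zero, zero_mul]
        intro l' _
        simp [Ne.symm hl]
      · simp
    simp only [h2] at h1
    rw [h1]
    by_cases hbj : b = j
    · subst hbj
      by_cases hai : a = i
      · subst hai; simp
      · simp [hai]
    · rw [Matrix.trace_single_eq_of_ne _ _ _ hbj]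
      simp [hbj]
  ext a b
  rw [Matrix.smul_apply, Matrix.sum_apply, Matrix.smul_apply, smul_eq_mul, smul_eq_mul]
  have h1 : ∀ x, ((s * R x⁻¹).trace • R x) a b = ∑ i, ∑ j, s i j * (R x a b * R x⁻¹ j i) := by
    intro x
    rw [Matrix.smul_apply, smul_eq_mul, Matrix.trace, Finset.sum_mul]
    refine Finset.sum_congr rfl fun i _ => ?_
    rw [Matrix.diag_apply, Matrix.mul_apply, Finset.sum_mul]
    exact Finset.sum_congr rfl fun j _ => by ring
  simp only [h1]
  rw [Finset.sum_comm, Finset.mul_sum, Finset.sum_eq_single a]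
  · rw [Finset.sum_comm, Finset.mul_sum, Finset.sum_eq_single b]
    · rw [← Finset.mul_sum, mul_left_comm, hcoord]
      simp [mul_comm]
    · intro j _ hj
      rw [← Finset.mul_sum, mul_left_comm, hcoord, if_neg (fun h => hj h.1.symm), mul_zero]
    · simp
  · intro i _ hi
    rw [Finset.sum_comm, Finset.mul_sum]
    refine Finset.sum_eq_zero fun j _ => ?_
    rw [← Finset.mul_sum, mul_left_comm, hcoord, if_neg (fun h => hi h.2.symm), mul_zero]
  · simp

/-- a matrix form of an irreducible character -/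
theorem exists_orth {χ : N → ℂ} (hχ : IsIrrCharacter N χ) :
    ∃ (n : ℕ) (R : N →* Matrix (Fin n) (Fin n) ℂ), 0 < n ∧ Orth R ∧ ∀ x, (R x).trace = χ x := by
  classical
  obtain ⟨k, hk0, hk⟩ := isIrr_apply_one hχ
  obtain ⟨n, ρ, hρ, rfl⟩ := hχ
  let R : N →* Matrix (Fin n) (Fin n) ℂ :=
    (LinearMap.toMatrixAlgEquiv' : _ ≃ₐ[ℂ] Matrix (Fin n) (Fin n) ℂ).toMulEquiv.toMonoidHom.comp ρ
  have hR : ∀ x, R x = LinearMap.toMatrix' (ρ x) := fun x => rfl
  have hR' : ∀ x, Matrix.toLin' (R x) = ρ x := fun x => by rw [hR, Matrix.toLin'_toMatrix']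
  have htr : ∀ x, (R x).trace = ρ.character x := by
    intro x
    rw [Representation.character, ← Matrix.trace_toLin'_eq, hR']
  have hn0 : 0 < n := by
    rcases Nat.eq_zero_or_pos n with h | h
    · exfalso
      have h1 := htr 1
      rw [map_one, Matrix.trace_one, Fintype.card_fin, hk, h, Nat.cast_zero] at h1
      exact hk0.ne' (Nat.cast_eq_zero.1 h1.symm)
    · exact h
  refine ⟨n, R, hn0, orth_of_scalar hn0 fun M hcomm => ?_, htr⟩
  obtain ⟨z, hz⟩ := Cfsg.Agent.CharDeep.SameChar.exists_smul_of_commute ρ hρ (Matrix.toLin' M)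
    (fun g v => by
      rw [← hR', ← LinearMap.comp_apply, ← LinearMap.comp_apply, ← Matrix.toLin'_mul,
        ← Matrix.toLin'_mul, hcomm])
  refine ⟨z, ?_⟩
  apply Matrix.toLin'.injective
  rw [hz, map_smul, Matrix.toLin'_one]

/-! ### The Glauberman correspondent -/

open Cfsg.Agent.H593.GlaubermanP in
/-- The decomposition of the restriction of an invariant irreducible character of a `p'`-group to the fixed points
of a `p`-group of operators. -/
theorem glau_decomp {p : ℕ} [Fact p.Prime] {G D S : Type*} [Group G] [Fintype G] [Group D]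
    [Fintype D] [Group S] [MulDistribMulAction S G] {ι : D →* G} (h : Setup S ι p)
    (χ : IrrCharacter G) (hχ : Inv S (χ : G → ℂ)) :
    ∃ (β : IrrCharacter D) (e : ℕ), classInner ((χ : G → ℂ) ∘ ι) (β : D → ℂ) = e ∧
      (e : ZMod p) ^ 2 = 1 ∧
      ∀ c, ∃ d : ℂ, IsIntegral ℤ d ∧ (χ : G → ℂ) (ι c) = e * (β : D → ℂ) c + p * d := by
  classical
  obtain ⟨M, hM⟩ := Cfsg.Agent.Blocks.ExistsModular.exists_isPModular (Fact.out : p.Prime)
  have : Finite (IrrCharacter D) := finite_irr
  have := Fintype.ofFinite (IrrCharacter D)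
  obtain ⟨β, hβ⟩ := exists_beta h hM χ
  choose m hm using fun β : IrrCharacter D => exists_mult (ι := ι) χ β
  have hdvd : ∀ β', β' ≠ β → p ∣ m β' := by
    intro β' hne
    by_contra h4
    have h5 : ¬ MemLocalIdeal M (b ι χ β') := fun h' => h4 ((good_iff h hM (hm β')).1 h')
    exact hne (unique_beta h hM hχ h5 hβ)
  have hnd : ¬ p ∣ m β := fun h' => hβ ((good_iff h hM (hm β)).2 h')
  obtain ⟨n, hn⟩ := exists_nat_comb (isCharacter_comp ι (isIrr_isCharacter χ.2))
  have h1 : ∀ β, n β = m β := by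
    intro β
    have h2 := hm β
    rw [hn, classInner_sum_nsmul_irr] at h2
    exact_mod_cast h2
  refine ⟨β, m β, hm β, ?_, fun c => ?_⟩
  · have h2 : ((m β : ℤ) : ZMod p) ^ 2 = 1 := by
      rcases mult_modEq h hM hχ (hm β) hnd with h3 | h3
      · rw [(ZMod.intCast_eq_intCast_iff _ _ _).2 h3]
        simp
      · rw [(ZMod.intCast_eq_intCast_iff _ _ _).2 h3]
        simp
    exact_mod_cast h2
  · have h2 := congrFun hn c
    rw [Function.comp_apply, Finset.sum_apply, ← Finset.add_sum_erase _ _ (Finset.mem_univ β)] at h2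
    choose q hq using fun β' : {β' // β' ≠ β} => hdvd β' β'.2
    refine ⟨∑ β' ∈ (Finset.univ.erase β).attach,
      (q ⟨β', Finset.ne_of_mem_erase β'.2⟩ : ℂ) * ((β' : IrrCharacter D) : D → ℂ) c, ?_, ?_⟩
    · refine IsIntegral.sum _ fun β' _ => (isIntegral_natCast _).mul ?_
      obtain ⟨k, ρ, -, hρ⟩ := (β' : IrrCharacter D).2
      rw [← hρ]
      exact Cfsg.Agent.Characters.AverageRoots.isIntegral_character ρ c
    · rw [h2, Pi.smul_apply, nsmul_eq_mul, h1, Finset.mul_sum,
        ← Finset.sum_attach (Finset.univ.erase β)]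
      congr 1
      refine Finset.sum_congr rfl fun β' _ => ?_
      have h3 := hq ⟨β', Finset.ne_of_mem_erase β'.2⟩
      rw [Pi.smul_apply, nsmul_eq_mul, h1, h3]
      push_cast
      ring

end Cfsg.Agent.H640
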