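import Mathlib
import Cfsg.Agent.H640.Bridge

/-!
# The extension theorem for the Glauberman correspondence (helper640)

`thmD` : `N` a finite `p'`-group, `A` a finite group acting on `N`, `P` a normal `p`-subgroup of `A`, `R` an
irreducible representation of `N` implemented by a representation `S` of `A`. Then the Glauberman
correspondent `T` of `R` (a representation of the fixed points `C` of `P`) is implemented by a
representation `Q` of `A`, trivial on `P`, with `Q a = T c` whenever `a` centralises `P`, acts on `N` as `c` and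
`S a = R c`.
-/

set_option autoImplicit false
set_option linter.unusedSectionVars false

namespace Cfsg.Agent.H640

open Module Matrix Cfsg
open Cfsg.Agent.Characters.Core

universe u v

theorem Orth.comp_equiv {N N' F : Type*} [Group N] [Fintype N] [Group N'] [Fintype N']
    [CommRing F] {n : ℕ} {R : N →* Matrix (Fin n) (Fin n) F} (h : Orth R) (e : N' ≃* N) :
    Orth (R.comp e.toMonoidHom) := by
  intro s
  rw [Nat.card_congr e.toEquiv, ← h s,
    ← Equiv.sum_comp e.toEquiv (fun x => (s * R x⁻¹).trace • R x)]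
  congr 1
  refine Finset.sum_congr rfl fun x _ => ?_
  show (s * R (e x⁻¹)).trace • R (e x) = (s * R (e x)⁻¹).trace • R (e x)
  rw [map_inv]

/-- fixed points of a group of operators -/
def fixSub {N A : Type*} [Group N] [Group A] (α : A →* MulAut N) (E : Subgroup A) :
    Subgroup N where
  carrier := {x | ∀ g ∈ E, α g x = x}
  one_mem' := fun g _ => map_one _
  mul_mem' := fun {x y} hx hy g hg => by rw [map_mul, hx g hg, hy g hg]
  inv_mem' := fun {x} hx g hg => by rw [map_inv, hx g hg]

theorem mem_fixSub {N A : Type*} [Group N] [Group A] (α : A →* MulAut N) (E : Subgroup A)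
    (x : N) : x ∈ fixSub α E ↔ ∀ g ∈ E, α g x = x := Iff.rfl

/-- the Glauberman correspondent in matrix form -/
theorem exists_T {p : ℕ} [Fact p.Prime] {N A : Type*} [Group N] [Fintype N] [Group A]
    (hN : ¬ p ∣ Nat.card N) (α : A →* MulAut N) (E : Subgroup A) (hE : IsPGroup p E) {n : ℕ}
    (hn : 0 < n) (R : N →* Matrix (Fin n) (Fin n) ℂ) (hR : Orth R)
    (S : A →* Matrix (Fin n) (Fin n) ℂ) (hS : ∀ a x, S a * R x = R (α a x) * S a)
    (C : Subgroup N) [Fintype C] (hC : ∀ x, x ∈ C ↔ ∀ g ∈ E, α g x = x) :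
    ∃ (m : ℕ) (T : C →* Matrix (Fin m) (Fin m) ℂ) (e : ℕ), 0 < m ∧ Orth T ∧
      (e : ZMod p) ^ 2 = 1 ∧
      ∀ c : C, ∃ d : ℂ, IsIntegral ℤ d ∧ (R c).trace = e * (T c).trace + p * d := by
  let _ : MulDistribMulAction E N := MulDistribMulAction.compHom N (α.comp E.subtype)
  have hact : ∀ (g : E) (x : N), g • x = α g x := fun _ _ => rfl
  have hset : Cfsg.Agent.H593.GlaubermanP.Setup E C.subtype p := by
    refine ⟨C.subtype_injective, fun x => ⟨fun h => ?_, ?_⟩, hE, hN⟩
    · exact ⟨⟨x, (hC x).2 fun g hg => h ⟨g, hg⟩⟩, rfl⟩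
    · rintro ⟨c, rfl⟩ g
      exact (hC c).1 c.2 g g.2
  have hinv : Cfsg.Agent.H593.GlaubermanP.Inv E (fun x => (R x).trace) := by
    intro g x
    show (R (α g x)).trace = (R x).trace
    have h1 : S (g : A) * S (g : A)⁻¹ = 1 := by rw [← map_mul, mul_inv_cancel, map_one]
    have h2 : S (g : A)⁻¹ * S (g : A) = 1 := by rw [← map_mul, inv_mul_cancel, map_one]
    have h : R (α g x) = S g * R x * S (g : A)⁻¹ := by
      rw [hS, Matrix.mul_assoc, h1, Matrix.mul_one]
    rw [h, Matrix.trace_mul_comm, ← Matrix.mul_assoc, h2, Matrix.one_mul]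
  obtain ⟨β, e, -, he, hd⟩ := glau_decomp hset ⟨_, isIrr_of_orth hR hn⟩ hinv
  obtain ⟨m, T, hm, hT, hTβ⟩ := exists_orth β.2
  refine ⟨m, T, e, hm, hT, he, fun c => ?_⟩
  obtain ⟨d, hd1, hd2⟩ := hd c
  exact ⟨d, hd1, by rw [hTβ]; exact hd2⟩

/-- a nontrivial normal `p`-subgroup contains a nontrivial normal elementary abelian subgroup -/
theorem exists_elem {p : ℕ} [Fact p.Prime] {A : Type*} [Group A] [Finite A] (P : Subgroup A)
    (hPn : P.Normal) (hP : IsPGroup p P) (hne : P ≠ ⊥) :
    ∃ E : Subgroup A, E.Normal ∧ E ≤ P ∧ E ≠ ⊥ ∧ (∀ g ∈ E, ∀ g' ∈ E, g * g' = g' * g) ∧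
      ∀ g ∈ E, g ^ p = 1 := by
  let E : Subgroup A :=
    { carrier := {x | x ∈ P ∧ x ^ p = 1 ∧ ∀ y ∈ P, x * y = y * x}
      one_mem' := ⟨one_mem _, one_pow _, fun y _ => by rw [one_mul, mul_one]⟩
      mul_mem' := by
        rintro x y ⟨hx1, hx2, hx3⟩ ⟨hy1, hy2, hy3⟩
        refine ⟨mul_mem hx1 hy1, ?_, fun z hz => ?_⟩
        · rw [(show Commute x y from hx3 y hy1).mul_pow, hx2, hy2, one_mul]
        · rw [mul_assoc, hy3 z hz, ← mul_assoc, hx3 z hz, mul_assoc]
      inv_mem' := by
        rintro x ⟨hx1, hx2, hx3⟩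
        refine ⟨inv_mem hx1, by rw [inv_pow, hx2, inv_one], fun z hz => ?_⟩
        exact ((show Commute x z from hx3 z hz).inv_left).eq }
  refine ⟨E, ⟨?_⟩, fun x hx => hx.1, ?_, fun g hg g' hg' => hg.2.2 g' hg'.1, fun g hg => hg.2.1⟩
  · rintro x ⟨hx1, hx2, hx3⟩ a
    refine ⟨hPn.conj_mem x hx1 a, ?_, fun y hy => ?_⟩
    · rw [conj_pow, hx2, mul_one, mul_inv_cancel]
    · have h1 := hx3 (a⁻¹ * y * a) (by
        have := hPn.conj_mem y hy a⁻¹
        rwa [inv_inv] at this)
      calc a * x * a⁻¹ * y = a * (x * (a⁻¹ * y * a)) * a⁻¹ := by group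
        _ = _ := by rw [h1]; group
  · -- nontriviality
    have : Nontrivial P := (Subgroup.nontrivial_iff_ne_bot P).2 hne
    have hc : Nontrivial (Subgroup.center P) := hP.center_nontrivial
    have hcp : IsPGroup p (Subgroup.center P) := hP.to_subgroup _
    have hdvd : p ∣ Nat.card (Subgroup.center P) := by
      obtain ⟨k, hk⟩ := IsPGroup.iff_card.1 hcp
      rw [hk]
      refine dvd_pow_self p ?_
      rintro rfl
      rw [pow_zero] at hk
      exact (Finite.one_lt_card (α := Subgroup.center P)).ne' hk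
    obtain ⟨x, hx⟩ := exists_prime_orderOf_dvd_card' p hdvd
    intro hE
    have h1 : ((x : P) : A) ∈ E := by
      refine ⟨(x : P).2, ?_, fun y hy => ?_⟩
      · have h2 : x ^ p = 1 := by rw [← hx, pow_orderOf_eq_one]
        have h3 := congrArg (fun t : Subgroup.center P => ((t : P) : A)) h2
        simpa using h3
      · have h2 := Subgroup.mem_center_iff.1 x.2 ⟨y, hy⟩
        exact (congrArg Subtype.val h2).symm
    rw [hE, Subgroup.mem_bot] at h1
    have h2 : x = 1 := Subtype.ext (Subtype.ext h1)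
    rw [h2, orderOf_one] at hx
    exact (Fact.out : p.Prime).one_lt.ne hx

/-- **The extension theorem.** -/
theorem thmD_aux (p : ℕ) [hp : Fact p.Prime] (k : ℕ) : ∀ (N : Type u) (A : Type v) [Group N]
    [Fintype N] [Group A] [Finite A] (_ : ¬ p ∣ Nat.card N) (α : A →* MulAut N)
    (P : Subgroup A) (_ : P.Normal) (_ : IsPGroup p P) (_ : Nat.card P ≤ k) (n : ℕ)
    (R : N →* Matrix (Fin n) (Fin n) ℂ) (_ : Orth R) (_ : 0 < n)
    (S : A →* Matrix (Fin n) (Fin n) ℂ) (_ : ∀ a x, S a * R x = R (α a x) * S a)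
    (C : Subgroup N) [Fintype C] (_ : ∀ x, x ∈ C ↔ ∀ g ∈ P, α g x = x),
    ∃ (m : ℕ) (T : C →* Matrix (Fin m) (Fin m) ℂ) (e : ℕ), 0 < m ∧ Orth T ∧
      (e : ZMod p) ^ 2 = 1 ∧
      (∀ c : C, ∃ d : ℂ, IsIntegral ℤ d ∧ (R c).trace = e * (T c).trace + p * d) ∧
      ∃ Q : A →* Matrix (Fin m) (Fin m) ℂ,
        (∀ (a : A) (c c' : C), (c' : N) = α a c → Q a * T c = T c' * Q a) ∧
        (∀ g ∈ P, Q g = 1) ∧
        ∀ (a : A) (c : C), (∀ g ∈ P, a * g = g * a) → (∀ x, α a x = c * x * (c : N)⁻¹) →
          S a = R c → Q a = T c := by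
  classical
  induction k with
  | zero =>
    intro N A _ _ _ _ hN α P hPn hP hk
    exact absurd hk (by have := Nat.card_pos (α := P); omega)
  | succ k ih =>
    intro N A _ _ _ _ hN α P hPn hP hk n R hR hn S hS C _ hC
    by_cases hne : P = ⊥
    · -- the trivial group
      have hCtop : C = ⊤ := by
        rw [eq_top_iff]
        intro x _
        rw [hC]
        intro g hg
        rw [hne, Subgroup.mem_bot] at hg
        rw [hg, map_one, MulAut.one_apply]
      subst hCtop
      refine ⟨n, R.comp Subgroup.topEquiv.toMonoidHom, 1, hn, hR.comp_equiv _, by simp,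
        fun c => ⟨0, isIntegral_zero, ?_⟩, S, fun a c c' h => ?_, fun g hg => ?_,
        fun a c _ _ h => ?_⟩
      · show (R c).trace = (1 : ℕ) * (R c).trace + p * 0
        simp
      · show S a * R c = R c' * S a
        rw [hS, h]
      · rw [hne, Subgroup.mem_bot] at hg
        rw [hg, map_one]
      · exact h
    · obtain ⟨E, hEn, hEP, hEne, hEcomm, hEpow⟩ := exists_elem (p := p) P hPn hP hne
      have hE : IsPGroup p E := hP.to_le hEP
      -- the first step
      let C₁ : Subgroup N := fixSub α E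
      have : Fintype C₁ := Fintype.ofFinite _
      have hC₁ : ∀ x, x ∈ C₁ ↔ ∀ g ∈ E, α g x = x := fun x => Iff.rfl
      obtain ⟨m₁, T₁, e₁, hm₁, hT₁, he₁, hgl₁⟩ := exists_T hN α E hE hn R hR S hS C₁ hC₁
      let D : SData p N A C₁ n m₁ :=
        { hN := hN, α := α, E := E, hEn := hEn, hE := hE, R := R, hR := hR, S := S, hS := hS
          hcS := fun g hg g' hg' => by rw [← map_mul, hEcomm g hg g' hg', map_mul]
          hcα := fun g hg g' hg' => by rw [← map_mul, hEcomm g hg g' hg', map_mul]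
          hpS := fun g hg => by rw [← map_pow, hEpow g hg, map_one]
          hpα := fun g hg => by rw [← map_pow, hEpow g hg, map_one]
          hC := hC₁, T := T₁, hT := hT₁, hn := hn, hm := hm₁, e := e₁, he := he₁, hgl := hgl₁ }
      obtain ⟨Q₁, hQ₁, hQ₁E, hQ₁s⟩ := D.main
      -- the quotient
      let A₁ := A ⧸ E
      have hαE : ∀ g ∈ E, D.αC g = 1 := by
        intro g hg
        ext c
        exact (hC₁ c).1 c.2 g hg
      let α₁ : A₁ →* MulAut C₁ := QuotientGroup.lift E D.αC (fun g hg => hαE g hg)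
      let S₁ : A₁ →* Matrix (Fin m₁) (Fin m₁) ℂ := QuotientGroup.lift E Q₁ (fun g hg => hQ₁E g hg)
      let P₁ : Subgroup A₁ := P.map (QuotientGroup.mk' E)
      have hP₁n : P₁.Normal := hPn.map _ (QuotientGroup.mk'_surjective E)
      have hP₁ : IsPGroup p P₁ := hP.map _
      have hcard : Nat.card P₁ ≤ k := by
        have h1 : Nat.card P₁ < Nat.card P := by
          let f : P →* P₁ := (QuotientGroup.mk' E).subgroupMap P
          have hf : Function.Surjective f := (QuotientGroup.mk' E).subgroupMap_surjective P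
          refine lt_of_le_of_ne (Nat.card_le_card_of_surjective f hf) fun heq => ?_
          have hbij : Function.Bijective f :=
            (Nat.bijective_iff_surjective_and_card f).2 ⟨hf, heq.symm⟩
          apply hEne
          rw [eq_bot_iff]
          intro x hx
          have h2 : f ⟨x, hEP hx⟩ = f 1 := by
            apply Subtype.ext
            show QuotientGroup.mk' E x = QuotientGroup.mk' E 1
            rw [map_one]
            exact (QuotientGroup.eq_one_iff x).2 hx
          have h3 := hbij.1 h2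
          exact Subgroup.mem_bot.2 (congrArg Subtype.val h3)
        omega
      have hCC : ∀ x, x ∈ C → x ∈ C₁ := by
        intro x hx
        rw [hC₁]
        intro g hg
        exact (hC x).1 hx g (hEP hg)
      let C' : Subgroup C₁ := C.subgroupOf C₁
      have hC' : ∀ x : C₁, x ∈ C' ↔ ∀ g ∈ P₁, α₁ g x = x := by
        intro x
        rw [Subgroup.mem_subgroupOf, hC]
        constructor
        · rintro h _ ⟨g, hg, rfl⟩
          exact Subtype.ext (h g hg)
        · intro h g hg
          exact congrArg Subtype.val (h _ ⟨g, hg, rfl⟩)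
      have hC₁p : ¬ p ∣ Nat.card C₁ := D.hCp
      obtain ⟨m, T', e', hm, hT', he', hgl', Q', hQ', hQ'P, hQ's⟩ := ih C₁ A₁ hC₁p α₁ P₁ hP₁n hP₁
        hcard m₁ T₁ hT₁ hm₁ S₁ (by
          intro a c
          obtain ⟨a, rfl⟩ := QuotientGroup.mk'_surjective E a
          exact hQ₁ a c) C' hC'
      let ee : C ≃* C' := (Subgroup.subgroupOfEquivOfLe (H := C) (K := C₁) hCC).symm
      have hee : ∀ c : C, ((ee c : C₁) : N) = c := fun c => rfl
      refine ⟨m, T'.comp ee.toMonoidHom, e₁ * e', hm, hT'.comp_equiv _, ?_, fun c => ?_,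
        Q'.comp (QuotientGroup.mk' E), fun a c c' h => ?_, fun g hg => ?_, fun a c h1 h2 h3 => ?_⟩
      · rw [Nat.cast_mul, mul_pow, he₁, he', one_mul]
      · obtain ⟨d', hd', h'⟩ := hgl' (ee c)
        obtain ⟨d₁, hd₁, h₁⟩ := hgl₁ (ee c : C₁)
        refine ⟨e₁ * d' + d₁, ((isIntegral_natCast _).mul hd').add hd₁, ?_⟩
        rw [hee] at h₁
        rw [h₁, h']
        show _ = _ * (T' (ee c)).trace + _
        push_cast
        ring
      · show Q' (QuotientGroup.mk' E a) * T' (ee c) = T' (ee c') * Q' (QuotientGroup.mk' E a)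
        refine hQ' _ _ _ ?_
        apply Subtype.ext
        exact h
      · exact hQ'P _ ⟨g, hg, rfl⟩
      · show Q' (QuotientGroup.mk' E a) = T' (ee c)
        have h4 := hQ₁s a (ee c : C₁) (fun g hg => h1 g (hEP hg)) (by rw [hee]; exact h2)
          (by rw [hee]; exact h3)
        refine hQ's _ _ ?_ ?_ h4
        · rintro _ ⟨g, hg, rfl⟩
          rw [← map_mul, ← map_mul, h1 g hg]
        · intro x
          apply Subtype.ext
          exact h2 x

end Cfsg.Agent.H640
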