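import Mathlib
import Cfsg.Agent.H640.Bridge

/-!
# The finite covering group of an invariant irreducible representation (helper640)
-/

set_option autoImplicit false
set_option linter.unusedSectionVars false

namespace Cfsg.Agent.H640

open Module Matrix

/-- An invariant irreducible representation. -/
structure IData (A C : Type*) [Group A] [Group C] [Fintype C] (m : ℕ) where
  α : A →* MulAut C
  T : C →* Matrix (Fin m) (Fin m) ℂ
  hT : Orth T
  hm : 0 < m
  htr : ∀ a c, (T (α a c)).trace = (T c).trace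

namespace IData

variable {A C : Type*} [Group A] [Group C] [Fintype C] {m : ℕ} (D : IData A C m)

/-- Every operator is implemented on `T`. -/
theorem exists_impl (a : A) : ∃ M : Matrix (Fin m) (Fin m) ℂ, IsUnit M ∧
    ∀ c : C, M * D.T c = D.T (D.α a c) * M := by
  classical
  -- the pairing does not vanish
  have hne : ∑ c : C, (D.T (D.α a c)).trace * (D.T c⁻¹).trace ≠ 0 := by
    have h1 : ∑ c : C, (D.T (D.α a c)).trace * (D.T c⁻¹).trace =
        ∑ c : C, (D.T c⁻¹).trace * (D.T c).trace :=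
      Finset.sum_congr rfl fun c _ => by rw [D.htr, mul_comm]
    have h2 := D.hT.sum_trace
    have h3 : (m : ℂ) ≠ 0 := Nat.cast_ne_zero.2 D.hm.ne'
    rw [h1, mul_left_cancel₀ h3 h2]
    exact Nat.cast_ne_zero.2 Nat.card_pos.ne'
  -- an intertwiner
  obtain ⟨X, hX⟩ : ∃ X : Matrix (Fin m) (Fin m) ℂ,
      ∑ c : C, D.T (D.α a c) * X * D.T c⁻¹ ≠ 0 := by
    by_contra hcon
    push Not at hcon
    apply hne
    have h1 : ∀ c : C, (D.T (D.α a c)).trace * (D.T c⁻¹).trace =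
        ∑ i, ∑ j, (D.T (D.α a c) * (Matrix.single i j 1 : Matrix (Fin m) (Fin m) ℂ) *
          D.T c⁻¹ : Matrix (Fin m) (Fin m) ℂ) i j := by
      intro c
      rw [Matrix.trace, Matrix.trace, Finset.sum_mul_sum]
      refine Finset.sum_congr rfl fun i _ => Finset.sum_congr rfl fun j _ => ?_
      rw [Matrix.mul_apply, Finset.sum_eq_single j]
      · rw [Matrix.mul_apply, Finset.sum_eq_single i]
        · simp
        · intro l _ hl
          simp [Ne.symm hl]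
        · simp
      · intro l _ hl
        rw [Matrix.mul_apply, Finset.sum_eq_zero, zero_mul]
        intro l' _
        simp [Ne.symm hl]
      · simp
    simp only [h1]
    rw [Finset.sum_comm]
    refine Finset.sum_eq_zero fun i _ => ?_
    rw [Finset.sum_comm]
    refine Finset.sum_eq_zero fun j _ => ?_
    have h2 := congrFun (congrFun (hcon (Matrix.single i j 1)) i) j
    rw [Matrix.sum_apply] at h2
    exact h2
  set M₁ := ∑ c : C, D.T (D.α a c) * X * D.T c⁻¹ with hM₁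
  have hcomm : ∀ d : C, M₁ * D.T d = D.T (D.α a d) * M₁ := by
    intro d
    rw [hM₁, Matrix.sum_mul, Matrix.mul_sum,
      ← Equiv.sum_comp (Equiv.mulLeft d) (fun c : C => D.T (D.α a c) * X * D.T c⁻¹ * D.T d)]
    refine Finset.sum_congr rfl fun c _ => ?_
    have h1 : (d * c)⁻¹ * d = c⁻¹ := by group
    show D.T (D.α a (d * c)) * X * D.T (d * c)⁻¹ * D.T d = _
    rw [Matrix.mul_assoc _ _ (D.T d), ← map_mul D.T (d * c)⁻¹ d, h1, map_mul, map_mul]
    simp only [Matrix.mul_assoc]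
  obtain ⟨i, j, hij⟩ : ∃ i j, M₁ i j ≠ 0 := by
    by_contra hcon
    push Not at hcon
    exact hX (by ext i j; exact hcon i j)
  let Y : Matrix (Fin m) (Fin m) ℂ := Matrix.single j i 1
  have hY : (Y * M₁).trace ≠ 0 := by
    rw [Matrix.trace_single_mul, one_smul]
    exact hij
  have h1 : (m : ℂ) • ((∑ c : C, D.T c * Y * D.T (D.α a c)⁻¹) * M₁) =
      (Nat.card C : ℂ) • ((Y * M₁).trace • (1 : Matrix _ _ ℂ)) := by
    rw [← D.hT.avg, Matrix.sum_mul]
    congr 1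
    refine Finset.sum_congr rfl fun c _ => ?_
    have h2 : D.T (D.α a c)⁻¹ * M₁ = M₁ * D.T c⁻¹ := by rw [hcomm, map_inv (D.α a) c]
    rw [Matrix.mul_assoc, h2]
    simp only [Matrix.mul_assoc]
  have hC0 : (Nat.card C : ℂ) ≠ 0 := Nat.cast_ne_zero.2 Nat.card_pos.ne'
  refine ⟨M₁, ?_, hcomm⟩
  have h2 : (((Nat.card C : ℂ) * (Y * M₁).trace)⁻¹ * m) •
      (∑ c : C, D.T c * Y * D.T (D.α a c)⁻¹) * M₁ = 1 := by
    rw [Matrix.smul_mul, ← smul_smul, h1, smul_smul, smul_smul,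
      mul_assoc, inv_mul_cancel₀ (mul_ne_zero hC0 hY), one_smul]
  exact IsUnit.of_mul_eq_one_right _ h2

/-- implementers of determinant one -/
theorem exists_impl_det (a : A) : ∃ M : GL (Fin m) ℂ, (M : Matrix (Fin m) (Fin m) ℂ).det = 1 ∧
    ∀ c : C, (M : Matrix (Fin m) (Fin m) ℂ) * D.T c =
      D.T (D.α a c) * (M : Matrix (Fin m) (Fin m) ℂ) := by
  obtain ⟨M, hM, h⟩ := D.exists_impl a
  have hdet : M.det ≠ 0 := by
    rw [Matrix.isUnit_iff_isUnit_det] at hM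
    exact hM.ne_zero
  obtain ⟨z, hz⟩ := IsAlgClosed.exists_pow_nat_eq (M.det)⁻¹ D.hm
  have h1 : (z • M).det = 1 := by
    rw [Matrix.det_smul, Fintype.card_fin, hz, inv_mul_cancel₀ hdet]
  refine ⟨Matrix.GeneralLinearGroup.mkOfDetNeZero (z • M) (by rw [h1]; exact one_ne_zero), h1,
    fun c => ?_⟩
  show (z • M) * D.T c = D.T (D.α a c) * (z • M)
  rw [Matrix.smul_mul, h, Matrix.mul_smul]

/-- The covering group. -/
def Lh : Subgroup (A × GL (Fin m) ℂ) where
  carrier := {x | (∀ c : C, (x.2 : Matrix (Fin m) (Fin m) ℂ) * D.T c =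
    D.T (D.α x.1 c) * (x.2 : Matrix (Fin m) (Fin m) ℂ)) ∧
    (x.2 : Matrix (Fin m) (Fin m) ℂ).det ^ Nat.card C = 1}
  one_mem' := by
    refine ⟨fun c => ?_, ?_⟩
    · show (1 : Matrix (Fin m) (Fin m) ℂ) * D.T c = D.T (D.α 1 c) * (1 : Matrix _ _ ℂ)
      rw [Matrix.one_mul, Matrix.mul_one, map_one, MulAut.one_apply]
    · show (1 : Matrix (Fin m) (Fin m) ℂ).det ^ _ = 1
      rw [Matrix.det_one, one_pow]
  mul_mem' := by
    rintro ⟨a, M⟩ ⟨b, M'⟩ ⟨h1, h2⟩ ⟨h3, h4⟩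
    refine ⟨fun c => ?_, ?_⟩
    · show ((M : Matrix (Fin m) (Fin m) ℂ) * (M' : Matrix (Fin m) (Fin m) ℂ)) * D.T c =
        D.T (D.α (a * b) c) * ((M : Matrix (Fin m) (Fin m) ℂ) * (M' : Matrix (Fin m) (Fin m) ℂ))
      rw [Matrix.mul_assoc, h3 c, ← Matrix.mul_assoc]
      simp only at h1 ⊢
      rw [h1, map_mul, MulAut.mul_apply, Matrix.mul_assoc]
    · show ((M : Matrix (Fin m) (Fin m) ℂ) * (M' : Matrix (Fin m) (Fin m) ℂ)).det ^ _ = 1
      rw [Matrix.det_mul, mul_pow, h2, h4, one_mul]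
  inv_mem' := by
    rintro ⟨a, M⟩ ⟨h1, h2⟩
    have hM : (M : Matrix (Fin m) (Fin m) ℂ) * ((M⁻¹ : GL (Fin m) ℂ) : Matrix (Fin m) (Fin m) ℂ) =
        1 := by rw [← Units.val_mul, mul_inv_cancel, Units.val_one]
    have hM' : ((M⁻¹ : GL (Fin m) ℂ) : Matrix (Fin m) (Fin m) ℂ) * (M : Matrix (Fin m) (Fin m) ℂ) =
        1 := by rw [← Units.val_mul, inv_mul_cancel, Units.val_one]
    refine ⟨fun c => ?_, ?_⟩
    · show ((M⁻¹ : GL (Fin m) ℂ) : Matrix (Fin m) (Fin m) ℂ) * D.T c =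
        D.T (D.α a⁻¹ c) * ((M⁻¹ : GL (Fin m) ℂ) : Matrix (Fin m) (Fin m) ℂ)
      have h3 := h1 (D.α a⁻¹ c)
      simp only at h3
      have h4 : D.α a (D.α a⁻¹ c) = c := by
        rw [← MulAut.mul_apply, ← map_mul, mul_inv_cancel, map_one, MulAut.one_apply]
      rw [h4] at h3
      calc ((M⁻¹ : GL (Fin m) ℂ) : Matrix (Fin m) (Fin m) ℂ) * D.T c
          = ((M⁻¹ : GL (Fin m) ℂ) : Matrix (Fin m) (Fin m) ℂ) * (D.T c *
              (M : Matrix (Fin m) (Fin m) ℂ)) *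
              ((M⁻¹ : GL (Fin m) ℂ) : Matrix (Fin m) (Fin m) ℂ) := by
            rw [Matrix.mul_assoc, Matrix.mul_assoc, hM, Matrix.mul_one]
        _ = _ := by
            rw [← h3, ← Matrix.mul_assoc, hM', Matrix.one_mul]
    · show ((M⁻¹ : GL (Fin m) ℂ) : Matrix (Fin m) (Fin m) ℂ).det ^ _ = 1
      have h3 : (M : Matrix (Fin m) (Fin m) ℂ).det *
          ((M⁻¹ : GL (Fin m) ℂ) : Matrix (Fin m) (Fin m) ℂ).det = 1 := by
        rw [← Matrix.det_mul, hM, Matrix.det_one]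
      have h4 := congrArg (· ^ Nat.card C) h3
      simp only [mul_pow, one_pow] at h4
      simp only at h2
      rw [h2, one_mul] at h4
      exact h4

/-- the matrix of an element of the covering group -/
def mat : D.Lh →* Matrix (Fin m) (Fin m) ℂ where
  toFun h := ((h : A × GL (Fin m) ℂ).2 : Matrix (Fin m) (Fin m) ℂ)
  map_one' := rfl
  map_mul' _ _ := rfl

/-- the projection -/
def pr : D.Lh →* A where
  toFun h := (h : A × GL (Fin m) ℂ).1
  map_one' := rfl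
  map_mul' _ _ := rfl

theorem mat_comm (h : D.Lh) (c : C) : D.mat h * D.T c = D.T (D.α (D.pr h) c) * D.mat h := h.2.1 c

theorem mat_det (h : D.Lh) : (D.mat h).det ^ Nat.card C = 1 := h.2.2

theorem card_C_ne : (Nat.card C : ℂ) ≠ 0 := Nat.cast_ne_zero.2 Nat.card_pos.ne'

include D in
theorem m_ne : (m : ℂ) ≠ 0 := Nat.cast_ne_zero.2 D.hm.ne'

theorem exists_scalar {M : Matrix (Fin m) (Fin m) ℂ} (hM : ∀ c, M * D.T c = D.T c * M) :
    ∃ z : ℂ, M = z • (1 : Matrix (Fin m) (Fin m) ℂ) :=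
  ⟨_, D.hT.scalar D.m_ne card_C_ne hM⟩

theorem finite_Lh [Finite A] : Finite D.Lh := by
  classical
  choose M₀ hM₀ hM₀' using D.exists_impl_det
  let Z : Set ℂ := {z | z ^ (m * Nat.card C) = 1}
  have hpos : 0 < m * Nat.card C := Nat.mul_pos D.hm Nat.card_pos
  have hZ : Z.Finite := by
    refine (Polynomial.nthRoots (m * Nat.card C) (1 : ℂ)).toFinset.finite_toSet.subset ?_
    intro z hz
    rw [Finset.mem_coe, Multiset.mem_toFinset, Polynomial.mem_nthRoots hpos]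
    exact hz
  have := hZ.to_subtype
  have hinvr : ∀ a, (M₀ a : Matrix (Fin m) (Fin m) ℂ) *
      (((M₀ a)⁻¹ : GL (Fin m) ℂ) : Matrix (Fin m) (Fin m) ℂ) = 1 := fun a => by
    rw [← Units.val_mul, mul_inv_cancel, Units.val_one]
  have hinvl : ∀ a, (((M₀ a)⁻¹ : GL (Fin m) ℂ) : Matrix (Fin m) (Fin m) ℂ) *
      (M₀ a : Matrix (Fin m) (Fin m) ℂ) = 1 := fun a => by
    rw [← Units.val_mul, inv_mul_cancel, Units.val_one]
  have hex : ∀ h : D.Lh, ∃ z : ℂ, D.mat h = z • (M₀ (D.pr h) : Matrix (Fin m) (Fin m) ℂ) := by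
    intro h
    obtain ⟨z, hz⟩ := D.exists_scalar (M := (((M₀ (D.pr h))⁻¹ : GL (Fin m) ℂ) :
      Matrix (Fin m) (Fin m) ℂ) * D.mat h) (fun c => by
        rw [Matrix.mul_assoc, mat_comm, ← Matrix.mul_assoc, ← Matrix.mul_assoc]
        congr 1
        calc (((M₀ (D.pr h))⁻¹ : GL (Fin m) ℂ) : Matrix (Fin m) (Fin m) ℂ) *
              D.T (D.α (D.pr h) c)
            = (((M₀ (D.pr h))⁻¹ : GL (Fin m) ℂ) : Matrix (Fin m) (Fin m) ℂ) *
              (D.T (D.α (D.pr h) c) * (M₀ (D.pr h) : Matrix (Fin m) (Fin m) ℂ)) *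
              (((M₀ (D.pr h))⁻¹ : GL (Fin m) ℂ) : Matrix (Fin m) (Fin m) ℂ) := by
              rw [Matrix.mul_assoc, Matrix.mul_assoc, hinvr, Matrix.mul_one]
          _ = _ := by
              rw [← hM₀', ← Matrix.mul_assoc, hinvl, Matrix.one_mul])
    refine ⟨z, ?_⟩
    have h1 := congrArg (fun M => (M₀ (D.pr h) : Matrix (Fin m) (Fin m) ℂ) * M) hz
    simp only [Matrix.mul_smul, Matrix.mul_one] at h1
    rw [← Matrix.mul_assoc, hinvr, Matrix.one_mul] at h1
    exact h1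
  choose z hz using hex
  have hz' : ∀ h, z h ∈ Z := by
    intro h
    have h1 := D.mat_det h
    rw [hz, Matrix.det_smul, Fintype.card_fin, hM₀, mul_one, ← pow_mul] at h1
    exact h1
  refine Finite.of_injective (fun h : D.Lh => ((D.pr h, ⟨z h, hz' h⟩) : A × Z)) ?_
  intro h h' hh
  have hh' : (D.pr h, (⟨z h, hz' h⟩ : Z)) = (D.pr h', ⟨z h', hz' h'⟩) := hh
  have h1 : D.pr h = D.pr h' := (Prod.mk.inj hh').1
  have h2 : z h = z h' := congrArg Subtype.val (Prod.mk.inj hh').2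
  have h3 : D.mat h = D.mat h' := by rw [hz, hz, h1, h2]
  exact Subtype.ext (Prod.ext h1 (Units.ext h3))

theorem pr_surjective : Function.Surjective D.pr := by
  intro a
  obtain ⟨M, h1, h2⟩ := D.exists_impl_det a
  exact ⟨⟨(a, M), h2, by
    show (M : Matrix (Fin m) (Fin m) ℂ).det ^ _ = 1
    rw [h1, one_pow]⟩, rfl⟩

end IData

end Cfsg.Agent.H640
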