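import Mathlib
import Cfsg.Agent.H640.Cover
import Cfsg.Agent.H640.Chain

/-!
# The finite covering group (helper640), part 2: the kernel, normal subgroups, lifting `p`-subgroups
-/

set_option autoImplicit false
set_option linter.unusedSectionVars false

namespace Cfsg.Agent.H640

open Module Matrix IsLocalRing Cfsg

theorem dim_dvd {C : Type*} [Group C] [Fintype C] {m : ℕ} {T : C →* Matrix (Fin m) (Fin m) ℂ}
    (hT : Orth T) (hm : 0 < m) : m ∣ Nat.card C := by
  have h := Cfsg.Agent.H593.GlaubermanP.charDegree_dvd (isIrr_of_orth hT hm)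
  have h1 : charDegree (fun x : C => (T x).trace) = m := by
    rw [charDegree, map_one, Matrix.trace_one, Fintype.card_fin, Complex.natCast_re, Nat.floor_natCast]
  rwa [h1] at h

namespace IData

variable {A C : Type*} [Group A] [Group C] [Fintype C] {m : ℕ} (D : IData A C m)

theorem ker_scalar (h : D.Lh) (hh : D.pr h = 1) : ∃ z : ℂ,
    D.mat h = z • (1 : Matrix (Fin m) (Fin m) ℂ) ∧ z ^ (m * Nat.card C) = 1 := by
  obtain ⟨z, hz⟩ := D.exists_scalar (M := D.mat h) (fun c => by
    rw [mat_comm, hh, map_one, MulAut.one_apply])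
  refine ⟨z, hz, ?_⟩
  have h4 := D.mat_det h
  rw [hz, Matrix.det_smul, Fintype.card_fin, Matrix.det_one, mul_one, ← pow_mul] at h4
  exact h4

theorem ext_Lh {h h' : D.Lh} (h1 : D.pr h = D.pr h') (h2 : D.mat h = D.mat h') : h = h' :=
  Subtype.ext (Prod.ext h1 (Units.ext h2))

theorem ker_le_center : D.pr.ker ≤ Subgroup.center D.Lh := by
  intro h hh
  rw [MonoidHom.mem_ker] at hh
  obtain ⟨z, hz, -⟩ := D.ker_scalar h hh
  rw [Subgroup.mem_center_iff]
  intro g
  apply D.ext_Lh
  · rw [map_mul, map_mul, hh, one_mul, mul_one]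
  · rw [map_mul, map_mul, hz, Matrix.smul_mul, Matrix.mul_smul, Matrix.one_mul, Matrix.mul_one]

theorem pow_ker (h : D.Lh) (hh : D.pr h = 1) : h ^ (m * Nat.card C) = 1 := by
  obtain ⟨z, hz, hz'⟩ := D.ker_scalar h hh
  apply D.ext_Lh
  · rw [map_pow, hh, one_pow, map_one]
  · rw [map_pow, hz, smul_pow, hz', one_smul, one_pow, map_one]

include D in
theorem not_dvd_exp {p : ℕ} [hp : Fact p.Prime] (hC : ¬ p ∣ Nat.card C) :
    ¬ p ∣ m * Nat.card C := by
  intro h
  rcases hp.out.dvd_mul.1 h with h | h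
  · exact hC (h.trans (dim_dvd D.hT D.hm))
  · exact hC h

theorem not_dvd_ker {p : ℕ} [hp : Fact p.Prime] (hC : ¬ p ∣ Nat.card C) [Finite A] :
    ¬ p ∣ Nat.card D.pr.ker := by
  intro h
  have := D.finite_Lh
  obtain ⟨x, hx⟩ := exists_prime_orderOf_dvd_card' p h
  have h1 : (x : D.Lh) ^ (m * Nat.card C) = 1 := D.pow_ker x x.2
  have h2 : x ^ (m * Nat.card C) = 1 := Subtype.ext h1
  have h3 := orderOf_dvd_of_pow_eq_one h2
  rw [hx] at h3
  exact D.not_dvd_exp hC h3

end IData

/-- a group with a central `p'`-subgroup such that the quotient maps onto a `p'`-group -/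
theorem not_dvd_comap {X Y : Type*} [Group X] [Group Y] [Finite X] {p : ℕ} [hp : Fact p.Prime]
    (f : X →* Y) (hker : ¬ p ∣ Nat.card f.ker) (K : Subgroup Y) (hK : ¬ p ∣ Nat.card K) :
    ¬ p ∣ Nat.card (K.comap f) := by
  intro h
  obtain ⟨x, hx⟩ := exists_prime_orderOf_dvd_card' p h
  have hxK : f x ∈ K := x.2
  have h0 : (x : X) ^ p = 1 := by
    have h2 : x ^ p = 1 := by rw [← hx, pow_orderOf_eq_one]
    exact congrArg Subtype.val h2
  have h1 : (⟨f x, hxK⟩ : K) ^ p = 1 := by
    apply Subtype.ext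
    show f x ^ p = 1
    rw [← map_pow, h0, map_one]
  have h2 : (⟨f x, hxK⟩ : K) = 1 := by
    have h3 := orderOf_dvd_of_pow_eq_one h1
    rcases (Nat.dvd_prime hp.out).1 h3 with h4 | h4
    · exact orderOf_eq_one_iff.1 h4
    · exfalso
      apply hK
      rw [← h4]
      exact orderOf_dvd_natCard _
  have h3 : (x : X) ∈ f.ker := congrArg Subtype.val h2
  have h4 : orderOf (⟨(x : X), h3⟩ : f.ker) = p := by
    have h5 : orderOf (⟨(x : X), h3⟩ : f.ker) = orderOf (x : X) := by
      rw [← Subgroup.orderOf_coe]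
    rw [h5, Subgroup.orderOf_coe, hx]
  apply hker
  rw [← h4]
  exact orderOf_dvd_natCard _

/-- lifting a normal `p`-subgroup along a surjection with a central kernel of order prime to `p` -/
theorem exists_lift {X Y : Type*} [Group X] [Group Y] [Finite X] {p : ℕ} [hp : Fact p.Prime]
    (f : X →* Y) (hf : Function.Surjective f) (hc : f.ker ≤ Subgroup.center X) (P : Subgroup Y) (hPn : P.Normal) (hP : IsPGroup p P) :
    ∃ Q : Subgroup X, Q.Normal ∧ IsPGroup p Q ∧ Q.map f = P := by
  classical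
  let K : Subgroup X := P.comap f
  have hKn : K.Normal := hPn.comap f
  obtain ⟨S⟩ : Nonempty (Sylow p K) := inferInstance
  let Q : Subgroup X := (S : Subgroup K).map K.subtype
  have hQK : Q ≤ K := Subgroup.map_subtype_le _
  have hQp : IsPGroup p Q := S.isPGroup'.map _
  have hfin : Finite Y := Finite.of_surjective f hf
  have hQP : Q.map f = P := by
    have hle : Q.map f ≤ P := by
      rintro _ ⟨x, hx, rfl⟩
      exact hQK hx
    -- the index of `Q.map f` in `P` is prime to `p`
    refine le_antisymm hle ?_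
    have h1 : ¬ p ∣ (Q.map f).relIndex P := by
      intro h
      have h2 : (Q.map f).relIndex P ∣ (S : Subgroup K).index := by
        have h3 : (Q.map f).relIndex P = ((Q.map f).comap f).relIndex K :=
          (Subgroup.relIndex_comap (Q.map f) f K).symm ▸ by
            rw [Subgroup.map_comap_eq_self_of_surjective hf]
        rw [h3]
        have h4 : (S : Subgroup K) ≤ ((Q.map f).comap f).subgroupOf K := by
          intro s hs
          exact ⟨(s : X), ⟨s, hs, rfl⟩, rfl⟩
        exact Subgroup.index_dvd_of_le h4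
      exact S.not_dvd_index (h.trans h2)
    have h2 : (Q.map f).relIndex P = 1 := by
      obtain ⟨k, hk⟩ := (IsPGroup.iff_card.1 hP)
      have h3 : (Q.map f).relIndex P ∣ p ^ k := by
        rw [← hk]
        exact Subgroup.index_dvd_card _
      obtain ⟨j, -, hj⟩ := (Nat.dvd_prime_pow hp.out).1 h3
      rcases Nat.eq_zero_or_pos j with h4 | h4
      · rw [hj, h4, pow_zero]
      · exfalso
        apply h1
        rw [hj]
        exact dvd_pow_self p h4.ne'
    exact Subgroup.relIndex_eq_one.1 h2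
  have hdec : ∀ x ∈ K, ∃ q ∈ Q, ∃ z ∈ f.ker, x = q * z := by
    intro x hx
    have h1 : f x ∈ Q.map f := by rw [hQP]; exact hx
    obtain ⟨q, hq, hq'⟩ := h1
    refine ⟨q, hq, q⁻¹ * x, ?_, by group⟩
    rw [MonoidHom.mem_ker, map_mul, map_inv, hq', inv_mul_cancel]
  have hSn : (S : Subgroup K).Normal := by
    refine ⟨fun s hs x => ?_⟩
    obtain ⟨q, ⟨q', hq', hqq⟩, z, hz, hx⟩ := hdec x x.2
    have hzc := Subgroup.mem_center_iff.1 (hc hz)
    have h1 : x * s * x⁻¹ = q' * s * q'⁻¹ := by
      apply Subtype.ext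
      show (x : X) * s * (x : X)⁻¹ = q' * s * (q' : X)⁻¹
      have hqq' : (q' : X) = q := hqq
      rw [hx, hqq']
      calc q * z * (s : X) * (q * z)⁻¹ = q * (z * (s : X)) * z⁻¹ * q⁻¹ := by group
        _ = q * ((s : X) * z) * z⁻¹ * q⁻¹ := by rw [hzc]
        _ = _ := by group
    rw [h1]
    exact mul_mem (mul_mem hq' hs) (inv_mem hq')
  have hchar : (S : Subgroup K).Characteristic := S.characteristic_of_normal hSn
  have hQn : Q.Normal := ConjAct.normal_of_characteristic_of_normal
  exact ⟨Q, hQn, hQp, hQP⟩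

end Cfsg.Agent.H640
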