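import Mathlib
import Cfsg.Agent.H640.Cover2

/-!
# The invariant case (helper640), part 1

`N` a normal `p'`-subgroup of `G`, `P` a `p`-subgroup, `H` its normalizer, `R` an invariant irreducible
representation of `N`. There is a central extension of `G` to which `R` extends, and the Glauberman
correspondent of `R` extends to the inverse image of `H`, with the same central character.
-/

set_option autoImplicit false
set_option linter.unusedSectionVars false

namespace Cfsg.Agent.H640

open Module Matrix IsLocalRing Cfsg

section Setup

variable {G : Type*} [Group G] [Finite G] {p : ℕ} [hp : Fact p.Prime]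
  (N : Subgroup G) [hN : N.Normal] [Fintype N] {n : ℕ} (R : N →* Matrix (Fin n) (Fin n) ℂ)
  (hR : Orth R) (hn : 0 < n)
  (hinv : ∀ (g : G) (x : N), (R (MulAut.conjNormal g x)).trace = (R x).trace)

/-- the invariant representation of a normal subgroup -/
def toI : IData G N n := ⟨MulAut.conjNormal, R, hR, hn, hinv⟩

/-- the embedding of `N` into the covering group -/
def nu : N →* (toI N R hR hn hinv).Lh where
  toFun x := ⟨((x : G), (R.toHomUnits x : (Matrix (Fin n) (Fin n) ℂ)ˣ)), fun c => by
    show R x * R c = R (MulAut.conjNormal (x : G) c) * R x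
    rw [← map_mul, ← map_mul]
    congr 1
    apply Subtype.ext
    rw [Subgroup.coe_mul, Subgroup.coe_mul, MulAut.conjNormal_apply, mul_assoc, mul_assoc,
      inv_mul_cancel, mul_one], by
    show (R x).det ^ Nat.card N = 1
    rw [← Matrix.det_pow, ← map_pow, pow_card_eq_one', map_one, Matrix.det_one]⟩
  map_one' := by
    apply Subtype.ext
    apply Prod.ext
    · rfl
    · apply Units.ext
      exact map_one R
  map_mul' x y := by
    apply Subtype.ext
    apply Prod.ext
    · rfl
    · apply Units.ext
      exact map_mul R x y

theorem pr_nu (x : N) : (toI N R hR hn hinv).pr (nu N R hR hn hinv x) = x := rfl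

theorem mat_nu (x : N) : (toI N R hR hn hinv).mat (nu N R hR hn hinv x) = R x := rfl

theorem conj_nu (d : (toI N R hR hn hinv).Lh) (x : N) :
    d * nu N R hR hn hinv x * d⁻¹ =
      nu N R hR hn hinv (MulAut.conjNormal ((toI N R hR hn hinv).pr d) x) := by
  rw [mul_inv_eq_iff_eq_mul]
  apply IData.ext_Lh
  · rw [map_mul, map_mul, pr_nu, pr_nu, MulAut.conjNormal_apply, inv_mul_cancel_right]
  · rw [map_mul, map_mul, mat_nu, mat_nu]
    exact (toI N R hR hn hinv).mat_comm d x

theorem range_nu_normal : (nu N R hR hn hinv).range.Normal := by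
  refine ⟨?_⟩
  rintro _ ⟨x, rfl⟩ d
  exact ⟨_, (conj_nu N R hR hn hinv d x).symm⟩

end Setup

end Cfsg.Agent.H640
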