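import Mathlib
import Cfsg.Agent.H640.Inv1

/-!
# The invariant case (helper640), part 2: the extension of the Glauberman correspondent
-/

set_option autoImplicit false
set_option linter.unusedSectionVars false

namespace Cfsg.Agent.H640

open Module Matrix IsLocalRing Cfsg

/-- scalars of order prime to `p` with a congruence are equal -/
theorem scalar_eq {p : ℕ} [hp : Fact p.Prime] {n m e r : ℕ} (he : (e : ZMod p) ^ 2 = 1)
    (hm : ¬ p ∣ m) (hr : ¬ p ∣ r) {l l' d d₁ : ℂ} (hd : IsIntegral ℤ d) (hd₁ : IsIntegral ℤ d₁)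
    (hl : l ^ r = 1) (hl' : l' ^ r = 1) (h1 : (n : ℂ) = e * m + p * d₁)
    (h2 : n * l = e * (m * l') + p * d) : l = l' := by
  obtain ⟨B, hB⟩ := exists_valRing p
  have hr0 : r ≠ 0 := fun h => hr (h ▸ dvd_zero p)
  obtain ⟨L, hL⟩ : ∃ L : B, (L : ℂ) = l := ⟨⟨l, mem_of_pow_eq_one hr0 hl⟩, rfl⟩
  obtain ⟨L', hL'⟩ : ∃ L : B, (L : ℂ) = l' := ⟨⟨l', mem_of_pow_eq_one hr0 hl'⟩, rfl⟩
  obtain ⟨D, hD⟩ : ∃ D : B, (D : ℂ) = d := ⟨⟨d, mem_of_isIntegral hd⟩, rfl⟩
  obtain ⟨D₁, hD₁⟩ : ∃ D : B, (D : ℂ) = d₁ := ⟨⟨d₁, mem_of_isIntegral hd₁⟩, rfl⟩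
  have h3 : (e : B) * m * (L - L') = p * (D - D₁ * L) := by
    apply Subtype.ext
    push_cast
    rw [hL, hL', hD, hD₁]
    have : (n : ℂ) * l = (e * m + p * d₁) * l := by rw [h1]
    linear_combination h2 - this
  have h4 := congrArg (residue B) h3
  rw [map_mul, map_mul, map_mul, map_natCast, map_natCast, map_natCast,
    CharP.cast_eq_zero (ResidueField B) p, zero_mul, map_sub] at h4
  have he' : (e : ResidueField B) ≠ 0 := by
    intro h0
    have h5 := congrArg (ZMod.castHom (dvd_refl p) (ResidueField B)) he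
    rw [map_pow, map_natCast, map_one, h0] at h5
    simp at h5
  have hm' : (m : ResidueField B) ≠ 0 := SData.cast_ne B hm
  have h5 : residue B L = residue B L' := by
    rcases mul_eq_zero.1 h4 with h6 | h6
    · exact absurd h6 (mul_ne_zero he' hm')
    · exact sub_eq_zero.1 h6
  have h6 : L = L' := by
    refine eq_of_residue hr ?_ ?_ h5
    · apply Subtype.ext
      show (L : ℂ) ^ r = 1
      rw [hL, hl]
    · apply Subtype.ext
      show (L' : ℂ) ^ r = 1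
      rw [hL', hl']
  rw [← hL, ← hL', h6]

/-- **The extension of the Glauberman correspondent, in the covering group.** -/
theorem inv_core {G : Type*} [Group G] [Finite G] {p : ℕ} [hp : Fact p.Prime]
    (N : Subgroup G) [hN : N.Normal] [Fintype N] (hpN : ¬ p ∣ Nat.card N)
    (P : Subgroup G) (hP : IsPGroup p P) (H : Subgroup G)
    (hH : H = Subgroup.normalizer (P : Set G)) [Fintype (N.subgroupOf H)]
    {Δ : Type*} [Group Δ] [Finite Δ] (π : Δ →* G) (hπ : Function.Surjective π)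
    (hZp : ¬ p ∣ Nat.card π.ker) (hZ : π.ker ≤ Subgroup.center Δ)
    (ν : N →* Δ) (hν : ∀ x, π (ν x) = x)
    {n : ℕ} (hn : 0 < n) (V : Δ →* Matrix (Fin n) (Fin n) ℂ) (hV : Orth (V.comp ν)) :
    ∃ (m : ℕ) (Q : (H.comap π) →* Matrix (Fin m) (Fin m) ℂ) (φ : IrrCharacter (N.subgroupOf H))
      (e : ℕ), (e : ZMod p) ^ 2 = 1 ∧
      (∀ (x : N) (hx : (x : G) ∈ H),
        (Q ⟨ν x, by rw [Subgroup.mem_comap, hν]; exact hx⟩).trace =
          (φ : N.subgroupOf H → ℂ) ⟨⟨(x : G), hx⟩, x.2⟩) ∧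
      (∀ z (hz : z ∈ π.ker), ∃ l : ℂ, V z = l • (1 : Matrix (Fin n) (Fin n) ℂ) ∧ Q ⟨z, by
        rw [Subgroup.mem_comap, MonoidHom.mem_ker.1 hz]; exact one_mem _⟩ =
          l • (1 : Matrix (Fin m) (Fin m) ℂ)) ∧
      ∀ (x : N) (hx : (x : G) ∈ H), ∃ d : ℂ, IsIntegral ℤ d ∧
        (V (ν x)).trace = e * (φ : N.subgroupOf H → ℂ) ⟨⟨(x : G), hx⟩, x.2⟩ + p * d := by
  classical
  have hnC : (n : ℂ) ≠ 0 := Nat.cast_ne_zero.2 hn.ne'
  have hNC : (Nat.card N : ℂ) ≠ 0 := Nat.cast_ne_zero.2 Nat.card_pos.ne'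
  -- groups
  let Hh : Subgroup Δ := H.comap π
  let Nh : Subgroup Δ := N.comap π
  have hNhn : Nh.Normal := hN.comap π
  have : Fintype Nh := Fintype.ofFinite _
  have hNhp : ¬ p ∣ Nat.card Nh := not_dvd_comap π hZp N hpN
  let π' : Hh →* H := (π.comp Hh.subtype).codRestrict H (fun a => a.2)
  have hπ'c : ∀ a : Hh, ((π' a : H) : G) = π a := fun a => rfl
  have hπ's : Function.Surjective π' := by
    intro y
    obtain ⟨a, ha⟩ := hπ y
    exact ⟨⟨a, by show π a ∈ H; rw [ha]; exact y.2⟩, Subtype.ext ha⟩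
  have hπ'k : ∀ a : Hh, a ∈ π'.ker ↔ (a : Δ) ∈ π.ker := by
    intro a
    rw [MonoidHom.mem_ker, MonoidHom.mem_ker]
    constructor
    · intro h
      exact congrArg Subtype.val h
    · intro h
      exact Subtype.ext h
  have hπ'c' : π'.ker ≤ Subgroup.center Hh := by
    intro a ha
    rw [Subgroup.mem_center_iff]
    intro b
    exact Subtype.ext (Subgroup.mem_center_iff.1 (hZ ((hπ'k a).1 ha)) b)
  let PH : Subgroup H := P.subgroupOf H
  have hPHn : PH.Normal := by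
    refine ⟨fun x hx g => ?_⟩
    rw [Subgroup.mem_subgroupOf] at hx ⊢
    have hg : (g : G) ∈ Subgroup.normalizer (P : Set G) := hH ▸ g.2
    exact (Subgroup.mem_normalizer_iff.1 hg x).1 hx
  have hPHp : IsPGroup p PH := hP.comap_subtype
  obtain ⟨Pp, hPpn, hPpp, hPpmap⟩ := exists_lift π' hπ's hπ'c' PH hPHn hPHp
  -- action
  let α : Hh →* MulAut Nh := (MulAut.conjNormal (H := Nh)).comp Hh.subtype
  have hα : ∀ (a : Hh) (x : Nh), ((α a x : Nh) : Δ) = a * x * (a : Δ)⁻¹ := fun a x =>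
    MulAut.conjNormal_apply _ _
  let R : Nh →* Matrix (Fin n) (Fin n) ℂ := V.comp Nh.subtype
  have hR : Orth R := by
    refine orth_of_scalar hn fun M hM => ?_
    refine ⟨_, hV.scalar hnC hNC fun x => ?_⟩
    exact hM ⟨ν x, by show π (ν x) ∈ N; rw [hν]; exact x.2⟩
  let S : Hh →* Matrix (Fin n) (Fin n) ℂ := V.comp Hh.subtype
  have hS : ∀ a x, S a * R x = R (α a x) * S a := by
    intro a x
    show V a * V x = V ((α a x : Nh) : Δ) * V a
    rw [hα, ← map_mul, ← map_mul, inv_mul_cancel_right]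
  let C : Subgroup Nh := fixSub α Pp
  have : Fintype C := Fintype.ofFinite _
  obtain ⟨m, T, e, hm, hT, he, hgl, Q, hQ, hQP, hQs⟩ := thmD_aux p (Nat.card Pp) Nh Hh hNhp α Pp
    hPpn hPpp le_rfl n R hR hn S hS C (fun x => Iff.rfl)
  have hmC : (m : ℂ) ≠ 0 := Nat.cast_ne_zero.2 hm.ne'
  have hCC : (Nat.card C : ℂ) ≠ 0 := Nat.cast_ne_zero.2 Nat.card_pos.ne'
  -- elements of `Nh ∩ Hh` commute with `Pp`
  have hcop : ∀ x : Δ, x ∈ Nh → ∀ hx : x ∈ Hh, (⟨x, hx⟩ : Hh) ∈ Pp → x = 1 := by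
    intro x hxN hx hxP
    obtain ⟨j, hj⟩ := hPpp ⟨⟨x, hx⟩, hxP⟩
    have hj' : x ^ p ^ j = 1 := congrArg (fun t : Pp => ((t : Hh) : Δ)) hj
    have h1 : (⟨x, hxN⟩ : Nh) ^ p ^ j = 1 := Subtype.ext hj'
    have h2 : (⟨x, hxN⟩ : Nh) ^ Nat.card Nh = 1 := pow_card_eq_one'
    have h3 : Nat.gcd (p ^ j) (Nat.card Nh) = 1 :=
      Nat.Coprime.pow_left j ((Nat.Prime.coprime_iff_not_dvd hp.out).2 hNhp)
    have h4 := pow_gcd_eq_one.2 ⟨h1, h2⟩
    rw [h3, pow_one] at h4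
    exact congrArg Subtype.val h4
  have hcomm : ∀ (x : Δ) (hxN : x ∈ Nh) (hx : x ∈ Hh), ∀ g ∈ Pp,
      (⟨x, hx⟩ : Hh) * g = g * ⟨x, hx⟩ := by
    intro x hxN hx g hg
    have h1 : (⟨x, hx⟩ : Hh) * g * (⟨x, hx⟩ : Hh)⁻¹ * g⁻¹ ∈ Pp :=
      mul_mem (hPpn.conj_mem g hg _) (inv_mem hg)
    have h2 : x * g * x⁻¹ * (g : Δ)⁻¹ ∈ Nh := by
      have h3 : x * g * x⁻¹ * (g : Δ)⁻¹ = x * ((g : Δ) * x⁻¹ * (g : Δ)⁻¹) := by group
      rw [h3]
      exact mul_mem hxN (hNhn.conj_mem _ (inv_mem hxN) _)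
    have h4 := hcop _ h2 (mul_mem (mul_mem (mul_mem hx g.2) (inv_mem hx)) (inv_mem g.2)) h1
    apply Subtype.ext
    show x * g = g * x
    exact mul_inv_eq_iff_eq_mul.1 (mul_inv_eq_one.1 h4)
  have hmemC : ∀ (x : Δ) (hxN : x ∈ Nh), x ∈ Hh → (⟨x, hxN⟩ : Nh) ∈ C := by
    intro x hxN hx g hg
    apply Subtype.ext
    rw [hα]
    have h1 := congrArg Subtype.val (hcomm x hxN hx g hg)
    have h2 : x * (g : Δ) = g * x := h1
    show (g : Δ) * x * (g : Δ)⁻¹ = x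
    rw [← h2, mul_inv_cancel_right]
  -- the value of `Q` on `Nh ∩ Hh`
  have hQT : ∀ (x : Δ) (hxN : x ∈ Nh) (hx : x ∈ Hh),
      Q ⟨x, hx⟩ = T ⟨⟨x, hxN⟩, hmemC x hxN hx⟩ := by
    intro x hxN hx
    refine hQs ⟨x, hx⟩ _ (hcomm x hxN hx) (fun y => ?_) rfl
    apply Subtype.ext
    rw [hα]
    rfl
  -- elements of `C` lie in `Hh`
  have hCH : ∀ c : C, ((c : Nh) : Δ) ∈ Hh := by
    intro c
    show π ((c : Nh) : Δ) ∈ H
    rw [hH, Subgroup.mem_normalizer_iff]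
    have h1 : ∀ y ∈ P, π ((c : Nh) : Δ) * y * (π ((c : Nh) : Δ))⁻¹ = y := by
      intro y hy
      have hyH : y ∈ H := hH ▸ (Subgroup.le_normalizer hy)
      have h2 : (⟨y, hyH⟩ : H) ∈ Pp.map π' := by rw [hPpmap]; exact hy
      obtain ⟨g, hg, hgy⟩ := h2
      have h3 : π (g : Δ) = y := congrArg Subtype.val hgy
      have h4 : ((g : Hh) : Δ) * ((c : Nh) : Δ) * ((g : Hh) : Δ)⁻¹ = ((c : Nh) : Δ) :=
        congrArg Subtype.val (c.2 g hg)
      have h5 : ((c : Nh) : Δ) * g * ((c : Nh) : Δ)⁻¹ = g := by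
        rw [mul_inv_eq_iff_eq_mul] at h4 ⊢
        exact h4.symm
      rw [← h3, ← map_mul, ← map_inv, ← map_mul, h5]
    intro y
    constructor
    · intro hy
      rw [h1 y hy]
      exact hy
    · intro hy
      have h2 := h1 _ hy
      have h3 : π ((c : Nh) : Δ) * (π ((c : Nh) : Δ) * y * (π ((c : Nh) : Δ))⁻¹) *
          (π ((c : Nh) : Δ))⁻¹ = π ((c : Nh) : Δ) * y * (π ((c : Nh) : Δ))⁻¹ := h2
      have h4 : π ((c : Nh) : Δ) * y * (π ((c : Nh) : Δ))⁻¹ = y := by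
        have h5 := mul_right_cancel h3
        exact mul_left_cancel h5
      rw [h4] at hy
      exact hy
  -- the kernel of `π`
  have hkerN : ∀ z ∈ π.ker, z ∈ Nh := by
    intro z hz
    show π z ∈ N
    rw [MonoidHom.mem_ker.1 hz]
    exact one_mem _
  have hkerH : ∀ z ∈ π.ker, z ∈ Hh := by
    intro z hz
    show π z ∈ H
    rw [MonoidHom.mem_ker.1 hz]
    exact one_mem _
  have hsc : ∀ (z : Δ) (hz : z ∈ π.ker),
      ∃ l' : ℂ, T ⟨⟨z, hkerN z hz⟩, hmemC z (hkerN z hz) (hkerH z hz)⟩ =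
        l' • (1 : Matrix (Fin m) (Fin m) ℂ) := by
    intro z hz
    refine ⟨_, hT.scalar hmC hCC fun c => ?_⟩
    rw [← map_mul, ← map_mul]
    congr 1
    apply Subtype.ext
    apply Subtype.ext
    show z * ((c : Nh) : Δ) = ((c : Nh) : Δ) * z
    exact (Subgroup.mem_center_iff.1 (hZ hz) _).symm
  -- the character of `N ∩ H`
  let T' : N.subgroupOf H →* Matrix (Fin m) (Fin m) ℂ :=
    { toFun := fun x => Q ⟨ν ⟨((x : H) : G), x.2⟩, by
        show π (ν _) ∈ H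
        rw [hν]
        exact (x : H).2⟩
      map_one' := by
        have h1 : (⟨ν ⟨(((1 : N.subgroupOf H) : H) : G), (1 : N.subgroupOf H).2⟩, by
          show π (ν _) ∈ H
          rw [hν]
          exact ((1 : N.subgroupOf H) : H).2⟩ : Hh) = 1 := by
          apply Subtype.ext
          show ν ⟨(((1 : N.subgroupOf H) : H) : G), (1 : N.subgroupOf H).2⟩ = 1
          rw [← map_one ν]
          rfl
        rw [h1, map_one]
      map_mul' := fun x y => by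
        rw [← map_mul]
        congr 1
        apply Subtype.ext
        show ν _ = ν _ * ν _
        rw [← map_mul]
        rfl }
  have hT'T : ∀ (x : N.subgroupOf H), T' x = T ⟨⟨ν ⟨((x : H) : G), x.2⟩, by
      show π (ν _) ∈ N
      rw [hν]
      exact x.2⟩, hmemC _ _ (by
        show π (ν _) ∈ H
        rw [hν]
        exact (x : H).2)⟩ := fun x => hQT _ _ _
  have hT' : Orth T' := by
    refine orth_of_scalar hm fun M hM => ?_
    refine ⟨_, hT.scalar hmC hCC fun c => ?_⟩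
    -- `c = ν x * z`
    have hcN : π ((c : Nh) : Δ) ∈ N := (c : Nh).2
    have hcH : π ((c : Nh) : Δ) ∈ H := hCH c
    let x : N.subgroupOf H := ⟨⟨π ((c : Nh) : Δ), hcH⟩, hcN⟩
    let z : Δ := (ν ⟨π ((c : Nh) : Δ), hcN⟩)⁻¹ * ((c : Nh) : Δ)
    have hz : z ∈ π.ker := by
      rw [MonoidHom.mem_ker]
      show π ((ν ⟨π ((c : Nh) : Δ), hcN⟩)⁻¹ * ((c : Nh) : Δ)) = 1
      rw [map_mul, map_inv, hν, inv_mul_cancel]
    obtain ⟨l', hl'⟩ := hsc z hz
    have h1 : T c = l' • T' x := by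
      have h2 : c = ⟨⟨ν ⟨((x : H) : G), x.2⟩, by
        show π (ν _) ∈ N
        rw [hν]
        exact x.2⟩, hmemC _ _ (by
          show π (ν _) ∈ H
          rw [hν]
          exact (x : H).2)⟩ * ⟨⟨z, hkerN z hz⟩, hmemC z (hkerN z hz) (hkerH z hz)⟩ := by
        apply Subtype.ext
        apply Subtype.ext
        show ((c : Nh) : Δ) = ν ⟨π ((c : Nh) : Δ), hcN⟩ *
          ((ν ⟨π ((c : Nh) : Δ), hcN⟩)⁻¹ * ((c : Nh) : Δ))
        rw [mul_inv_cancel_left]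
      conv_lhs => rw [h2]
      rw [map_mul, hl', hT'T, Matrix.mul_smul, Matrix.mul_one]
    rw [h1, Matrix.mul_smul, Matrix.smul_mul, hM]
  refine ⟨m, Q, ⟨_, isIrr_of_orth hT' hm⟩, e, he, fun x hx => rfl, fun z hz => ?_,
    fun x hx => ?_⟩
  · -- scalars
    obtain ⟨l', hl'⟩ := hsc z hz
    have hVz : V z = ((V z).trace / n) • (1 : Matrix (Fin n) (Fin n) ℂ) := by
      refine hV.scalar hnC hNC fun x => ?_
      rw [MonoidHom.comp_apply, ← map_mul, ← map_mul,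
        Subgroup.mem_center_iff.1 (hZ hz) (ν x)]
    set l := (V z).trace / n with hl
    have hr : ¬ p ∣ Nat.card π.ker := hZp
    have hz1 : z ^ Nat.card π.ker = 1 := by
      have h1 : (⟨z, hz⟩ : π.ker) ^ Nat.card π.ker = 1 := pow_card_eq_one'
      exact congrArg Subtype.val h1
    have hlr : l ^ Nat.card π.ker = 1 := by
      have h1 : V z ^ Nat.card π.ker = 1 := by rw [← map_pow, hz1, map_one]
      rw [hVz, smul_pow, one_pow] at h1
      have h2 := congrFun (congrFun h1 ⟨0, hn⟩) ⟨0, hn⟩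
      simpa using h2
    have hlr' : l' ^ Nat.card π.ker = 1 := by
      have h1 : T ⟨⟨z, hkerN z hz⟩, hmemC z (hkerN z hz) (hkerH z hz)⟩ ^ Nat.card π.ker = 1 := by
        rw [← map_pow]
        have h2 : (⟨⟨z, hkerN z hz⟩, hmemC z (hkerN z hz) (hkerH z hz)⟩ : C) ^ Nat.card π.ker = 1 :=
          Subtype.ext (Subtype.ext hz1)
        rw [h2, map_one]
      rw [hl', smul_pow, one_pow] at h1
      have h2 := congrFun (congrFun h1 ⟨0, hm⟩) ⟨0, hm⟩
      simpa using h2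
    have hmp : ¬ p ∣ m := by
      have hCp : ¬ p ∣ Nat.card C := fun h => hNhp (h.trans (Subgroup.card_subgroup_dvd_card C))
      exact fun h => hCp (h.trans (dim_dvd hT hm))
    obtain ⟨d₁, hd₁, h₁⟩ := hgl 1
    rw [map_one, OneMemClass.coe_one, map_one, Matrix.trace_one, Matrix.trace_one, Fintype.card_fin,
      Fintype.card_fin] at h₁
    obtain ⟨d, hd, h₂⟩ := hgl ⟨⟨z, hkerN z hz⟩, hmemC z (hkerN z hz) (hkerH z hz)⟩
    have h₃ : R ⟨z, hkerN z hz⟩ = V z := rfl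
    rw [h₃, hVz, hl', Matrix.trace_smul, Matrix.trace_one, Fintype.card_fin, Matrix.trace_smul,
      Matrix.trace_one, Fintype.card_fin, smul_eq_mul, smul_eq_mul] at h₂
    have hll : l = l' := scalar_eq he hmp hr hd hd₁ hlr hlr' h₁ (by
      linear_combination h₂)
    refine ⟨l, hVz, ?_⟩
    rw [hQT z (hkerN z hz) (hkerH z hz), hl', hll]
  · obtain ⟨d, hd, h₂⟩ := hgl ⟨⟨ν x, by
      show π (ν _) ∈ N
      rw [hν]
      exact x.2⟩, hmemC _ _ (by
        show π (ν _) ∈ H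
        rw [hν]
        exact hx)⟩
    refine ⟨d, hd, ?_⟩
    have h3 := hT'T ⟨⟨(x : G), hx⟩, x.2⟩
    show (V (ν x)).trace = e * (T' ⟨⟨(x : G), hx⟩, x.2⟩).trace + p * d
    rw [h3]
    exact h₂

end Cfsg.Agent.H640
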