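import Mathlib
import Cfsg.Agent.H640.Inv2
import Cfsg.Agent.H637.TaskA

/-!
# The invariant case (helper640), part 3: the perfect isometry
-/

set_option autoImplicit false
set_option linter.unusedSectionVars false

namespace Cfsg.Agent.H640

open Module Matrix IsLocalRing Cfsg
open Cfsg.Agent.Characters.Core

/-- the multiplicity from a congruence -/
theorem mult_of_congr {p : ℕ} [hp : Fact p.Prime] {C : Type*} [Group C] [Fintype C]
    (hC : ¬ p ∣ Nat.card C) {θ φ : C → ℂ} (hθ : IsCharacter C θ) (hφ : IsIrrCharacter C φ)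
    {e : ℕ} (he : (e : ZMod p) ^ 2 = 1)
    (h : ∀ c, ∃ d : ℂ, IsIntegral ℤ d ∧ θ c = e * φ c + p * d) :
    ∃ k : ℕ, classInner θ φ = k ∧ ¬ p ∣ k := by
  classical
  obtain ⟨k, hk⟩ := classInner_isNat hθ (isIrr_isCharacter hφ)
  refine ⟨k, hk, fun hpk => ?_⟩
  choose d hd hd' using h
  obtain ⟨B, hB⟩ := exists_valRing p
  have hC0 : (Nat.card C : ℂ) ≠ 0 := Nat.cast_ne_zero.2 Nat.card_pos.ne'
  have h1 : ∑ c : C, φ c * (starRingEnd ℂ) (φ c) = Nat.card C := by
    have h2 := classInner_irr_self hφ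
    rw [classInner, inv_mul_eq_one₀ hC0] at h2
    exact h2.symm
  have h2 : ∑ c : C, θ c * (starRingEnd ℂ) (φ c) = Nat.card C * k := by
    rw [classInner] at hk
    rw [← hk, mul_inv_cancel_left₀ hC0]
  have hint : ∀ c, IsIntegral ℤ ((starRingEnd ℂ) (φ c)) := by
    intro c
    rw [← isCharacter_apply_inv (isIrr_isCharacter hφ)]
    obtain ⟨l, ρ, -, hρ⟩ := hφ
    rw [← hρ]
    exact Cfsg.Agent.Characters.AverageRoots.isIntegral_character ρ _
  have hδ : IsIntegral ℤ (∑ c : C, d c * (starRingEnd ℂ) (φ c)) :=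
    IsIntegral.sum _ fun c _ => (hd c).mul (hint c)
  have h3 : (Nat.card C : ℂ) * k = e * Nat.card C + p * ∑ c : C, d c * (starRingEnd ℂ) (φ c) := by
    rw [← h2, ← h1, Finset.mul_sum, Finset.mul_sum, ← Finset.sum_add_distrib]
    refine Finset.sum_congr rfl fun c _ => ?_
    rw [hd' c]
    ring
  have h4 : (Nat.card C : B) * k = e * Nat.card C + p * ⟨_, mem_of_isIntegral hδ⟩ := by
    apply Subtype.ext
    push_cast
    exact h3
  have h5 := congrArg (residue B) h4
  rw [map_add, map_mul, map_mul, map_mul, map_natCast, map_natCast, map_natCast, map_natCast,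
    CharP.cast_eq_zero (ResidueField B) p, zero_mul, add_zero,
    (CharP.cast_eq_zero_iff (ResidueField B) p k).2 hpk, mul_zero] at h5
  have h6 : (Nat.card C : ResidueField B) ≠ 0 := SData.cast_ne B hC
  have he' : (e : ResidueField B) ≠ 0 := by
    intro h0
    have h5 := congrArg (ZMod.castHom (dvd_refl p) (ResidueField B)) he
    rw [map_pow, map_natCast, map_one, h0] at h5
    simp at h5
  exact mul_ne_zero he' h6 h5.symm

/-- **The invariant case.** -/
theorem thmI {G : Type*} [Group G] [Fintype G] (p : ℕ) [Fact p.Prime] (M : Ideal AlgInt)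
    (hM : IsPModular p M) (N : Subgroup G) [hN : N.Normal] [Fintype N] (hpN : ¬ p ∣ Nat.card N)
    (P : Subgroup G) (hP : IsPGroup p P) (H : Subgroup G)
    (hH : H = Subgroup.normalizer (P : Set G)) [Fintype H] [Fintype (N.subgroupOf H)]
    (hNH : N ⊔ H = ⊤) (θ : IrrCharacter N)
    (hinv : ∀ (g : G) (n : N), (θ : N → ℂ) ⟨g * n * g⁻¹, hN.conj_mem n n.2 g⟩ = (θ : N → ℂ) n) :
    ∃ (φ : IrrCharacter (N.subgroupOf H)) (e : ℕ),
      classInner (fun x : N.subgroupOf H => (θ : N → ℂ) ⟨((x : H) : G), x.2⟩)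
        (φ : N.subgroupOf H → ℂ) = e ∧ ¬ p ∣ e ∧
      (∀ (h : H) (x : N.subgroupOf H), (φ : N.subgroupOf H → ℂ)
        ⟨h * x * h⁻¹, (hN.subgroupOf H).conj_mem x x.2 h⟩ = (φ : N.subgroupOf H → ℂ) x) ∧
      ∃ (I : IrrCharacter H → IrrCharacter G) (ε : IrrCharacter H → ℤ), IsPerfectIsometry p M
      {ψ : IrrCharacter H | classInner (fun x : N.subgroupOf H => (ψ : H → ℂ) x)
        (φ : N.subgroupOf H → ℂ) ≠ 0}
      {χ : IrrCharacter G | classInner (fun x : N => (χ : G → ℂ) x) (θ : N → ℂ) ≠ 0} I ε := by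
  classical
  obtain ⟨n, R, hn, hR, hRθ⟩ := exists_orth θ.2
  have hinv' : ∀ (g : G) (x : N), (R (MulAut.conjNormal g x)).trace = (R x).trace := by
    intro g x
    rw [hRθ, hRθ, ← hinv g x]
    congr 1
  let D := toI N R hR hn hinv'
  have hfin := D.finite_Lh
  let π := D.pr
  have hπ : Function.Surjective π := D.pr_surjective
  have hZp : ¬ p ∣ Nat.card π.ker := D.not_dvd_ker hpN
  have hZ : π.ker ≤ Subgroup.center D.Lh := D.ker_le_center
  let ν := nu N R hR hn hinv'
  have hν : ∀ x, π (ν x) = x := fun x => rfl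
  have hVν : (D.mat).comp ν = R := rfl
  obtain ⟨m, Q, φ, e, he, hQφ, hQz, hcong⟩ := inv_core (p := p) N hpN P hP H hH π hπ hZp hZ ν hν hn
    D.mat (by rw [hVν]; exact hR)
  have hpC : ¬ p ∣ Nat.card (N.subgroupOf H) := by
    intro h
    apply hpN
    refine h.trans ?_
    exact Subgroup.card_dvd_of_injective
      (({ toFun := fun x => ⟨((x : H) : G), x.2⟩
          map_one' := rfl
          map_mul' := fun _ _ => rfl } : N.subgroupOf H →* N)) (fun x y hxy =>
        Subtype.ext (Subtype.ext (congrArg (fun t : N => (t : G)) hxy)))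
  have hθc : IsCharacter (N.subgroupOf H)
      (fun x : N.subgroupOf H => (θ : N → ℂ) ⟨((x : H) : G), x.2⟩) :=
    isCharacter_comp (({ toFun := fun x => ⟨((x : H) : G), x.2⟩
                         map_one' := rfl
                         map_mul' := fun _ _ => rfl } : N.subgroupOf H →* N))
      (isIrr_isCharacter θ.2)
  obtain ⟨k, hk, hpk⟩ := mult_of_congr (p := p) hpC hθc φ.2 he (fun x => by
    obtain ⟨d, hd, hd'⟩ := hcong ⟨((x : H) : G), x.2⟩ (x : H).2
    refine ⟨d, hd, ?_⟩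
    rw [← hRθ]
    exact hd')
  refine ⟨φ, k, hk, hpk, fun h x => ?_, ?_⟩
  · -- invariance
    obtain ⟨a, ha⟩ := hπ (h : G)
    have haH : a ∈ H.comap π := by
      show π a ∈ H
      rw [ha]
      exact h.2
    have h1 := hQφ ⟨((x : H) : G), x.2⟩ (x : H).2
    have hcH : ((h * x * h⁻¹ : H) : G) ∈ H := (h * x * h⁻¹ : H).2
    have hcN : ((h * x * h⁻¹ : H) : G) ∈ N := hN.conj_mem ((x : H) : G) x.2 (h : G)
    have h2 := hQφ ⟨((h * x * h⁻¹ : H) : G), hcN⟩ hcH
    have h3 : (⟨ν ⟨((h * x * h⁻¹ : H) : G), hcN⟩, by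
        rw [Subgroup.mem_comap, hν]; exact hcH⟩ : H.comap π) =
        ⟨a, haH⟩ * ⟨ν ⟨((x : H) : G), x.2⟩, by
          rw [Subgroup.mem_comap, hν]; exact (x : H).2⟩ * ⟨a, haH⟩⁻¹ := by
      apply Subtype.ext
      show ν _ = a * ν _ * a⁻¹
      rw [conj_nu]
      congr 1
      apply Subtype.ext
      rw [MulAut.conjNormal_apply]
      have h4 : D.pr a = h := ha
      rw [h4]
      rfl
    rw [h3, map_mul, map_mul, Matrix.trace_mul_comm, ← Matrix.mul_assoc, ← map_mul, inv_mul_cancel,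
      map_one, Matrix.one_mul, h1] at h2
    exact h2.symm
  · choose l hl using hQz
    refine Cfsg.Agent.H637.TaskA.taskA p M hM N hpN H hNH θ φ π hπ hZp hZ ν hν
      (range_nu_normal N R hR hn hinv') D.mat Q (fun x => hRθ x) hQφ
      (fun z => if hz : z ∈ π.ker then l z hz else 0) (fun z hz => ?_) (fun z hz => ?_)
    · rw [dif_pos hz]
      exact (hl z hz).1
    · simp only [dif_pos hz]
      exact (hl z hz).2

end Cfsg.Agent.H640
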